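import Mathlib
import Cfsg.Prelude.Def_Local
set_option linter.all false

/-!
Basic facts on `p`-constrained groups (`Cfsg.IsPConstrained`).
-/

set_option autoImplicit false

namespace Cfsg.Agent.PLocal.PConstrained

open Subgroup

variable {G H : Type*} [Group G] [Group H] {p : ℕ}

/-! ### Orders and coprimality -/

theorem card_mul_relIndex_eq {A B : Subgroup G} (h : A ≤ B) :
    Nat.card A * A.relIndex B = Nat.card B := by
  have h1 := Subgroup.relIndex_mul_relIndex ⊥ A B bot_le h
  simpa [Subgroup.relIndex_bot_left] using h1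

theorem card_sup_dvd (A K : Subgroup G) [K.Normal] :
    Nat.card ↥(A ⊔ K) ∣ Nat.card A * Nat.card K := by
  have h1 : Nat.card K * K.relIndex (A ⊔ K) = Nat.card ↥(A ⊔ K) :=
    card_mul_relIndex_eq le_sup_right
  rw [← h1, Subgroup.relIndex_sup_right, mul_comm]
  exact Nat.mul_dvd_mul_right (Subgroup.relIndex_dvd_card _ _) _

theorem inf_eq_bot_of_isPGroup_of_coprime [Finite G] [Fact p.Prime] {P K : Subgroup G}
    (hP : IsPGroup p P) (hK : (Nat.card K).Coprime p) : P ⊓ K = ⊥ := by
  obtain ⟨n, hn⟩ := IsPGroup.iff_card.mp hP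
  refine (Subgroup.disjoint_of_coprime_natCard ?_).eq_bot
  rw [hn]
  exact Nat.Coprime.pow_left n hK.symm

theorem card_map_dvd (f : G →* H) (A : Subgroup G) : Nat.card (A.map f) ∣ Nat.card A :=
  Subgroup.card_dvd_of_surjective _ (f.subgroupMap_surjective A)

/-! ### The cores -/

theorem isPGroup_pCore (p : ℕ) (G : Type*) [Group G] : IsPGroup p (pCore p G) :=
  Sylow.sSup_of_normal _ (fun _ h => h.2) (fun _ h => h.1)

theorem le_pCore {N : Subgroup G} (hN : N.Normal) (h : IsPGroup p N) : N ≤ pCore p G :=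
  le_sSup ⟨hN, h⟩

theorem le_pPrimeCore {N : Subgroup G} (hN : N.Normal) (h : (Nat.card N).Coprime p) :
    N ≤ pPrimeCore p G :=
  le_sSup ⟨hN, h⟩

theorem coprime_card_sSup [Finite G] {s : Set (Subgroup G)}
    (hs : ∀ N ∈ s, N.Normal ∧ (Nat.card N).Coprime p) :
    (Nat.card ↥(sSup s)).Coprime p := by
  have hfin : s.Finite := Set.toFinite s
  induction s, hfin using Set.Finite.induction_on with
  | empty => simp
  | @insert a s _ _ ih =>
    have h1 := ih (fun N hN => hs N (Set.mem_insert_of_mem _ hN))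
    have h2 := hs a (Set.mem_insert _ _)
    have : (sSup s).Normal :=
      Subgroup.sSup_normal _ (fun N hN => (hs N (Set.mem_insert_of_mem _ hN)).1)
    rw [sSup_insert]
    exact Nat.Coprime.coprime_dvd_left (card_sup_dvd a (sSup s)) (Nat.Coprime.mul_left h2.2 h1)

theorem coprime_card_pPrimeCore (p : ℕ) (G : Type*) [Group G] [Finite G] :
    (Nat.card (pPrimeCore p G)).Coprime p :=
  coprime_card_sSup (fun _ h => h)

/-- `O_p` is mapped into `O_p` by surjective homomorphisms. -/
theorem map_pCore_le (f : G →* H) (hf : Function.Surjective f) :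
    (pCore p G).map f ≤ pCore p H :=
  le_pCore ((pCore_normal p G).map f hf) ((isPGroup_pCore p G).map f)

theorem map_pCore_equiv (e : G ≃* H) : (pCore p G).map e.toMonoidHom = pCore p H := by
  refine le_antisymm (map_pCore_le _ e.surjective) ?_
  intro y hy
  have h1 : e.symm y ∈ pCore p G :=
    map_pCore_le e.symm.toMonoidHom e.symm.surjective (Subgroup.mem_map_of_mem _ hy)
  exact ⟨e.symm y, h1, e.apply_symm_apply y⟩

/-! ### Normalizers and centralizers modulo a normal `p'`-subgroup -/

/-- Frattini-type argument: if `f (x P x⁻¹) ≤ f P` with `P` a `p`-group and `ker f` of order prime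
to `p`, then `n x` normalizes `P` for some `n ∈ ker f`. -/
theorem exists_mul_mem_normalizer [Finite G] [Fact p.Prime] (f : G →* H)
    (hk : (Nat.card f.ker).Coprime p) {P : Subgroup G} (hP : IsPGroup p P) (x : G)
    (hx : ∀ y ∈ P, f (x * y * x⁻¹) ∈ P.map f) :
    ∃ n ∈ f.ker, n * x ∈ normalizer (P : Set G) := by
  set K := f.ker with hK
  set S := P ⊔ K with hS
  have hPS : P ≤ S := le_sup_left
  set P2 : Subgroup G := P.map (MulAut.conj x).toMonoidHom with hP2
  have hP2S : P2 ≤ S := by
    rintro _ ⟨y, hy, rfl⟩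
    obtain ⟨z, hz, hzy⟩ := hx y hy
    have h1 : z⁻¹ * (x * y * x⁻¹) ∈ K := by
      rw [hK, MonoidHom.mem_ker, map_mul, ← hzy, map_inv, inv_mul_cancel]
    have h2 : (MulAut.conj x).toMonoidHom y = z * (z⁻¹ * (x * y * x⁻¹)) := by
      simp [MulAut.conj_apply]
    rw [h2]
    exact S.mul_mem (hPS hz) (le_sup_right (a := P) h1)
  have hcard2 : Nat.card P2 = Nat.card P :=
    Nat.card_congr (P.equivMapOfInjective _ (MulAut.conj x).injective).toEquiv.symm
  have hP2p : IsPGroup p P2 := hP.map _
  have hcardP : Nat.card P ≠ 0 := Nat.card_pos.ne'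
  have hidx : P.relIndex S ∣ Nat.card K := by
    have h1 := card_mul_relIndex_eq hPS
    have h2 := card_sup_dvd P K
    rw [← hS, ← h1] at h2
    exact Nat.dvd_of_mul_dvd_mul_left (Nat.pos_of_ne_zero hcardP) h2
  have hidx2 : P2.relIndex S = P.relIndex S := by
    have h1 := card_mul_relIndex_eq hPS
    have h2 := card_mul_relIndex_eq hP2S
    rw [hcard2, ← h1] at h2
    exact Nat.eq_of_mul_eq_mul_left (Nat.pos_of_ne_zero hcardP) h2
  have hnd : ¬ p ∣ (P.subgroupOf S).index := by
    intro h
    have h1 : p ∣ Nat.card K := h.trans hidx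
    exact (Fact.out : p.Prime).one_lt.ne' (Nat.Coprime.eq_one_of_dvd hk.symm h1)
  have hnd2 : ¬ p ∣ (P2.subgroupOf S).index := by
    have : (P2.subgroupOf S).index = (P.subgroupOf S).index := hidx2
    rwa [this]
  let Q1 : Sylow p S := (hP.comap_subtype (K := S)).toSylow hnd
  let Q2 : Sylow p S := (hP2p.comap_subtype (K := S)).toSylow hnd2
  obtain ⟨s, hs⟩ := MulAction.exists_smul_eq S Q2 Q1
  have hconj : ∀ y ∈ P, (s : G) * (x * y * x⁻¹) * (s : G)⁻¹ ∈ P := by
    intro y hy
    have h1 : x * y * x⁻¹ ∈ P2 := ⟨y, hy, rfl⟩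
    have h2 : (⟨x * y * x⁻¹, hP2S h1⟩ : S) ∈ (Q2 : Subgroup S) := h1
    have h3 : s * ⟨x * y * x⁻¹, hP2S h1⟩ * s⁻¹ ∈ (s • Q2 : Sylow p S) :=
      ⟨⟨x * y * x⁻¹, hP2S h1⟩, h2, rfl⟩
    rw [hs] at h3
    exact h3
  obtain ⟨a, ha, n, hn, han⟩ := Subgroup.mem_sup_of_normal_right.mp s.2
  refine ⟨n, hn, Subgroup.mem_normalizer_fintype fun y hy => ?_⟩
  have h1 := hconj y hy
  rw [← han] at h1
  have h2 : a⁻¹ * (a * n * (x * y * x⁻¹) * (a * n)⁻¹) * a ∈ P :=
    P.mul_mem (P.mul_mem (P.inv_mem ha) h1) ha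
  have h3 : a⁻¹ * (a * n * (x * y * x⁻¹) * (a * n)⁻¹) * a = n * x * y * (n * x)⁻¹ := by group
  rwa [h3] at h2

theorem map_normalizer_eq [Finite G] [Fact p.Prime] (f : G →* H) (hf : Function.Surjective f)
    (hk : (Nat.card f.ker).Coprime p) {P : Subgroup G} (hP : IsPGroup p P) :
    (normalizer (P : Set G)).map f = normalizer ((P.map f : Subgroup H) : Set H) := by
  refine le_antisymm (Subgroup.le_normalizer_map f) ?_
  intro h hh
  obtain ⟨x, rfl⟩ := hf h
  have hx : ∀ y ∈ P, f (x * y * x⁻¹) ∈ P.map f := by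
    intro y hy
    rw [map_mul, map_mul, map_inv]
    exact (Subgroup.mem_normalizer_iff.mp hh _).mp (Subgroup.mem_map_of_mem f hy)
  obtain ⟨n, hn, hnx⟩ := exists_mul_mem_normalizer f hk hP x hx
  refine ⟨n * x, hnx, ?_⟩
  rw [map_mul, MonoidHom.mem_ker.mp hn, one_mul]

theorem map_centralizer_eq [Finite G] [Fact p.Prime] (f : G →* H) (hf : Function.Surjective f)
    (hk : (Nat.card f.ker).Coprime p) {P : Subgroup G} (hP : IsPGroup p P) :
    (centralizer (P : Set G)).map f = centralizer ((P.map f : Subgroup H) : Set H) := by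
  apply le_antisymm
  · rintro _ ⟨x, hx, rfl⟩
    rw [Subgroup.mem_centralizer_iff]
    rintro _ ⟨y, hy, rfl⟩
    rw [← map_mul, ← map_mul, Subgroup.mem_centralizer_iff.mp hx y hy]
  · intro h hh
    have hh' : h ∈ normalizer ((P.map f : Subgroup H) : Set H) :=
      Subgroup.centralizer_le_normalizer _ hh
    rw [← map_normalizer_eq f hf hk hP] at hh'
    obtain ⟨z, hz, rfl⟩ := hh'
    refine ⟨z, ?_, rfl⟩
    rw [SetLike.mem_coe, Subgroup.mem_centralizer_iff]
    intro y hy
    have h1 : z * y * z⁻¹ ∈ P := (Subgroup.mem_normalizer_iff.mp hz y).mp hy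
    have h2 : z * y * z⁻¹ * y⁻¹ ∈ P ⊓ f.ker := by
      refine ⟨P.mul_mem h1 (P.inv_mem hy), ?_⟩
      have h3 := Subgroup.mem_centralizer_iff.mp hh (f y) (Subgroup.mem_map_of_mem f hy)
      change z * y * z⁻¹ * y⁻¹ ∈ f.ker
      rw [MonoidHom.mem_ker, map_mul, map_mul, map_mul, map_inv, map_inv, ← h3]
      group
    rw [inf_eq_bot_of_isPGroup_of_coprime hP hk, Subgroup.mem_bot] at h2
    have h3 : z * y * z⁻¹ = y := mul_inv_eq_one.mp h2
    exact (mul_inv_eq_iff_eq_mul.mp h3).symm

/-! ### Characterisation of `p`-constraint modulo `O_{p'}(G)` -/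

theorem ker_mk'_eq (K : Subgroup G) [K.Normal] : (QuotientGroup.mk' K).ker = K :=
  QuotientGroup.ker_mk' K

/-- The image in `G / O_{p'}(G)` of a Sylow `p`-subgroup of `O_{p',p}(G)` is `O_p(G / O_{p'}(G))`. -/
theorem map_sylow_pPrimePCore [Finite G] [Fact p.Prime] (P : Sylow p ↥(pPrimePCore p G)) :
    (((P : Subgroup ↥(pPrimePCore p G)).map (pPrimePCore p G).subtype : Subgroup G)).map
      (QuotientGroup.mk' (pPrimeCore p G)) = pCore p (G ⧸ pPrimeCore p G) := by
  set Q := pCore p (G ⧸ pPrimeCore p G) with hQ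
  let g : ↥(pPrimePCore p G) →* Q := (QuotientGroup.mk' (pPrimeCore p G)).subgroupComap Q
  have hg : Function.Surjective g :=
    MonoidHom.subgroupComap_surjective_of_surjective _ _ (QuotientGroup.mk'_surjective _)
  have hQp : IsPGroup p Q := isPGroup_pCore p _
  have h1 : ((P.mapSurjective hg : Sylow p Q) : Subgroup Q) = ⊤ := by
    refine ((P.mapSurjective hg).3 (Q := ⊤) ?_ le_top).symm
    exact hQp.of_equiv Subgroup.topEquiv.symm
  rw [Sylow.coe_mapSurjective] at h1
  have h2 : ((P : Subgroup ↥(pPrimePCore p G)).map g).map Q.subtype = Q := by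
    rw [h1, ← MonoidHom.range_eq_map, Subgroup.range_subtype]
  rw [Subgroup.map_map] at h2 ⊢
  exact h2

theorem isPConstrained_iff [Finite G] [Fact p.Prime] :
    IsPConstrained p G ↔
      centralizer (pCore p (G ⧸ pPrimeCore p G) : Set (G ⧸ pPrimeCore p G)) ≤
        pCore p (G ⧸ pPrimeCore p G) := by
  have hk : (Nat.card (QuotientGroup.mk' (pPrimeCore p G)).ker).Coprime p := by
    rw [QuotientGroup.ker_mk']
    exact coprime_card_pPrimeCore p G
  constructor
  · intro h
    obtain ⟨P⟩ : Nonempty (Sylow p ↥(pPrimePCore p G)) := inferInstance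
    have hP : IsPGroup p ((P : Subgroup ↥(pPrimePCore p G)).map (pPrimePCore p G).subtype) :=
      P.2.map _
    have h1 := map_centralizer_eq _ (QuotientGroup.mk'_surjective (pPrimeCore p G)) hk hP
    rw [map_sylow_pPrimePCore P] at h1
    rw [← h1]
    rintro _ ⟨z, hz, rfl⟩
    exact h P hz
  · intro h P z hz
    change QuotientGroup.mk' (pPrimeCore p G) z ∈ pCore p (G ⧸ pPrimeCore p G)
    apply h
    have h1 := Subgroup.mem_map_of_mem (QuotientGroup.mk' (pPrimeCore p G)) hz
    rw [map_centralizer_eq _ (QuotientGroup.mk'_surjective (pPrimeCore p G)) hk (P.2.map _),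
      map_sylow_pPrimePCore P] at h1
    exact h1

/-- The condition `C_G(O_p(G)) ≤ O_p(G)` is invariant under isomorphism. -/
theorem charP_congr (e : G ≃* H) (h : centralizer (pCore p G : Set G) ≤ pCore p G) :
    centralizer (pCore p H : Set H) ≤ pCore p H := by
  intro y hy
  have h1 : e.symm y ∈ centralizer (pCore p G : Set G) := by
    rw [Subgroup.mem_centralizer_iff]
    intro x hx
    have h2 : e x ∈ pCore p H := by
      rw [← map_pCore_equiv e]
      exact Subgroup.mem_map_of_mem _ hx
    apply e.injective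
    rw [map_mul, map_mul, e.apply_symm_apply]
    exact Subgroup.mem_centralizer_iff.mp hy _ h2
  have h2 := h h1
  rw [← map_pCore_equiv e]
  exact ⟨e.symm y, h2, e.apply_symm_apply y⟩

/-- If `C_G(O_p(G)) ≤ O_p(G)` then `O_{p'}(G) = 1`. -/
theorem pPrimeCore_eq_bot_of_charP [Finite G] [Fact p.Prime]
    (h : centralizer (pCore p G : Set G) ≤ pCore p G) : pPrimeCore p G = ⊥ := by
  have h1 : pCore p G ⊓ pPrimeCore p G = ⊥ :=
    inf_eq_bot_of_isPGroup_of_coprime (isPGroup_pCore p G) (coprime_card_pPrimeCore p G)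
  have h2 : pPrimeCore p G ≤ centralizer (pCore p G : Set G) := by
    rw [← Subgroup.commutator_eq_bot_iff_le_centralizer, eq_bot_iff, ← h1, inf_comm]
    exact Subgroup.commutator_le_inf _ _
  rw [eq_bot_iff, ← h1]
  exact le_inf (h2.trans h) le_rfl

/-- If `φ` maps `G` onto a group `X` with `C_X(O_p(X)) ≤ O_p(X)` and the kernel of `φ` has order
prime to `p`, then `ker φ = O_{p'}(G)`. -/
theorem ker_eq_pPrimeCore [Finite G] [Fact p.Prime] (φ : G →* H) (hφ : Function.Surjective φ)
    (hk : (Nat.card φ.ker).Coprime p) (h : centralizer (pCore p H : Set H) ≤ pCore p H) :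
    φ.ker = pPrimeCore p G := by
  have : Finite H := Finite.of_surjective φ hφ
  apply le_antisymm (le_pPrimeCore inferInstance hk)
  have h1 : (pPrimeCore p G).map φ ≤ pPrimeCore p H :=
    le_pPrimeCore ((pPrimeCore_normal p G).map φ hφ)
      (Nat.Coprime.coprime_dvd_left (card_map_dvd φ _) (coprime_card_pPrimeCore p G))
  rw [pPrimeCore_eq_bot_of_charP h, le_bot_iff, Subgroup.map_eq_bot_iff] at h1
  exact h1

theorem isPConstrained_of_surjective_charP [Finite G] [Fact p.Prime] (φ : G →* H)
    (hφ : Function.Surjective φ) (hk : (Nat.card φ.ker).Coprime p)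
    (h : centralizer (pCore p H : Set H) ≤ pCore p H) : IsPConstrained p G := by
  rw [isPConstrained_iff]
  have hker := ker_eq_pPrimeCore φ hφ hk h
  let e1 : G ⧸ φ.ker ≃* H := QuotientGroup.quotientKerEquivOfSurjective φ hφ
  let e2 : G ⧸ φ.ker ≃* G ⧸ pPrimeCore p G := QuotientGroup.quotientMulEquivOfEq hker
  exact charP_congr (e1.symm.trans e2) h

/-- A group of characteristic `p` type in the sense `C_G(O_p(G)) ≤ O_p(G)` is `p`-constrained. -/
theorem isPConstrained_of_charP [Finite G] [Fact p.Prime]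
    (h : centralizer (pCore p G : Set G) ≤ pCore p G) : IsPConstrained p G :=
  isPConstrained_of_surjective_charP (MonoidHom.id G) Function.surjective_id
    (by simp) h

theorem isPConstrained_iff_of_pPrimeCore_eq_bot [Finite G] [Fact p.Prime]
    (hbot : pPrimeCore p G = ⊥) :
    IsPConstrained p G ↔ centralizer (pCore p G : Set G) ≤ pCore p G := by
  refine ⟨fun h => ?_, isPConstrained_of_charP⟩
  rw [isPConstrained_iff] at h
  let e : G ⧸ pPrimeCore p G ≃* G :=
    (QuotientGroup.quotientMulEquivOfEq hbot).trans QuotientGroup.quotientBot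
  exact charP_congr e h

theorem pPrimeCore_quotient_eq_bot (p : ℕ) (G : Type*) [Group G] [Finite G] :
    pPrimeCore p (G ⧸ pPrimeCore p G) = ⊥ := by
  set K := pPrimeCore p G with hK
  set L := (pPrimeCore p (G ⧸ K)).comap (QuotientGroup.mk' K) with hL
  have hKL : K ≤ L := by
    intro x hx
    rw [hL, Subgroup.mem_comap]
    have : QuotientGroup.mk' K x = 1 := by simpa using hx
    rw [this]
    exact Subgroup.one_mem _
  have hcard : (Nat.card L).Coprime p := by
    rw [← card_mul_relIndex_eq hKL]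
    refine Nat.Coprime.mul_left (coprime_card_pPrimeCore p G) ?_
    have h1 : K.relIndex L = Nat.card (L.map (QuotientGroup.mk' K)) := by
      rw [← Subgroup.relIndex_ker, QuotientGroup.ker_mk']
    rw [h1, hL, Subgroup.map_comap_eq_self_of_surjective (QuotientGroup.mk'_surjective K)]
    exact coprime_card_pPrimeCore p _
  have hLK : L ≤ K := le_pPrimeCore inferInstance hcard
  rw [eq_bot_iff]
  intro y hy
  obtain ⟨x, rfl⟩ := QuotientGroup.mk'_surjective K y
  have : x ∈ K := hLK hy
  simpa using this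

/-- `p`-constraint is insensitive to normal subgroups of order prime to `p`. -/
theorem isPConstrained_iff_of_surjective [Finite G] [Fact p.Prime] (f : G →* H)
    (hf : Function.Surjective f) (hk : (Nat.card f.ker).Coprime p) :
    IsPConstrained p G ↔ IsPConstrained p H := by
  have : Finite H := Finite.of_surjective f hf
  constructor
  · intro h
    rw [isPConstrained_iff] at h
    have hle : f.ker ≤ pPrimeCore p G := le_pPrimeCore inferInstance hk
    let e : G ⧸ f.ker ≃* H := QuotientGroup.quotientKerEquivOfSurjective f hf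
    let q : G ⧸ f.ker →* G ⧸ pPrimeCore p G :=
      QuotientGroup.map _ _ (MonoidHom.id G) hle
    have hqs : Function.Surjective q := by
      intro y
      obtain ⟨x, rfl⟩ := QuotientGroup.mk'_surjective _ y
      exact ⟨QuotientGroup.mk x, rfl⟩
    let φ : H →* G ⧸ pPrimeCore p G := q.comp e.symm.toMonoidHom
    have hφs : Function.Surjective φ := hqs.comp e.symm.surjective
    refine isPConstrained_of_surjective_charP φ hφs ?_ h
    have h1 : φ.ker ≤ (pPrimeCore p G).map f := by
      intro y hy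
      obtain ⟨x, rfl⟩ := hf y
      refine ⟨x, ?_, rfl⟩
      have h2 : e.symm (f x) = (QuotientGroup.mk x : G ⧸ f.ker) := by
        rw [MulEquiv.symm_apply_eq]
        rfl
      have h3 : φ (f x) = (QuotientGroup.mk x : G ⧸ pPrimeCore p G) := by
        change q (e.symm (f x)) = _
        rw [h2]
        rfl
      rw [MonoidHom.mem_ker, h3, QuotientGroup.eq_one_iff] at hy
      exact hy
    exact Nat.Coprime.coprime_dvd_left ((Subgroup.card_dvd_of_le h1).trans (card_map_dvd f _))
      (coprime_card_pPrimeCore p G)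
  · intro h
    rw [isPConstrained_iff] at h
    let φ : G →* H ⧸ pPrimeCore p H := (QuotientGroup.mk' (pPrimeCore p H)).comp f
    have hφs : Function.Surjective φ := (QuotientGroup.mk'_surjective _).comp hf
    refine isPConstrained_of_surjective_charP φ hφs ?_ h
    have h1 : f.ker ≤ φ.ker := by
      intro x hx
      change QuotientGroup.mk' (pPrimeCore p H) (f x) = 1
      rw [MonoidHom.mem_ker.mp hx, map_one]
    rw [← card_mul_relIndex_eq h1, Subgroup.relIndex_ker]
    refine Nat.Coprime.mul_left hk ?_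
    refine Nat.Coprime.coprime_dvd_left (Subgroup.card_dvd_of_le ?_) (coprime_card_pPrimeCore p H)
    rintro _ ⟨x, hx, rfl⟩
    have h2 : QuotientGroup.mk' (pPrimeCore p H) (f x) = 1 := hx
    rw [← MonoidHom.mem_ker, QuotientGroup.ker_mk'] at h2
    exact h2

theorem isPConstrained_congr [Finite G] [Fact p.Prime] (e : G ≃* H) :
    IsPConstrained p G ↔ IsPConstrained p H :=
  isPConstrained_iff_of_surjective e.toMonoidHom e.surjective (by
    have : e.toMonoidHom.ker = ⊥ := (MonoidHom.ker_eq_bot_iff _).mpr e.injective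
    rw [this]
    simp)

end Cfsg.Agent.PLocal.PConstrained
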