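import Mathlib
import Cfsg.Prelude.Def_Transfer
set_option linter.all false

/-!
Basic facts about the Thompson subgroup `J(G) = Cfsg.thompsonSubgroup p G` (generated by the
elementary abelian `p`-subgroups of largest order), for an arbitrary (finite) group `G`.
-/

set_option autoImplicit false

namespace Cfsg.Agent.PLocal.ThompsonJ

open Cfsg

universe u v

/-- Definitional unfolding of `IsElementaryAbelian`. -/
theorem isElementaryAbelian_iff {G : Type u} [Group G] {p : ℕ} {A : Subgroup G} :
    IsElementaryAbelian p A ↔ (∀ a ∈ A, ∀ b ∈ A, a * b = b * a) ∧ ∀ a ∈ A, a ^ p = 1 := by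
  constructor
  · rintro ⟨h1, h2⟩
    refine ⟨fun a ha b hb => ?_, h2⟩
    have := h1.is_comm.comm (⟨a, ha⟩ : A) ⟨b, hb⟩
    exact congrArg Subtype.val this
  · rintro ⟨h1, h2⟩
    refine ⟨⟨⟨fun a b => ?_⟩⟩, h2⟩
    exact Subtype.ext (h1 a a.2 b b.2)

theorem isElementaryAbelian_comm {G : Type u} [Group G] {p : ℕ} {A : Subgroup G}
    (hA : IsElementaryAbelian p A) {a b : G} (ha : a ∈ A) (hb : b ∈ A) : a * b = b * a :=
  (isElementaryAbelian_iff.1 hA).1 a ha b hb

theorem isElementaryAbelian_pow {G : Type u} [Group G] {p : ℕ} {A : Subgroup G}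
    (hA : IsElementaryAbelian p A) {a : G} (ha : a ∈ A) : a ^ p = 1 :=
  hA.2 a ha

theorem isElementaryAbelian_bot (G : Type u) [Group G] (p : ℕ) :
    IsElementaryAbelian p (⊥ : Subgroup G) := by
  rw [isElementaryAbelian_iff]
  constructor
  · intro a ha b hb
    rw [Subgroup.mem_bot] at ha hb
    rw [ha, hb]
  · intro a ha
    rw [Subgroup.mem_bot] at ha
    rw [ha, one_pow]

theorem isElementaryAbelian_mono {G : Type u} [Group G] {p : ℕ} {A B : Subgroup G}
    (hB : IsElementaryAbelian p B) (h : A ≤ B) : IsElementaryAbelian p A := by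
  rw [isElementaryAbelian_iff] at hB ⊢
  exact ⟨fun a ha b hb => hB.1 a (h ha) b (h hb), fun a ha => hB.2 a (h ha)⟩

theorem isElementaryAbelian_map {G : Type u} {H : Type v} [Group G] [Group H] {p : ℕ}
    {A : Subgroup G} (hA : IsElementaryAbelian p A) (f : G →* H) :
    IsElementaryAbelian p (A.map f) := by
  rw [isElementaryAbelian_iff] at hA ⊢
  constructor
  · rintro _ ⟨a, ha, rfl⟩ _ ⟨b, hb, rfl⟩
    rw [← map_mul, ← map_mul, hA.1 a ha b hb]
  · rintro _ ⟨a, ha, rfl⟩
    rw [← map_pow, hA.2 a ha, map_one]

theorem isElementaryAbelian_comap {G : Type u} {H : Type v} [Group G] [Group H] {p : ℕ}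
    {A : Subgroup H} (hA : IsElementaryAbelian p A) {f : G →* H} (hf : Function.Injective f) :
    IsElementaryAbelian p (A.comap f) := by
  rw [isElementaryAbelian_iff] at hA ⊢
  constructor
  · intro a ha b hb
    apply hf
    rw [map_mul, map_mul]
    exact hA.1 _ ha _ hb
  · intro a ha
    apply hf
    rw [map_pow, map_one]
    exact hA.2 _ ha

theorem isElementaryAbelian_subgroupOf {G : Type u} [Group G] {p : ℕ}
    {A : Subgroup G} (hA : IsElementaryAbelian p A) (U : Subgroup G) :
    IsElementaryAbelian p (A.subgroupOf U) :=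
  isElementaryAbelian_comap hA U.subtype_injective

theorem isElementaryAbelian_map_iff {G : Type u} {H : Type v} [Group G] [Group H] {p : ℕ}
    {A : Subgroup G} {f : G →* H} (hf : Function.Injective f) :
    IsElementaryAbelian p (A.map f) ↔ IsElementaryAbelian p A := by
  constructor
  · intro h
    have := isElementaryAbelian_comap h hf
    rwa [Subgroup.comap_map_eq_self_of_injective hf] at this
  · intro h
    exact isElementaryAbelian_map h f

/-- An elementary abelian `p`-subgroup is a `p`-group. -/
theorem isPGroup_of_isElementaryAbelian {G : Type u} [Group G] {p : ℕ} {A : Subgroup G}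
    (hA : IsElementaryAbelian p A) : IsPGroup p A := by
  intro a
  refine ⟨1, ?_⟩
  rw [pow_one]
  exact Subtype.ext (hA.2 a a.2)

/-- Membership in the set of elementary abelian `p`-subgroups of largest order. -/
theorem mem_maxElementaryAbelianSubgroups_iff {G : Type u} [Group G] {p : ℕ} {A : Subgroup G} :
    A ∈ maxElementaryAbelianSubgroups p G ↔
      IsElementaryAbelian p A ∧
        ∀ B : Subgroup G, IsElementaryAbelian p B → Nat.card B ≤ Nat.card A :=
  Iff.rfl

/-- Definitional unfolding of `thompsonSubgroup`. -/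
theorem thompsonSubgroup_def (p : ℕ) (G : Type u) [Group G] :
    thompsonSubgroup p G = sSup (maxElementaryAbelianSubgroups p G) :=
  rfl

/-- Definitional unfolding of `thompsonSubgroupOf`. -/
theorem thompsonSubgroupOf_def {G : Type u} [Group G] (p : ℕ) (P : Subgroup G) :
    thompsonSubgroupOf p P = (thompsonSubgroup p P).map P.subtype :=
  rfl

/-- In a finite group there is an elementary abelian `p`-subgroup of largest order. -/
theorem exists_maxElementaryAbelian (p : ℕ) (G : Type u) [Group G] [Finite G] :
    (maxElementaryAbelianSubgroups p G).Nonempty := by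
  classical
  obtain ⟨A, hA, hmax⟩ := Set.exists_max_image {A : Subgroup G | IsElementaryAbelian p A}
    (fun A => Nat.card A) (Set.toFinite _) ⟨⊥, isElementaryAbelian_bot G p⟩
  exact ⟨A, hA, fun B hB => hmax B hB⟩

theorem le_thompsonSubgroup {G : Type u} [Group G] {p : ℕ} {A : Subgroup G}
    (hA : A ∈ maxElementaryAbelianSubgroups p G) : A ≤ thompsonSubgroup p G :=
  le_sSup hA

theorem thompsonSubgroup_le {G : Type u} [Group G] {p : ℕ} {K : Subgroup G}
    (h : ∀ A ∈ maxElementaryAbelianSubgroups p G, A ≤ K) : thompsonSubgroup p G ≤ K :=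
  sSup_le h

/-- All elements of `maxElementaryAbelianSubgroups` have the same order. -/
theorem card_eq_of_mem_max {G : Type u} [Group G] {p : ℕ} {A B : Subgroup G}
    (hA : A ∈ maxElementaryAbelianSubgroups p G) (hB : B ∈ maxElementaryAbelianSubgroups p G) :
    Nat.card A = Nat.card B :=
  le_antisymm (hB.2 A hA.1) (hA.2 B hB.1)

/-- An elementary abelian `p`-subgroup having the order of one of largest order is one. -/
theorem mem_max_of_card_eq {G : Type u} [Group G] {p : ℕ} {A B : Subgroup G}
    (hA : A ∈ maxElementaryAbelianSubgroups p G) (hB : IsElementaryAbelian p B)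
    (h : Nat.card A ≤ Nat.card B) : B ∈ maxElementaryAbelianSubgroups p G :=
  ⟨hB, fun C hC => (hA.2 C hC).trans h⟩

/-- An elementary abelian subgroup containing one of largest order is equal to it. -/
theorem eq_of_le_of_mem_max {G : Type u} [Group G] [Finite G] {p : ℕ} {A B : Subgroup G}
    (hA : A ∈ maxElementaryAbelianSubgroups p G) (hB : IsElementaryAbelian p B)
    (h : A ≤ B) : A = B :=
  Subgroup.eq_of_le_of_card_ge h (hA.2 B hB)

theorem card_map_injective {G : Type u} {H : Type v} [Group G] [Group H] (A : Subgroup G)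
    {f : G →* H} (hf : Function.Injective f) : Nat.card (A.map f) = Nat.card A :=
  (Nat.card_congr (A.equivMapOfInjective f hf).toEquiv).symm

/-- If `f : G →* H` is injective and some largest elementary abelian `p`-subgroup of `H` lies in
its range, then the largest elementary abelian `p`-subgroups of `G` are exactly those whose image
is one of `H`. -/
theorem map_mem_max_iff {G : Type u} {H : Type v} [Group G] [Group H] {p : ℕ}
    {f : G →* H} (hf : Function.Injective f) {B : Subgroup H}
    (hB : B ∈ maxElementaryAbelianSubgroups p H) (hBr : B ≤ f.range) {A : Subgroup G} :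
    A.map f ∈ maxElementaryAbelianSubgroups p H ↔ A ∈ maxElementaryAbelianSubgroups p G := by
  constructor
  · rintro ⟨h1, h2⟩
    refine ⟨(isElementaryAbelian_map_iff hf).1 h1, fun C hC => ?_⟩
    have := h2 (C.map f) (isElementaryAbelian_map hC f)
    rwa [card_map_injective _ hf, card_map_injective _ hf] at this
  · rintro ⟨h1, h2⟩
    refine mem_max_of_card_eq hB (isElementaryAbelian_map h1 f) ?_
    have h3 := h2 (B.comap f) (isElementaryAbelian_comap hB.1 hf)
    have h4 : (B.comap f).map f = B := by
      rw [Subgroup.map_comap_eq, inf_eq_right.2 hBr]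
    rw [card_map_injective _ hf]
    rw [← card_map_injective (B.comap f) hf, h4] at h3
    exact h3

theorem map_mulEquiv_thompsonSubgroup {G : Type u} {H : Type v} [Group G] [Group H] (p : ℕ)
    (e : G ≃* H) : (thompsonSubgroup p G).map e.toMonoidHom = thompsonSubgroup p H := by
  have key : ∀ {G : Type u} {H : Type v} [Group G] [Group H] (e : G ≃* H) (A : Subgroup G),
      A ∈ maxElementaryAbelianSubgroups p G →
        A.map e.toMonoidHom ∈ maxElementaryAbelianSubgroups p H := by
    intro G H _ _ e A hA
    refine ⟨isElementaryAbelian_map hA.1 _, fun B hB => ?_⟩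
    have h1 := hA.2 (B.comap e.toMonoidHom) (isElementaryAbelian_comap hB e.injective)
    have h2 : (B.comap e.toMonoidHom).map e.toMonoidHom = B :=
      Subgroup.map_comap_eq_self_of_surjective e.surjective B
    rw [card_map_injective (f := e.toMonoidHom) _ e.injective]
    rw [← card_map_injective (f := e.toMonoidHom) (B.comap e.toMonoidHom) e.injective, h2] at h1
    exact h1
  have key2 : ∀ {G : Type u} {H : Type v} [Group G] [Group H] (e : G ≃* H),
      (thompsonSubgroup p G).map e.toMonoidHom ≤ thompsonSubgroup p H := by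
    intro G H _ _ e
    rw [Subgroup.map_le_iff_le_comap]
    refine thompsonSubgroup_le fun A hA => ?_
    rw [← Subgroup.map_le_iff_le_comap]
    exact le_thompsonSubgroup (key e A hA)
  refine le_antisymm (key2 e) ?_
  have key3 : ∀ (B : Subgroup H), B ∈ maxElementaryAbelianSubgroups p H →
      B.comap e.toMonoidHom ∈ maxElementaryAbelianSubgroups p G := by
    intro B hB
    refine ⟨isElementaryAbelian_comap hB.1 e.injective, fun A hA => ?_⟩
    have h1 := hB.2 (A.map e.toMonoidHom) (isElementaryAbelian_map hA _)
    have h2 : (B.comap e.toMonoidHom).map e.toMonoidHom = B :=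
      Subgroup.map_comap_eq_self_of_surjective e.surjective B
    rw [card_map_injective (f := e.toMonoidHom) _ e.injective] at h1
    rw [← card_map_injective (f := e.toMonoidHom) (B.comap e.toMonoidHom) e.injective, h2]
    exact h1
  refine thompsonSubgroup_le fun B hB => ?_
  rw [← Subgroup.map_comap_eq_self_of_surjective (f := e.toMonoidHom) e.surjective B]
  exact Subgroup.map_mono (le_thompsonSubgroup (key3 B hB))

/-- The Thompson subgroup is characteristic (no finiteness needed). -/
theorem thompsonSubgroup_characteristic (p : ℕ) (G : Type u) [Group G] :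
    (thompsonSubgroup p G).Characteristic := by
  rw [Subgroup.characteristic_iff_map_eq]
  intro φ
  exact map_mulEquiv_thompsonSubgroup p φ

/-- The Thompson subgroup is normal (no finiteness needed). -/
theorem thompsonSubgroup_normal (p : ℕ) (G : Type u) [Group G] :
    (thompsonSubgroup p G).Normal := by
  have := thompsonSubgroup_characteristic p G
  infer_instance

/-- If `p` is prime and divides `|G|` then every largest elementary abelian `p`-subgroup has order
at least `p`. -/
theorem le_card_of_mem_max {G : Type u} [Group G] [Finite G] {p : ℕ} [Fact p.Prime]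
    (hp : p ∣ Nat.card G) {A : Subgroup G} (hA : A ∈ maxElementaryAbelianSubgroups p G) :
    p ≤ Nat.card A := by
  obtain ⟨x, hx⟩ := exists_prime_orderOf_dvd_card' p hp
  have h1 : IsElementaryAbelian p (Subgroup.zpowers x) := by
    rw [isElementaryAbelian_iff]
    constructor
    · intro a ha b hb
      obtain ⟨m, rfl⟩ := Subgroup.mem_zpowers_iff.1 ha
      obtain ⟨n, rfl⟩ := Subgroup.mem_zpowers_iff.1 hb
      rw [← zpow_add, ← zpow_add, add_comm]
    · intro a ha
      obtain ⟨m, rfl⟩ := Subgroup.mem_zpowers_iff.1 ha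
      rw [← zpow_natCast, ← zpow_mul, mul_comm, zpow_mul, zpow_natCast, ← hx, pow_orderOf_eq_one,
        one_zpow]
  have h2 := hA.2 _ h1
  rwa [Nat.card_zpowers, hx] at h2

theorem thompsonSubgroup_ne_bot {G : Type u} [Group G] [Finite G] {p : ℕ} [Fact p.Prime]
    (hp : p ∣ Nat.card G) : thompsonSubgroup p G ≠ ⊥ := by
  intro h
  obtain ⟨A, hA⟩ := exists_maxElementaryAbelian p G
  have h1 := le_thompsonSubgroup hA
  rw [h, le_bot_iff] at h1
  have h2 := le_card_of_mem_max hp hA
  rw [h1, Subgroup.card_bot] at h2
  exact absurd h2 (not_le.2 (Fact.out : p.Prime).one_lt)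

/-- If a subgroup `U` contains some largest elementary abelian `p`-subgroup of `G`, then `J(U)` is
generated by the largest elementary abelian `p`-subgroups of `G` lying in `U`. -/
theorem thompsonSubgroupOf_eq_sSup {G : Type u} [Group G] {p : ℕ} {U : Subgroup G}
    {B : Subgroup G} (hB : B ∈ maxElementaryAbelianSubgroups p G) (hBU : B ≤ U) :
    thompsonSubgroupOf p U = sSup {A | A ∈ maxElementaryAbelianSubgroups p G ∧ A ≤ U} := by
  have hr : B ≤ U.subtype.range := by rwa [U.range_subtype]
  apply le_antisymm
  · rw [thompsonSubgroupOf_def, Subgroup.map_le_iff_le_comap]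
    refine thompsonSubgroup_le fun A hA => ?_
    rw [← Subgroup.map_le_iff_le_comap]
    refine le_sSup ⟨(map_mem_max_iff U.subtype_injective hB hr).2 hA, ?_⟩
    exact Subgroup.map_subtype_le A
  · refine sSup_le ?_
    rintro A ⟨hA, hAU⟩
    have h1 : (A.subgroupOf U).map U.subtype = A := by
      rw [Subgroup.subgroupOf_map_subtype, inf_eq_left.2 hAU]
    rw [← h1, thompsonSubgroupOf_def]
    refine Subgroup.map_mono (le_thompsonSubgroup ?_)
    rw [← map_mem_max_iff U.subtype_injective hB hr, h1]
    exact hA

/-- `J(U) ≤ J(G)` as soon as `U` contains some largest elementary abelian `p`-subgroup of `G`. -/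
theorem thompsonSubgroupOf_le {G : Type u} [Group G] {p : ℕ} {U : Subgroup G}
    {B : Subgroup G} (hB : B ∈ maxElementaryAbelianSubgroups p G) (hBU : B ≤ U) :
    thompsonSubgroupOf p U ≤ thompsonSubgroup p G := by
  rw [thompsonSubgroupOf_eq_sSup hB hBU]
  exact sSup_le_sSup fun A hA => hA.1

theorem thompsonSubgroupOf_eq_of_le {G : Type u} [Group G] [Finite G] {p : ℕ} {U : Subgroup G}
    (hU : thompsonSubgroup p G ≤ U) : thompsonSubgroupOf p U = thompsonSubgroup p G := by
  obtain ⟨B, hB⟩ := exists_maxElementaryAbelian p G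
  rw [thompsonSubgroupOf_eq_sSup hB ((le_thompsonSubgroup hB).trans hU), thompsonSubgroup_def]
  congr 1
  ext A
  exact ⟨fun h => h.1, fun h => ⟨h, (le_thompsonSubgroup h).trans hU⟩⟩

theorem thompsonSubgroupOf_le_self {G : Type u} [Group G] (p : ℕ) (U : Subgroup G) :
    thompsonSubgroupOf p U ≤ U :=
  Subgroup.map_subtype_le _

/-- `J(U^f) = J(U)^f` for an injective homomorphism `f`. -/
theorem thompsonSubgroupOf_map {G : Type u} {H : Type v} [Group G] [Group H] (p : ℕ)
    {f : G →* H} (hf : Function.Injective f) (U : Subgroup G) :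
    thompsonSubgroupOf p (U.map f) = (thompsonSubgroupOf p U).map f := by
  rw [thompsonSubgroupOf_def, thompsonSubgroupOf_def,
    ← map_mulEquiv_thompsonSubgroup p (U.equivMapOfInjective f hf), Subgroup.map_map,
    Subgroup.map_map]
  rfl

/-- `J(U^g) = J(U)^g`. -/
theorem thompsonSubgroupOf_map_conj {G : Type u} [Group G] (p : ℕ) (g : G) (U : Subgroup G) :
    thompsonSubgroupOf p (U.map (MulAut.conj g).toMonoidHom) =
      (thompsonSubgroupOf p U).map (MulAut.conj g).toMonoidHom :=
  thompsonSubgroupOf_map p (MulAut.conj g).injective U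

/-- `J(S)` for a Sylow subgroup `S` is generated by the largest elementary abelian `p`-subgroups of
`G` lying in `S`. -/
theorem exists_max_le_sylow {G : Type u} [Group G] [Finite G] {p : ℕ} [Fact p.Prime]
    (S : Sylow p G) : ∃ B ∈ maxElementaryAbelianSubgroups p G, B ≤ (S : Subgroup G) := by
  obtain ⟨A, hA⟩ := exists_maxElementaryAbelian p G
  obtain ⟨T, hT⟩ := (isPGroup_of_isElementaryAbelian hA.1).exists_le_sylow
  obtain ⟨g, hg⟩ := MulAction.exists_smul_eq G T S
  refine ⟨A.map (MulAut.conj g).toMonoidHom, ?_, ?_⟩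
  · refine mem_max_of_card_eq hA (isElementaryAbelian_map hA.1 _) ?_
    rw [card_map_injective _ (MulAut.conj g).injective]
  · rw [← hg]
    rintro _ ⟨a, ha, rfl⟩
    rw [Sylow.coe_subgroup_smul]
    exact Subgroup.smul_mem_pointwise_smul a (MulAut.conj g) (T : Subgroup G) (hT ha)

theorem thompsonSubgroupOf_sylow_eq {G : Type u} [Group G] [Finite G] {p : ℕ} [Fact p.Prime]
    (S : Sylow p G) : thompsonSubgroupOf p (S : Subgroup G) =
      sSup {A | A ∈ maxElementaryAbelianSubgroups p G ∧ A ≤ (S : Subgroup G)} := by
  obtain ⟨B, hB, hBS⟩ := exists_max_le_sylow S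
  exact thompsonSubgroupOf_eq_sSup hB hBS

/-- `J(G)` is generated by the `J(S)`, `S` a Sylow `p`-subgroup. -/
theorem thompsonSubgroup_eq_iSup_sylow (G : Type u) [Group G] [Finite G] (p : ℕ) [Fact p.Prime] :
    thompsonSubgroup p G = ⨆ S : Sylow p G, thompsonSubgroupOf p (S : Subgroup G) := by
  apply le_antisymm
  · refine thompsonSubgroup_le fun A hA => ?_
    obtain ⟨T, hT⟩ := (isPGroup_of_isElementaryAbelian hA.1).exists_le_sylow
    refine le_trans ?_ (le_iSup (fun S : Sylow p G => thompsonSubgroupOf p (S : Subgroup G)) T)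
    rw [thompsonSubgroupOf_sylow_eq T]
    exact le_sSup ⟨hA, hT⟩
  · refine iSup_le fun S => ?_
    rw [thompsonSubgroupOf_sylow_eq S]
    exact sSup_le_sSup fun A hA => hA.1

end Cfsg.Agent.PLocal.ThompsonJ
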