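import Mathlib
import Cfsg.Prelude.Def_PLocal
import Cfsg.Agent.PLocal.ThompsonJ
import Cfsg.Agent.Lib.Cores
set_option linter.all false

/-!
Basic facts about `Cfsg.omegaOne`, `Cfsg.omegaCenterThompson` and the stable normal closure
`W(S) = Cfsg.stableNormalClosure p S`.
-/

set_option autoImplicit false
set_option linter.style.haveILetI false

namespace Cfsg.Agent.PLocal.StableClosure

open Cfsg Cfsg.Agent.PLocal.ThompsonJ
open scoped commutatorElement

universe u v

/-! ### `omegaOne` -/

/-- Definitional unfolding of `omegaOne`. -/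
theorem omegaOne_def {G : Type u} [Group G] (p : ℕ) (H : Subgroup G) :
    omegaOne p H = Subgroup.closure {x : G | x ∈ H ∧ x ^ p = 1} :=
  rfl

theorem mem_omegaOne_of_pow_eq_one {G : Type u} [Group G] {p : ℕ} {H : Subgroup G} {x : G}
    (hx : x ∈ H) (hxp : x ^ p = 1) : x ∈ omegaOne p H :=
  Subgroup.subset_closure ⟨hx, hxp⟩

theorem omegaOne_le_iff {G : Type u} [Group G] {p : ℕ} {H K : Subgroup G} :
    omegaOne p H ≤ K ↔ ∀ x ∈ H, x ^ p = 1 → x ∈ K := by
  rw [omegaOne_def, Subgroup.closure_le]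
  exact ⟨fun h x hx hxp => h ⟨hx, hxp⟩, fun h x hx => h x hx.1 hx.2⟩

theorem omegaOne_le {G : Type u} [Group G] (p : ℕ) (H : Subgroup G) : omegaOne p H ≤ H :=
  omegaOne_le_iff.2 fun _ hx _ => hx

theorem omegaOne_mono {G : Type u} [Group G] (p : ℕ) {H K : Subgroup G} (h : H ≤ K) :
    omegaOne p H ≤ omegaOne p K :=
  omegaOne_le_iff.2 fun _ hx hxp => mem_omegaOne_of_pow_eq_one (h hx) hxp

theorem omegaOne_map {G : Type u} {K : Type v} [Group G] [Group K] (p : ℕ) {f : G →* K}
    (hf : Function.Injective f) (H : Subgroup G) :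
    omegaOne p (H.map f) = (omegaOne p H).map f := by
  apply le_antisymm
  · rw [omegaOne_le_iff]
    rintro _ ⟨x, hx, rfl⟩ hxp
    rw [← map_pow] at hxp
    have : x ^ p = 1 := hf (by rw [hxp, map_one])
    exact ⟨x, mem_omegaOne_of_pow_eq_one hx this, rfl⟩
  · rw [Subgroup.map_le_iff_le_comap, omegaOne_le_iff]
    intro x hx hxp
    refine mem_omegaOne_of_pow_eq_one ⟨x, hx, rfl⟩ ?_
    rw [← map_pow, hxp, map_one]

theorem map_conj_eq_of_normal {G : Type u} [Group G] {N : Subgroup G} (hN : N.Normal) (g : G) :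
    N.map (MulAut.conj g).toMonoidHom = N := by
  apply le_antisymm
  · rintro _ ⟨n, hn, rfl⟩
    exact hN.conj_mem n hn g
  · intro n hn
    refine ⟨g⁻¹ * n * g, by simpa using hN.conj_mem n hn g⁻¹, ?_⟩
    change g * (g⁻¹ * n * g) * g⁻¹ = n
    group

theorem omegaOne_normal {G : Type u} [Group G] (p : ℕ) (H : Subgroup G) (hH : H.Normal) :
    (omegaOne p H).Normal := by
  have key : ∀ g : G, (omegaOne p H).map (MulAut.conj g).toMonoidHom = omegaOne p H := by
    intro g
    rw [← omegaOne_map p (f := (MulAut.conj g).toMonoidHom) (MulAut.conj g).injective H]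
    congr 1
    exact map_conj_eq_of_normal hH g
  refine ⟨fun n hn g => ?_⟩
  rw [← key g]
  exact ⟨n, hn, rfl⟩

/-- In a commutative subgroup, `omegaOne` is the set of the elements of order dividing `p`. -/
theorem mem_omegaOne_iff_of_comm {G : Type u} [Group G] {p : ℕ} {H : Subgroup G}
    (hH : ∀ a ∈ H, ∀ b ∈ H, a * b = b * a) {x : G} :
    x ∈ omegaOne p H ↔ x ∈ H ∧ x ^ p = 1 := by
  constructor
  · intro hx
    refine ⟨omegaOne_le p H hx, ?_⟩
    rw [omegaOne_def] at hx
    induction hx using Subgroup.closure_induction with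
    | mem x hx => exact hx.2
    | one => exact one_pow p
    | mul x y hx hy hx1 hy1 =>
      have hc : Commute x y := hH x (omegaOne_le p H hx) y (omegaOne_le p H hy)
      rw [hc.mul_pow, hx1, hy1, one_mul]
    | inv x hx hx1 => rw [inv_pow, hx1, inv_one]
  · rintro ⟨h1, h2⟩
    exact mem_omegaOne_of_pow_eq_one h1 h2

/-- A centre: `Z(U)` as `U ⊓ C(U)` is carried along by an injective homomorphism. -/
theorem inf_centralizer_map {G : Type u} {K : Type v} [Group G] [Group K] {f : G →* K}
    (hf : Function.Injective f) (U : Subgroup G) :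
    (U ⊓ Subgroup.centralizer (U : Set G)).map f =
      U.map f ⊓ Subgroup.centralizer (U.map f : Set K) := by
  ext x
  constructor
  · rintro ⟨y, ⟨hy1, hy2⟩, rfl⟩
    refine ⟨⟨y, hy1, rfl⟩, ?_⟩
    rintro _ ⟨z, hz, rfl⟩
    have := hy2 z hz
    rw [← map_mul, this, map_mul]
  · rintro ⟨⟨y, hy, rfl⟩, hy2⟩
    refine ⟨y, ⟨hy, ?_⟩, rfl⟩
    intro z hz
    apply hf
    rw [map_mul, map_mul]
    exact hy2 (f z) ⟨z, hz, rfl⟩

theorem inf_centralizer_comm {G : Type u} [Group G] (U : Subgroup G) :
    ∀ a ∈ U ⊓ Subgroup.centralizer (U : Set G), ∀ b ∈ U ⊓ Subgroup.centralizer (U : Set G),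
      a * b = b * a := by
  rintro a ⟨ha, _⟩ b ⟨_, hb⟩
  exact hb a ha

/-- Definitional unfolding of `omegaCenterThompson`. -/
theorem omegaCenterThompson_def (p : ℕ) (P : Type u) [Group P] :
    omegaCenterThompson p P =
      omegaOne p (thompsonSubgroup p P ⊓ Subgroup.centralizer (thompsonSubgroup p P : Set P)) :=
  rfl

theorem mem_omegaCenterThompson_iff {p : ℕ} {P : Type u} [Group P] {x : P} :
    x ∈ omegaCenterThompson p P ↔ x ∈ thompsonSubgroup p P ∧
      (∀ y ∈ thompsonSubgroup p P, y * x = x * y) ∧ x ^ p = 1 := by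
  rw [omegaCenterThompson_def, mem_omegaOne_iff_of_comm (inf_centralizer_comm _),
    Subgroup.mem_inf, and_assoc]
  rfl

/-- `Ω₁(Z(J(P)))` is elementary abelian. -/
theorem omegaCenterThompson_isElementaryAbelian (p : ℕ) (P : Type u) [Group P] :
    IsElementaryAbelian p (omegaCenterThompson p P) := by
  rw [isElementaryAbelian_iff]
  constructor
  · intro a ha b hb
    rw [mem_omegaCenterThompson_iff] at ha hb
    exact hb.2.1 a ha.1
  · intro a ha
    rw [mem_omegaCenterThompson_iff] at ha
    exact ha.2.2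

theorem omegaCenterThompson_map_equiv {S : Type u} {S' : Type v} [Group S] [Group S'] (p : ℕ)
    (e : S ≃* S') : (omegaCenterThompson p S).map e.toMonoidHom = omegaCenterThompson p S' := by
  rw [omegaCenterThompson_def, ← omegaOne_map p (f := e.toMonoidHom) e.injective,
    inf_centralizer_map (f := e.toMonoidHom) e.injective, map_mulEquiv_thompsonSubgroup,
    omegaCenterThompson_def]

theorem omegaCenterThompson_characteristic (p : ℕ) (P : Type u) [Group P] :
    (omegaCenterThompson p P).Characteristic := by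
  rw [Subgroup.characteristic_iff_map_eq]
  intro φ
  exact omegaCenterThompson_map_equiv p φ

/-- If the image of the Thompson subgroup under an injective map is normal, then so is that of
`Ω₁(Z(J))`. -/
theorem omegaCenterThompson_map_normal {S : Type u} {H : Type v} [Group S] [Group H] {p : ℕ}
    {τ : S →* H} (hτ : Function.Injective τ) (hJ : ((thompsonSubgroup p S).map τ).Normal) :
    ((omegaCenterThompson p S).map τ).Normal := by
  rw [omegaCenterThompson_def, ← omegaOne_map p hτ, inf_centralizer_map hτ]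
  exact omegaOne_normal p _ inferInstance

/-- Every element of order dividing `p` centralizing `J(P)` lies in every elementary abelian
subgroup of largest order. -/
theorem mem_of_mem_max_of_comm {P : Type u} [Group P] [Finite P] {p : ℕ} {A : Subgroup P}
    (hA : A ∈ maxElementaryAbelianSubgroups p P) {x : P} (hx : ∀ a ∈ A, a * x = x * a)
    (hxp : x ^ p = 1) : x ∈ A := by
  have h1 : IsElementaryAbelian p (A ⊔ Subgroup.zpowers x) := by
    have hAc := (isElementaryAbelian_iff.1 hA.1)
    have hmem : ∀ y ∈ A ⊔ Subgroup.zpowers x, ∃ a ∈ A, ∃ n : ℤ, a * x ^ n = y := by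
      intro y hy
      have hle : A ⊔ Subgroup.zpowers x ≤
          { carrier := {y | ∃ a ∈ A, ∃ n : ℤ, a * x ^ n = y}
            mul_mem' := by
              rintro _ _ ⟨a, ha, n, rfl⟩ ⟨b, hb, m, rfl⟩
              refine ⟨a * b, A.mul_mem ha hb, n + m, ?_⟩
              have : Commute b (x ^ n) := (show Commute b x from hx b hb).zpow_right n
              rw [zpow_add, mul_assoc, mul_assoc, ← mul_assoc (x ^ n), ← this.eq, mul_assoc]
            one_mem' := ⟨1, A.one_mem, 0, by simp⟩
            inv_mem' := by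
              rintro _ ⟨a, ha, n, rfl⟩
              refine ⟨a⁻¹, A.inv_mem ha, -n, ?_⟩
              have : Commute a⁻¹ (x ^ n)⁻¹ :=
                ((show Commute a x from hx a ha).zpow_right n).inv_left.inv_right
              rw [mul_inv_rev, zpow_neg, this.eq] } := by
        refine sup_le ?_ ?_
        · intro a ha
          exact ⟨a, ha, 0, by simp⟩
        · rw [Subgroup.zpowers_le]
          exact ⟨1, A.one_mem, 1, by simp⟩
      exact hle hy
    rw [isElementaryAbelian_iff]
    constructor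
    · intro y hy z hz
      obtain ⟨a, ha, n, rfl⟩ := hmem y hy
      obtain ⟨b, hb, m, rfl⟩ := hmem z hz
      have h1 : Commute a b := hAc.1 a ha b hb
      have h2 : Commute a (x ^ m) := (show Commute a x from hx a ha).zpow_right m
      have h3 : Commute (x ^ n) b := ((show Commute b x from hx b hb).zpow_right n).symm
      have h4 : Commute (x ^ n) (x ^ m) := (Commute.refl x).zpow_zpow n m
      exact ((h1.mul_right h2).mul_left (h3.mul_right h4)).eq
    · intro y hy
      obtain ⟨a, ha, n, rfl⟩ := hmem y hy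
      have h2 : Commute a (x ^ n) := (show Commute a x from hx a ha).zpow_right n
      rw [h2.mul_pow, hAc.2 a ha, one_mul, ← zpow_natCast, ← zpow_mul, mul_comm, zpow_mul,
        zpow_natCast, hxp, one_zpow]
  have h2 := eq_of_le_of_mem_max hA h1 le_sup_left
  rw [h2]
  exact (le_sup_right : Subgroup.zpowers x ≤ _) (Subgroup.mem_zpowers x)

/-- `Ω₁(Z(S)) ≤ Ω₁(Z(J(S)))`. -/
theorem omegaOne_center_le_omegaCenterThompson (p : ℕ) (S : Type u) [Group S] [Finite S] :
    omegaOne p (Subgroup.center S) ≤ omegaCenterThompson p S := by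
  rw [omegaOne_le_iff]
  intro x hx hxp
  rw [mem_omegaCenterThompson_iff]
  obtain ⟨A, hA⟩ := exists_maxElementaryAbelian p S
  have hx' := Subgroup.mem_center_iff.1 hx
  refine ⟨le_thompsonSubgroup hA (mem_of_mem_max_of_comm hA (fun a _ => hx' a) hxp),
    fun y _ => hx' y, hxp⟩

/-! ### Stable embeddings -/

/-- Composing a stable embedding with an isomorphism on the left. -/
theorem isStableEmbedding_comp_equiv {p : ℕ} {S S' H : Type u} [Group S] [Group S'] [Group H]
    {τ : S →* H} (hτ : IsStableEmbedding p τ) (e : S' ≃* S) :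
    IsStableEmbedding p (τ.comp e.toMonoidHom) := by
  obtain ⟨h1, h2, ⟨P, hP⟩, h4, h5, h6⟩ := hτ
  have hr : (τ.comp e.toMonoidHom).range = τ.range := by
    rw [MonoidHom.range_comp]
    have : e.toMonoidHom.range = ⊤ := MonoidHom.range_eq_top.2 e.surjective
    rw [this, MonoidHom.range_eq_map]
  refine ⟨h1.comp e.injective, h2, ⟨P, by rw [hP, hr]⟩, h4, ?_, ?_⟩
  · rw [← Subgroup.map_map, map_mulEquiv_thompsonSubgroup]
    exact h5
  · intro V hV hVle
    rw [← Subgroup.map_map, omegaCenterThompson_map_equiv] at hVle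
    exact h6 V hVle

/-! ### The stable normal closure -/

/-- The defining property of the members of the family whose intersection is `W(S)`. -/
theorem stableNormalClosure_def (p : ℕ) (S : Type u) [Group S] :
    stableNormalClosure p S = sInf {W : Subgroup S | omegaOne p (Subgroup.center S) ≤ W ∧
      ∀ (H : Type u) [Group H] (τ : S →* H), IsStableEmbedding p τ → (W.map τ).Normal} :=
  rfl

theorem stableNormalClosure_le {p : ℕ} {S : Type u} [Group S] {W : Subgroup S}
    (h1 : omegaOne p (Subgroup.center S) ≤ W)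
    (h2 : ∀ (H : Type u) [Group H] (τ : S →* H), IsStableEmbedding p τ → (W.map τ).Normal) :
    stableNormalClosure p S ≤ W :=
  sInf_le ⟨h1, h2⟩

theorem omegaOne_center_le_stableNormalClosure (p : ℕ) (S : Type u) [Group S] :
    omegaOne p (Subgroup.center S) ≤ stableNormalClosure p S :=
  le_sInf fun _ hW => hW.1

theorem stableNormalClosure_le_omegaCenterThompson (p : ℕ) (S : Type u) [Group S] [Finite S] :
    stableNormalClosure p S ≤ omegaCenterThompson p S :=
  stableNormalClosure_le (omegaOne_center_le_omegaCenterThompson p S)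
    fun _ _ _ hτ => omegaCenterThompson_map_normal hτ.1 hτ.2.2.2.2.1

/-- The image of `W(S)` under every stable embedding is normal. -/
theorem stableNormalClosure_map_normal {p : ℕ} {S H : Type u} [Group S] [Finite S] [Group H]
    {τ : S →* H} (hτ : IsStableEmbedding p τ) : ((stableNormalClosure p S).map τ).Normal := by
  refine ⟨?_⟩
  rintro _ ⟨s, hs, rfl⟩ h
  have hs' := hs
  have h0 := (omegaCenterThompson_map_normal hτ.1 hτ.2.2.2.2.1).conj_mem (τ s)
    ⟨s, stableNormalClosure_le_omegaCenterThompson p S hs, rfl⟩ h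
  obtain ⟨t, -, ht⟩ := h0
  refine ⟨t, ?_, ht⟩
  have hmem : ∀ W ∈ {W : Subgroup S | omegaOne p (Subgroup.center S) ≤ W ∧
      ∀ (H : Type u) [Group H] (τ : S →* H), IsStableEmbedding p τ → (W.map τ).Normal},
      t ∈ W := by
    intro W hW
    have h1 := (hW.2 H τ hτ).conj_mem (τ s) ⟨s, stableNormalClosure_le hW.1 hW.2 hs, rfl⟩ h
    obtain ⟨t', ht', h2⟩ := h1
    have : t' = t := hτ.1 (h2.trans ht.symm)
    exact this ▸ ht'
  exact Subgroup.mem_sInf.2 hmem

theorem stableNormalClosure_isElementaryAbelian (p : ℕ) (S : Type u) [Group S] [Finite S] :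
    IsElementaryAbelian p (stableNormalClosure p S) :=
  isElementaryAbelian_mono (omegaCenterThompson_isElementaryAbelian p S)
    (stableNormalClosure_le_omegaCenterThompson p S)

theorem map_center_equiv {G : Type u} {K : Type v} [Group G] [Group K] (e : G ≃* K) :
    (Subgroup.center G).map e.toMonoidHom = Subgroup.center K := by
  ext x
  constructor
  · rintro ⟨y, hy, rfl⟩
    rw [Subgroup.mem_center_iff]
    intro g
    obtain ⟨g, rfl⟩ := e.surjective g
    change e g * e y = e y * e g
    rw [← map_mul, ← map_mul, Subgroup.mem_center_iff.1 hy g]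
  · intro hx
    refine ⟨e.symm x, ?_, e.apply_symm_apply x⟩
    rw [SetLike.mem_coe, Subgroup.mem_center_iff]
    intro g
    apply e.injective
    rw [map_mul, map_mul, e.apply_symm_apply]
    exact Subgroup.mem_center_iff.1 hx (e g)

/-- Naturality of `W(S)`. -/
theorem map_mulEquiv_stableNormalClosure {S S' : Type u} [Group S] [Group S'] (p : ℕ)
    (e : S ≃* S') :
    (stableNormalClosure p S).map e.toMonoidHom = stableNormalClosure p S' := by
  have key : ∀ {S S' : Type u} [Group S] [Group S'] (e : S ≃* S'),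
      stableNormalClosure p S ≤ (stableNormalClosure p S').comap e.toMonoidHom := by
    intro S S' _ _ e x hx
    rw [Subgroup.mem_comap, stableNormalClosure_def, Subgroup.mem_sInf]
    rintro W ⟨hW1, hW2⟩
    have : stableNormalClosure p S ≤ W.comap e.toMonoidHom := by
      refine stableNormalClosure_le ?_ ?_
      · rw [← Subgroup.map_le_iff_le_comap, ← omegaOne_map p (f := e.toMonoidHom) e.injective,
          map_center_equiv]
        exact hW1
      · intro H _ τ hτ
        have h1 := hW2 H (τ.comp e.symm.toMonoidHom) (isStableEmbedding_comp_equiv hτ e.symm)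
        have h2 : (W.comap e.toMonoidHom).map τ = W.map (τ.comp e.symm.toMonoidHom) := by
          rw [← Subgroup.map_map]
          congr 1
          ext y
          constructor
          · intro hy
            exact ⟨e y, hy, e.symm_apply_apply y⟩
          · rintro ⟨z, hz, rfl⟩
            change e (e.symm z) ∈ W
            rw [e.apply_symm_apply]
            exact hz
        rw [h2]
        exact h1
    exact this hx
  apply le_antisymm
  · rw [Subgroup.map_le_iff_le_comap]
    exact key e
  · intro x hx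
    exact ⟨e.symm x, key e.symm hx, e.apply_symm_apply x⟩

theorem stableNormalClosure_characteristic (p : ℕ) (S : Type u) [Group S] :
    (stableNormalClosure p S).Characteristic := by
  rw [Subgroup.characteristic_iff_map_eq]
  intro φ
  exact map_mulEquiv_stableNormalClosure p φ

/-- `Ω₁(Z(S)) ≠ 1` for a nontrivial finite `p`-group. -/
theorem omegaOne_center_ne_bot {S : Type u} [Group S] [Finite S] {p : ℕ} [Fact p.Prime]
    (hS : IsPGroup p S) [Nontrivial S] : omegaOne p (Subgroup.center S) ≠ ⊥ := by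
  have h1 : Nontrivial (Subgroup.center S) := hS.center_nontrivial
  have h2 : IsPGroup p (Subgroup.center S) := hS.to_subgroup _
  have h3 : p ∣ Nat.card (Subgroup.center S) := by
    obtain ⟨n, hn⟩ := IsPGroup.iff_card.1 h2
    have hn0 : n ≠ 0 := by
      rintro rfl
      rw [pow_zero] at hn
      exact absurd hn (Finite.one_lt_card (α := Subgroup.center S)).ne'
    rw [hn]
    exact dvd_pow_self p hn0
  obtain ⟨x, hx⟩ := exists_prime_orderOf_dvd_card' p h3
  intro h
  have h4 : (x : S) ∈ omegaOne p (Subgroup.center S) := by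
    refine mem_omegaOne_of_pow_eq_one x.2 ?_
    rw [← Subgroup.coe_pow, ← hx, pow_orderOf_eq_one, Subgroup.coe_one]
  rw [h, Subgroup.mem_bot] at h4
  have h5 : x = 1 := Subtype.ext h4
  rw [h5, orderOf_one] at hx
  exact (Fact.out : p.Prime).one_lt.ne hx

theorem stableNormalClosure_ne_bot {S : Type u} [Group S] [Finite S] {p : ℕ} [Fact p.Prime]
    (hS : IsPGroup p S) [Nontrivial S] : stableNormalClosure p S ≠ ⊥ := by
  intro h
  have := omegaOne_center_le_stableNormalClosure p S
  rw [h, le_bot_iff] at this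
  exact omegaOne_center_ne_bot hS this

/-! ### Quadratic action -/

/-- The commutator `[K, ⟨a⟩]` for `K ≤ W` only depends on `a` modulo `C(W)`. -/
theorem commutator_zpowers_le_of_mk_eq {H : Type u} [Group H] {W K : Subgroup H} (hK : K ≤ W)
    [W.Normal] {a b : H}
    (hab : (QuotientGroup.mk a : H ⧸ Subgroup.centralizer (W : Set H)) = QuotientGroup.mk b) :
    ⁅K, Subgroup.zpowers a⁆ ≤ ⁅K, Subgroup.zpowers b⁆ := by
  rw [Subgroup.commutator_le]
  rintro k hk _ ⟨n, rfl⟩
  have h1 : (QuotientGroup.mk (b ^ n) : H ⧸ Subgroup.centralizer (W : Set H)) =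
      QuotientGroup.mk (a ^ n) := by
    rw [QuotientGroup.mk_zpow, QuotientGroup.mk_zpow, hab]
  rw [QuotientGroup.eq] at h1
  have h2 := h1 k⁻¹ (W.inv_mem (hK hk))
  have h3 : ⁅k, (fun n : ℤ => a ^ n) n⁆ = ⁅k, b ^ n⁆ := by
    have h4 : a ^ n = b ^ n * ((b ^ n)⁻¹ * a ^ n) := by group
    change ⁅k, a ^ n⁆ = ⁅k, b ^ n⁆
    rw [commutatorElement_def, commutatorElement_def]
    calc k * a ^ n * k⁻¹ * (a ^ n)⁻¹
        = k * (b ^ n * ((b ^ n)⁻¹ * a ^ n)) * k⁻¹ * (b ^ n * ((b ^ n)⁻¹ * a ^ n))⁻¹ := by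
          rw [← h4]
      _ = k * b ^ n * (((b ^ n)⁻¹ * a ^ n) * k⁻¹) * ((b ^ n)⁻¹ * a ^ n)⁻¹ * (b ^ n)⁻¹ := by
          group
      _ = k * b ^ n * (k⁻¹ * ((b ^ n)⁻¹ * a ^ n)) * ((b ^ n)⁻¹ * a ^ n)⁻¹ * (b ^ n)⁻¹ := by
          rw [h2]
      _ = k * b ^ n * k⁻¹ * (b ^ n)⁻¹ := by group
  rw [h3]
  exact Subgroup.commutator_mem_commutator hk (Subgroup.zpow_mem _ (Subgroup.mem_zpowers b) n)

theorem commutator_zpowers_eq_of_mk_eq {H : Type u} [Group H] {W K : Subgroup H} (hK : K ≤ W)
    [W.Normal] {a b : H}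
    (hab : (QuotientGroup.mk a : H ⧸ Subgroup.centralizer (W : Set H)) = QuotientGroup.mk b) :
    ⁅K, Subgroup.zpowers a⁆ = ⁅K, Subgroup.zpowers b⁆ :=
  le_antisymm (commutator_zpowers_le_of_mk_eq hK hab) (commutator_zpowers_le_of_mk_eq hK hab.symm)

/-- Quadratic action of `a` on a normal subgroup `W` only depends on `a` modulo `C(W)`. -/
theorem quadratic_of_mk_eq {H : Type u} [Group H] {W : Subgroup H} [W.Normal] {a b : H}
    (hab : (QuotientGroup.mk a : H ⧸ Subgroup.centralizer (W : Set H)) = QuotientGroup.mk b)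
    (ha : ⁅⁅W, Subgroup.zpowers a⁆, Subgroup.zpowers a⁆ = ⊥) :
    ⁅⁅W, Subgroup.zpowers b⁆, Subgroup.zpowers b⁆ = ⊥ := by
  rw [← commutator_zpowers_eq_of_mk_eq le_rfl hab,
    ← commutator_zpowers_eq_of_mk_eq (W := W) (Subgroup.commutator_le_left _ _) hab, ha]

/-- Quadratic action of `a` on a normal subgroup is invariant under conjugation. -/
theorem quadratic_conj {H : Type u} [Group H] {W : Subgroup H} [W.Normal] {a : H} (h : H)
    (ha : ⁅⁅W, Subgroup.zpowers a⁆, Subgroup.zpowers a⁆ = ⊥) :
    ⁅⁅W, Subgroup.zpowers (h * a * h⁻¹)⁆, Subgroup.zpowers (h * a * h⁻¹)⁆ = ⊥ := by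
  have h1 := congrArg (Subgroup.map (MulAut.conj h).toMonoidHom) ha
  rw [Subgroup.map_commutator, Subgroup.map_commutator, Subgroup.map_bot, MonoidHom.map_zpowers,
    map_conj_eq_of_normal inferInstance h] at h1
  exact h1

theorem quadratic_map_iff {S : Type u} {H : Type v} [Group S] [Group H] {τ : S →* H}
    (hτ : Function.Injective τ) {W : Subgroup S} {x : S} :
    ⁅⁅W.map τ, Subgroup.zpowers (τ x)⁆, Subgroup.zpowers (τ x)⁆ = ⊥ ↔
      ⁅⁅W, Subgroup.zpowers x⁆, Subgroup.zpowers x⁆ = ⊥ := by
  rw [← MonoidHom.map_zpowers, ← Subgroup.map_commutator, ← Subgroup.map_commutator,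
    Subgroup.map_eq_bot_iff_of_injective _ hτ]

/-- Elements acting quadratically on `W(S)` centralize it. -/
theorem stableNormalClosure_le_centralizer_quadratic {S : Type u} [Group S] [Finite S] {p : ℕ}
    [Fact p.Prime] :
    stableNormalClosure p S ≤ Subgroup.centralizer
      {x : S | ⁅⁅stableNormalClosure p S, Subgroup.zpowers x⁆, Subgroup.zpowers x⁆ = ⊥} := by
  refine le_trans (stableNormalClosure_le (W := stableNormalClosure p S ⊓ Subgroup.centralizer
      {x : S | ⁅⁅stableNormalClosure p S, Subgroup.zpowers x⁆, Subgroup.zpowers x⁆ = ⊥})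
      (le_inf (omegaOne_center_le_stableNormalClosure p S) ?_) ?_) inf_le_right
  · refine (omegaOne_le p _).trans ?_
    intro z hz x _
    exact Subgroup.mem_center_iff.1 hz x
  · intro H _ τ hτ
    haveI : Finite H := hτ.2.1
    haveI hWn : ((stableNormalClosure p S).map τ).Normal := stableNormalClosure_map_normal hτ
    refine ⟨?_⟩
    rintro _ ⟨u, ⟨huW, huQ⟩, rfl⟩ h
    obtain ⟨w, hw, hwh⟩ := hWn.conj_mem (τ u) ⟨u, huW, rfl⟩ h
    refine ⟨w, ⟨hw, ?_⟩, hwh⟩
    intro x hx
    have hx' : ⁅⁅stableNormalClosure p S, Subgroup.zpowers x⁆, Subgroup.zpowers x⁆ = ⊥ := hx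
    have hst : IsPStableOn p ((stableNormalClosure p S).map τ) :=
      hτ.2.2.2.2.2 _ (Subgroup.map_mono (stableNormalClosure_le_omegaCenterThompson p S))
    have hq1 := (quadratic_map_iff hτ.1).2 hx'
    have hq2 := quadratic_conj h⁻¹ hq1
    have hmem := hst _ hq2
    obtain ⟨P, hP⟩ := hτ.2.2.1
    have hle := Cfsg.Agent.Lib.Cores.pCore_le_sylow
      (P.mapSurjective (QuotientGroup.mk'_surjective
        (Subgroup.centralizer (((stableNormalClosure p S).map τ : Subgroup H) : Set H)))) hmem
    rw [Sylow.coe_mapSurjective, hP] at hle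
    obtain ⟨_, ⟨y, rfl⟩, hy⟩ := hle
    have hyq : ⁅⁅stableNormalClosure p S, Subgroup.zpowers y⁆, Subgroup.zpowers y⁆ = ⊥ :=
      (quadratic_map_iff hτ.1).1 (quadratic_of_mk_eq hy.symm hq2)
    have huy : y * u = u * y := huQ y hyq
    have hy' : (QuotientGroup.mk (τ y) : H ⧸ Subgroup.centralizer
        (((stableNormalClosure p S).map τ : Subgroup H) : Set H)) =
        QuotientGroup.mk (h⁻¹ * τ x * h⁻¹⁻¹) := hy
    rw [QuotientGroup.eq] at hy'
    have hc := hy' (τ u) ⟨u, huW, rfl⟩
    -- `τ u` commutes with `τ y` and with `(τ y)⁻¹ * (h⁻¹ * τ x * h)`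
    have hc1 : Commute (τ u) ((τ y)⁻¹ * (h⁻¹ * τ x * h⁻¹⁻¹)) := hc
    have hc2 : Commute (τ u) (τ y) := by
      change τ u * τ y = τ y * τ u
      rw [← map_mul, ← map_mul, huy]
    have hc3 : Commute (τ u) (h⁻¹ * τ x * h⁻¹⁻¹) := by
      have := hc2.mul_right hc1
      rwa [mul_inv_cancel_left] at this
    apply hτ.1
    rw [map_mul, map_mul]
    have hwh' : τ w = h * τ u * h⁻¹ := hwh
    rw [hwh']
    have hc4 := hc3.eq
    rw [inv_inv] at hc4
    calc τ x * (h * τ u * h⁻¹) = h * ((h⁻¹ * τ x * h) * τ u) * h⁻¹ := by group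
      _ = h * (τ u * (h⁻¹ * τ x * h)) * h⁻¹ := by rw [hc4]
      _ = h * τ u * h⁻¹ * τ x := by group

theorem commutator_eq_bot_of_quadratic {S : Type u} [Group S] [Finite S] {p : ℕ} [Fact p.Prime]
    (x : S) (hq : ⁅⁅stableNormalClosure p S, Subgroup.zpowers x⁆, Subgroup.zpowers x⁆ = ⊥) :
    ⁅stableNormalClosure p S, Subgroup.zpowers x⁆ = ⊥ := by
  rw [Subgroup.commutator_eq_bot_iff_le_centralizer]
  intro w hw
  have h1 := stableNormalClosure_le_centralizer_quadratic hw x hq
  rintro _ ⟨n, rfl⟩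
  exact ((show Commute x w from h1).zpow_left n).eq

end Cfsg.Agent.PLocal.StableClosure
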