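import Mathlib.GroupTheory.Index
import Mathlib.GroupTheory.PGroup
import Cfsg.Prelude.Def_Local
set_option linter.all false

/-!
`p`-solvable groups (`Cfsg.IsPSolvable`): the class passes to subgroups, quotients and isomorphic groups.
-/

set_option autoImplicit false

namespace Cfsg.Agent.PLocal.PSolvable

open Cfsg

/-- For `H` normal and `H ≤ L`, the index of `H` in `K ⊓ L`-type subgroups divides the one in `L`. -/
theorem relIndex_dvd_relIndex_of_le_right {G : Type*} [Group G] {H K L : Subgroup G} [H.Normal]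
    (hKL : K ≤ L) : H.relIndex K ∣ H.relIndex L := by
  have h := Subgroup.relIndex_dvd_index_of_normal (H.subgroupOf L) (K.subgroupOf L)
  rwa [Subgroup.relIndex_subgroupOf hKL] at h

/-- A factor condition is inherited by divisors. -/
theorem factor_of_dvd {p a b : ℕ} [Fact p.Prime] (hab : a ∣ b)
    (h : (∃ m : ℕ, b = p ^ m) ∨ b.Coprime p) : (∃ m : ℕ, a = p ^ m) ∨ a.Coprime p := by
  rcases h with ⟨m, hm⟩ | h
  · left
    obtain ⟨k, -, hk⟩ := (Nat.dvd_prime_pow (Fact.out : p.Prime)).1 (hm ▸ hab)
    exact ⟨k, hk⟩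
  · exact Or.inr (Nat.Coprime.coprime_dvd_left hab h)

/-- A group embedded in a `p`-solvable group is `p`-solvable. -/
theorem isPSolvable_of_injective {G H : Type*} [Group G] [Group H] {p : ℕ} [Fact p.Prime]
    (f : H →* G) (hf : Function.Injective f) (h : Cfsg.IsPSolvable p G) :
    Cfsg.IsPSolvable p H := by
  obtain ⟨n, K, h0, hn, hmono, hnorm, hfac⟩ := h
  refine ⟨n, fun i => (K i).comap f, ?_, ?_, ?_, ?_, ?_⟩
  · change (K 0).comap f = ⊥
    rw [h0]
    exact (MonoidHom.ker_eq_bot_iff f).2 hf
  · change (K (Fin.last n)).comap f = ⊤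
    rw [hn, Subgroup.comap_top]
  · intro i j hij
    exact Subgroup.comap_mono (hmono hij)
  · intro i
    have := hnorm i
    infer_instance
  · intro i
    have := hnorm i.castSucc
    have : ((K i.castSucc).comap f).relIndex ((K i.succ).comap f) ∣
        (K i.castSucc).relIndex (K i.succ) := by
      rw [Subgroup.relIndex_comap]
      exact relIndex_dvd_relIndex_of_le_right (Subgroup.map_comap_le _ _)
    exact factor_of_dvd this (hfac i)

/-- A homomorphic image of a `p`-solvable group is `p`-solvable. -/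
theorem isPSolvable_of_surjective {G H : Type*} [Group G] [Group H] {p : ℕ} [Fact p.Prime]
    (f : G →* H) (hf : Function.Surjective f) (h : Cfsg.IsPSolvable p G) :
    Cfsg.IsPSolvable p H := by
  obtain ⟨n, K, h0, hn, hmono, hnorm, hfac⟩ := h
  refine ⟨n, fun i => (K i).map f, ?_, ?_, ?_, ?_, ?_⟩
  · change (K 0).map f = ⊥
    rw [h0, Subgroup.map_bot]
  · change (K (Fin.last n)).map f = ⊤
    rw [hn]
    exact Subgroup.map_top_of_surjective f hf
  · intro i j hij
    exact Subgroup.map_mono (hmono hij)
  · intro i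
    exact (hnorm i).map f hf
  · intro i
    have := hnorm i.castSucc
    have hle : K i.castSucc ≤ K i.succ := hmono (Fin.castSucc_lt_succ).le
    have : ((K i.castSucc).map f).relIndex ((K i.succ).map f) ∣
        (K i.castSucc).relIndex (K i.succ) := by
      rw [Subgroup.relIndex_map_map]
      have h1 : (K i.castSucc ⊔ f.ker).relIndex (K i.succ ⊔ f.ker) =
          (K i.castSucc ⊔ f.ker).relIndex (K i.succ) := by
        have : K i.succ ⊔ f.ker = K i.succ ⊔ (K i.castSucc ⊔ f.ker) := by
          rw [← sup_assoc, sup_eq_left.2 hle]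
        rw [this]
        exact Subgroup.relIndex_sup_right (K i.succ) (K i.castSucc ⊔ f.ker)
      rw [h1]
      exact Subgroup.relIndex_dvd_of_le_left _ le_sup_left
    exact factor_of_dvd this (hfac i)

/-- A subgroup of a `p`-solvable group is `p`-solvable. -/
theorem isPSolvable_subgroup {G : Type*} [Group G] {p : ℕ} [Fact p.Prime]
    (h : Cfsg.IsPSolvable p G) (K : Subgroup G) : Cfsg.IsPSolvable p K :=
  isPSolvable_of_injective K.subtype K.subtype_injective h

/-- A quotient of a `p`-solvable group is `p`-solvable. -/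
theorem isPSolvable_quotient {G : Type*} [Group G] {p : ℕ} [Fact p.Prime]
    (h : Cfsg.IsPSolvable p G) (N : Subgroup G) [N.Normal] : Cfsg.IsPSolvable p (G ⧸ N) :=
  isPSolvable_of_surjective (QuotientGroup.mk' N) (QuotientGroup.mk'_surjective N) h

/-- `p`-solvability is invariant under isomorphism. -/
theorem isPSolvable_congr {G H : Type*} [Group G] [Group H] {p : ℕ} [Fact p.Prime]
    (e : G ≃* H) : Cfsg.IsPSolvable p G ↔ Cfsg.IsPSolvable p H :=
  ⟨isPSolvable_of_surjective e.toMonoidHom e.surjective,
    isPSolvable_of_surjective e.symm.toMonoidHom e.symm.surjective⟩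

/-- Finite `p`-groups are `p`-solvable. -/
theorem isPSolvable_of_isPGroup {G : Type*} [Group G] [Finite G] {p : ℕ} [Fact p.Prime]
    (h : IsPGroup p G) : Cfsg.IsPSolvable p G := by
  obtain ⟨k, hk⟩ := IsPGroup.iff_card.1 h
  refine ⟨1, ![⊥, ⊤], rfl, rfl, ?_, ?_, ?_⟩
  · rw [Fin.monotone_iff_le_succ]
    intro i
    fin_cases i
    exact bot_le
  · intro i
    fin_cases i
    · exact (inferInstance : (⊥ : Subgroup G).Normal)
    · exact (inferInstance : (⊤ : Subgroup G).Normal)
  · intro i
    fin_cases i
    left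
    refine ⟨k, ?_⟩
    change (⊥ : Subgroup G).relIndex ⊤ = p ^ k
    rw [Subgroup.relIndex_bot_left, Subgroup.card_top, hk]

/-- Groups of order prime to `p` are `p`-solvable. -/
theorem isPSolvable_of_coprime {G : Type*} [Group G] {p : ℕ} [Fact p.Prime]
    (h : (Nat.card G).Coprime p) : Cfsg.IsPSolvable p G := by
  refine ⟨1, ![⊥, ⊤], rfl, rfl, ?_, ?_, ?_⟩
  · rw [Fin.monotone_iff_le_succ]
    intro i
    fin_cases i
    exact bot_le
  · intro i
    fin_cases i
    · exact (inferInstance : (⊥ : Subgroup G).Normal)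
    · exact (inferInstance : (⊤ : Subgroup G).Normal)
  · intro i
    fin_cases i
    right
    change ((⊥ : Subgroup G).relIndex ⊤).Coprime p
    rwa [Subgroup.relIndex_bot_left, Subgroup.card_top]

end Cfsg.Agent.PLocal.PSolvable
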