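import Mathlib.GroupTheory.Sylow
import Mathlib.GroupTheory.Subgroup.Centralizer
import Cfsg.Prelude.Def_Transfer
import Cfsg.Prelude.Def_PLocal
set_option linter.all false

set_option autoImplicit false

/-! Elements of `G` mapping into a normal `p`-subgroup of `G ⧸ C` are products `s * c`, with `s` in a
given Sylow `p`-subgroup and `c ∈ C`. -/

namespace Cfsg.Agent.PLocal.SylowFixed

/-- If `N` is a normal `p`-subgroup of `G ⧸ C`, `S` a Sylow `p`-subgroup of the finite group `G`, then the
preimage of `N` is contained in `S * C`. -/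
theorem exists_mul_of_mk_mem {G : Type*} [Group G] [Finite G] {p : ℕ} [Fact p.Prime] (C : Subgroup G)
    [C.Normal] (N : Subgroup (G ⧸ C)) [N.Normal] (hN : IsPGroup p N) (S : Sylow p G) {g : G}
    (hg : (QuotientGroup.mk g : G ⧸ C) ∈ N) : ∃ s ∈ (S : Subgroup G), ∃ c ∈ C, g = s * c := by
  have h1 : N ≤ (S.mapSurjective (QuotientGroup.mk'_surjective C) : Sylow p (G ⧸ C)) :=
    hN.le_sylow_of_normal _
  have h2 := h1 hg
  rw [Sylow.coe_mapSurjective] at h2
  obtain ⟨s, hs, hsg⟩ := h2
  exact ⟨s, hs, s⁻¹ * g, QuotientGroup.eq.1 hsg, by group⟩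

/-- Same for a normal subgroup `D ≥ C` of `G` with `[D : C]` a power of `p`. -/
theorem exists_mul_of_mem {G : Type*} [Group G] [Finite G] {p : ℕ} [Fact p.Prime] (C D : Subgroup G)
    [C.Normal] [D.Normal] (hk : ∃ k : ℕ, C.relIndex D = p ^ k) (S : Sylow p G) {g : G}
    (hg : g ∈ D) : ∃ s ∈ (S : Subgroup G), ∃ c ∈ C, g = s * c := by
  obtain ⟨k, hk⟩ := hk
  have hcard : Nat.card (D.map (QuotientGroup.mk' C)) = p ^ k := by
    rw [← hk, ← Subgroup.relIndex_ker, QuotientGroup.ker_mk']
  have hN : IsPGroup p (D.map (QuotientGroup.mk' C)) := IsPGroup.of_card hcard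
  have : (D.map (QuotientGroup.mk' C)).Normal :=
    Subgroup.Normal.map inferInstance _ (QuotientGroup.mk'_surjective C)
  exact exists_mul_of_mk_mem C _ hN S (Subgroup.mem_map_of_mem _ hg)

/-- An element lying in `T i * C_G(V)` for all `i`, where `V` is the join of subgroups `W i` centralized by `T i`,
centralizes `V`. -/
theorem mem_centralizer_of_forall {G : Type*} [Group G] {ι : Sort*} (W : ι → Subgroup G)
    (T : ι → Subgroup G) (hW : ∀ i, W i ≤ Subgroup.centralizer (T i : Set G)) {g : G}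
    (hg : ∀ i, ∃ s ∈ T i, ∃ c ∈ Subgroup.centralizer ((⨆ i, W i : Subgroup G) : Set G), g = s * c) :
    g ∈ Subgroup.centralizer ((⨆ i, W i : Subgroup G) : Set G) := by
  have h : (⨆ i, W i : Subgroup G) ≤ Subgroup.centralizer ({g} : Set G) := by
    refine iSup_le fun i => ?_
    intro w hw
    obtain ⟨s, hs, c, hc, rfl⟩ := hg i
    rw [Subgroup.mem_centralizer_singleton_iff]
    have h1 : s * w = w * s := Subgroup.mem_centralizer_iff.1 (hW i hw) s hs
    have h2 : w * c = c * w := Subgroup.mem_centralizer_iff.1 hc w (Subgroup.mem_iSup_of_mem i hw)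
    rw [← mul_assoc, ← h1, mul_assoc, h2, mul_assoc]
  rw [Subgroup.mem_centralizer_iff]
  intro w hw
  have := h hw
  rw [Subgroup.mem_centralizer_singleton_iff] at this
  exact this

end Cfsg.Agent.PLocal.SylowFixed
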