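import Mathlib
import Cfsg.Prelude.Def_PLocal
import Cfsg.Prelude.Def_Local
import Cfsg.Agent.Lib.Cores
import Cfsg.Agent.Lib.FrattiniPGroup
set_option linter.all false

/-!
# From faithful `p`-stability to `p`-stability in the action sense

If a class of finite groups, closed under subgroups and homomorphic images, has the property that in every faithful
action of a member on an elementary abelian `p`-group the quadratically acting elements lie in `O_p`, then every member
of the class is `p`-stable in the action sense (`Cfsg.IsActionPStable`).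
-/

set_option autoImplicit false

namespace Cfsg.Agent.PLocal.ActionStable

set_option linter.style.haveILetI false

open Subgroup
open scoped commutatorElement
open Cfsg (pCore IsElementaryAbelian)
open Cfsg.Agent.Lib.Cores (le_pCore pCore_isPGroup pCore_normal map_equiv_pCore)

universe u

/-- If `a` commutes with all `[v, a]` (`v ∈ V`), then `[V, ⟨a⟩, ⟨a⟩] = 1`. -/
theorem commutator_zpowers_eq_bot {L : Type*} [Group L] [Finite L] (V : Subgroup L) (a : L)
    (hq : ∀ v ∈ V, a * ⁅v, a⁆ = ⁅v, a⁆ * a) :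
    ⁅⁅V, zpowers a⁆, zpowers a⁆ = ⊥ := by
  have key : ∀ v ∈ V, ∀ n : ℕ, ⁅v, a ^ n⁆ ∈ centralizer (zpowers a : Set L) := by
    intro v hv n
    have h2 : ⁅v, a⁆ ∈ centralizer (zpowers a : Set L) := by
      rw [mem_centralizer_iff]
      rintro _ ⟨m, rfl⟩
      exact (Commute.zpow_left (show Commute a ⁅v, a⁆ from hq v hv) m).eq
    induction n with
    | zero => simp
    | succ n ih =>
      have h1 : ⁅v, a ^ (n + 1)⁆ = ⁅v, a ^ n⁆ * (a ^ n * ⁅v, a⁆ * (a ^ n)⁻¹) := by
        simp only [commutatorElement_def, pow_succ]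
        group
      rw [h1]
      refine mul_mem ih ?_
      have h3 : a ^ n * ⁅v, a⁆ = ⁅v, a⁆ * a ^ n :=
        (mem_centralizer_iff.1 h2 _ ⟨n, by simp⟩)
      rw [h3, mul_inv_cancel_right]
      exact h2
  rw [commutator_eq_bot_iff_le_centralizer, commutator_le]
  intro v hv z hz
  obtain ⟨n, rfl⟩ := (mem_powers_iff_mem_zpowers (x := a)).2 hz
  exact key v hv n

/-- Conversely, quadratic action means that `a` commutes with every `[v, a]`. -/
theorem commute_of_commutator_eq_bot {L : Type*} [Group L] {V : Subgroup L} {a : L}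
    (h : ⁅⁅V, zpowers a⁆, zpowers a⁆ = ⊥) (v : L) (hv : v ∈ V) : a * ⁅v, a⁆ = ⁅v, a⁆ * a := by
  have h1 : ⁅v, a⁆ ∈ ⁅V, zpowers a⁆ := commutator_mem_commutator hv (mem_zpowers a)
  have h2 : ⁅⁅v, a⁆, a⁆ ∈ ⁅⁅V, zpowers a⁆, zpowers a⁆ :=
    commutator_mem_commutator h1 (mem_zpowers a)
  rw [h, mem_bot, commutatorElement_eq_one_iff_mul_comm] at h2
  exact h2.symm

/-- The faithful statement for a class `P` (stated with subgroups `V`, `H` of a common finite group), transported to
a group `R` of automorphisms of an elementary abelian group `V`. -/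
theorem mem_pCore_of_faithful {p : ℕ} [Fact p.Prime] (P : ∀ (Γ : Type u) [Group Γ], Prop)
    (hst : ∀ (L : Type u) [Group L] [Finite L] (V H : Subgroup L), IsElementaryAbelian p V →
      H ≤ normalizer (V : Set L) → H ⊓ centralizer (V : Set L) = ⊥ → P H → ∀ a ∈ H,
      ⁅⁅V, zpowers a⁆, zpowers a⁆ = ⊥ → a ∈ (pCore p H).map H.subtype)
    {V : Type u} [Group V] [Finite V] (hc : ∀ x y : V, x * y = y * x) (hp : ∀ x : V, x ^ p = 1)
    (R : Subgroup (MulAut V)) (hR : ∀ (B : Type u) [Group B], Nonempty (R ≃* B) → P B) (a : R)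
    (hq : ∀ v : V, a.1 (v * (a.1 v)⁻¹) = v * (a.1 v)⁻¹) : a ∈ pCore p R := by
  let L := V ⋊[R.subtype] R
  haveI : Finite (MulAut V) := inferInstance
  haveI : Finite L := Finite.of_equiv (V × R) SemidirectProduct.equivProd.symm
  let iV : V →* L := SemidirectProduct.inl
  let iR : R →* L := SemidirectProduct.inr
  have hiR : Function.Injective iR := SemidirectProduct.inr_injective
  have hiV : Function.Injective iV := SemidirectProduct.inl_injective
  have hconj : ∀ (r : R) (v : V), iR r * iV v = iV (r.1 v) * iR r := by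
    intro r v
    have := SemidirectProduct.inl_aut (φ := R.subtype) r v
    change iV (r.1 v) = iR r * iV v * iR r⁻¹ at this
    rw [this, mul_assoc _ (iR r⁻¹), ← map_mul, inv_mul_cancel, map_one, mul_one]
  have hnorm : iV.range.Normal := by
    change (SemidirectProduct.inl : V →* L).range.Normal
    rw [SemidirectProduct.range_inl_eq_ker_rightHom]
    infer_instance
  have hcommV : ∀ x ∈ iV.range, ∀ y ∈ iV.range, x * y = y * x := by
    rintro _ ⟨x, rfl⟩ _ ⟨y, rfl⟩
    rw [← map_mul, hc, map_mul]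
  have hcomm : ∀ v : V, ⁅iV v, iR a⁆ = iV (v * (a.1 v)⁻¹) := by
    intro v
    rw [commutatorElement_def, mul_assoc (iV v), ← map_inv iV, hconj, ← mul_assoc,
      mul_inv_cancel_right, ← map_mul]
    simp
  have h := hst L iV.range iR.range ?_ ?_ ?_ ?_ (iR a) ⟨a, rfl⟩ ?_
  · obtain ⟨h', hh', hh''⟩ := h
    let e : R ≃* iR.range := MonoidHom.ofInjective hiR
    have he : (pCore p R).map e.toMonoidHom = pCore p iR.range := map_equiv_pCore e p
    rw [← he] at hh'
    obtain ⟨b, hb, rfl⟩ := hh'
    have : iR b = iR a := hh''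
    rwa [← hiR this]
  · constructor
    · exact ⟨⟨fun x y => Subtype.ext (hcommV _ x.2 _ y.2)⟩⟩
    · rintro _ ⟨x, rfl⟩
      rw [← map_pow, hp, map_one]
  · rw [normalizer_eq_top]
    exact le_top
  · rw [eq_bot_iff]
    rintro _ ⟨⟨r, rfl⟩, hr⟩
    rw [mem_bot]
    have : r = 1 := by
      apply Subtype.ext
      ext v
      have h1 := mem_centralizer_iff.1 hr (iV v) ⟨v, rfl⟩
      rw [hconj] at h1
      exact (hiV (mul_right_cancel h1)).symm
    rw [this, map_one]
  · exact hR _ ⟨MonoidHom.ofInjective hiR⟩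
  · refine commutator_zpowers_eq_bot _ _ ?_
    rintro _ ⟨v, rfl⟩
    rw [hcomm, hconj, hq]

/-- Normal elementary abelian subgroups: the action is `p`-stable. -/
theorem isPStableOn_of_faithful {p : ℕ} [Fact p.Prime] (P : ∀ (Γ : Type u) [Group Γ], Prop)
    (hsurj : ∀ (A B : Type u) [Group A] [Group B] [Finite A] (f : A →* B),
      Function.Surjective f → P A → P B)
    (hst : ∀ (L : Type u) [Group L] [Finite L] (V H : Subgroup L), IsElementaryAbelian p V →
      H ≤ normalizer (V : Set L) → H ⊓ centralizer (V : Set L) = ⊥ → P H → ∀ a ∈ H,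
      ⁅⁅V, zpowers a⁆, zpowers a⁆ = ⊥ → a ∈ (pCore p H).map H.subtype)
    {Γ : Type u} [Group Γ] [Finite Γ] (hΓ : P Γ) (V : Subgroup Γ) [V.Normal]
    (hV : IsElementaryAbelian p V) : Cfsg.IsPStableOn p V := by
  intro a ha
  let φ : Γ →* MulAut V := MulAut.conjNormal
  have hφ : ∀ (g : Γ) (v : V), ((φ g v : V) : Γ) = g * v * g⁻¹ := fun g v =>
    MulAut.conjNormal_apply g v
  have hker : ∀ g : Γ, φ g = 1 ↔ g ∈ centralizer (V : Set Γ) := by
    intro g
    rw [mem_centralizer_iff]
    constructor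
    · intro h v hv
      have h1 := hφ g ⟨v, hv⟩
      rw [h] at h1
      have h2 : v = g * v * g⁻¹ := h1
      calc v * g = (g * v * g⁻¹) * g := by rw [← h2]
        _ = g * v := by group
    · intro h
      ext v
      rw [hφ]
      have := h v v.2
      change g * v * g⁻¹ = v
      rw [← this, mul_inv_cancel_right]
  have hmem : φ.rangeRestrict a ∈ pCore p φ.range := by
    refine mem_pCore_of_faithful P hst ?_ ?_ φ.range ?_ _ ?_
    · intro x y
      exact Subtype.ext (congrArg Subtype.val (hV.1.is_comm.comm x y))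
    · intro x
      exact Subtype.ext (by simpa using hV.2 x x.2)
    · rintro B _ ⟨e⟩
      exact hsurj Γ B (e.toMonoidHom.comp φ.rangeRestrict)
        (e.surjective.comp φ.rangeRestrict_surjective) hΓ
    · intro v
      apply Subtype.ext
      have h1 := commute_of_commutator_eq_bot ha v.1 v.2
      have h2 : ((v * (φ a v)⁻¹ : V) : Γ) = ⁅(v : Γ), a⁆ := by
        rw [commutatorElement_def]
        push_cast
        rw [hφ]
        group
      change ((φ a (v * (φ a v)⁻¹) : V) : Γ) = ((v * (φ a v)⁻¹ : V) : Γ)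
      rw [hφ, h2, h1, mul_inv_cancel_right]
  -- the preimage of `O_p` of the image
  set D : Subgroup Γ := (pCore p φ.range).comap φ.rangeRestrict with hD
  have hDn : D.Normal := by
    haveI := pCore_normal (G := φ.range) p
    infer_instance
  have haD : a ∈ D := hmem
  refine le_pCore (hDn.map (QuotientGroup.mk' (centralizer (V : Set Γ)))
    (QuotientGroup.mk'_surjective _)) ?_ ⟨a, haD, rfl⟩
  rintro ⟨_, x, hx, rfl⟩
  obtain ⟨k, hk⟩ := pCore_isPGroup (G := φ.range) p ⟨φ.rangeRestrict x, hx⟩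
  refine ⟨k, ?_⟩
  apply Subtype.ext
  have h1 : φ (x ^ p ^ k) = 1 := by
    have := congrArg (fun t : ↥(pCore p φ.range) => ((t : φ.range) : MulAut V)) hk
    simpa using this
  have h2 := (hker _).1 h1
  change (QuotientGroup.mk' (centralizer (V : Set Γ)) x) ^ p ^ k = 1
  rw [← map_pow]
  exact (QuotientGroup.eq_one_iff _).2 h2

/-- Elements of a set of commuting elements of order dividing `p` generate an elementary abelian group. -/
theorem isElementaryAbelian_omegaOne {Γ : Type*} [Group Γ] (p : ℕ) (Z : Subgroup Γ)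
    (hZ : ∀ x ∈ Z, ∀ y ∈ Z, x * y = y * x) : IsElementaryAbelian p (Cfsg.omegaOne p Z) := by
  have hle : Cfsg.omegaOne p Z ≤ Z := (closure_le _).2 fun x hx => hx.1
  refine ⟨⟨⟨fun x y => Subtype.ext (hZ _ (hle x.2) _ (hle y.2))⟩⟩, ?_⟩
  intro x hx
  refine closure_induction (p := fun y _ => y ^ p = 1) (fun y hy => hy.2) (one_pow _)
    (fun y z hy hz h1 h2 => ?_) (fun y _ h => by rw [inv_pow, h, inv_one]) hx
  have : Commute y z := hZ _ (hle hy) _ (hle hz)
  rw [this.mul_pow, h1, h2, one_mul]

/-- The Frattini quotient of a normal `p`-subgroup is elementary abelian: image in the quotient group. -/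
theorem isElementaryAbelian_map_frattini {Γ : Type*} [Group Γ] [Finite Γ] {p : ℕ} [Fact p.Prime]
    (K : Subgroup Γ) (hK : IsPGroup p K) (N : Subgroup Γ) [N.Normal]
    (hN : N = (frattini K).map K.subtype) :
    IsElementaryAbelian p (K.map (QuotientGroup.mk' N)) := by
  constructor
  · refine ⟨⟨?_⟩⟩
    rintro ⟨_, x, hx, rfl⟩ ⟨_, y, hy, rfl⟩
    apply Subtype.ext
    change QuotientGroup.mk' N x * QuotientGroup.mk' N y =
      QuotientGroup.mk' N y * QuotientGroup.mk' N x
    have h1 : ⁅(⟨x, hx⟩ : K), (⟨y, hy⟩ : K)⁆ ∈ frattini K :=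
      Cfsg.Agent.Lib.FrattiniPGroup.commutator_mem_frattini hK _ _
    have h2 : ⁅x, y⁆ ∈ N := by
      rw [hN]
      exact ⟨_, h1, by simp [commutatorElement_def]⟩
    rw [← commutatorElement_eq_one_iff_mul_comm, ← map_commutatorElement]
    exact (QuotientGroup.eq_one_iff _).2 h2
  · rintro _ ⟨x, hx, rfl⟩
    have h1 : (⟨x, hx⟩ : K) ^ p ∈ frattini K :=
      Cfsg.Agent.Lib.FrattiniPGroup.pow_mem_frattini hK _
    have h2 : x ^ p ∈ N := by
      rw [hN]
      exact ⟨_, h1, by simp⟩
    rw [← map_pow]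
    exact (QuotientGroup.eq_one_iff _).2 h2

/-- From the quotient to the section. -/
theorem isPStableOnSection_of_quotient {Γ : Type*} [Group Γ] [Finite Γ] {p : ℕ} [Fact p.Prime]
    (K N : Subgroup Γ) [K.Normal] [N.Normal] [(K.map (QuotientGroup.mk' N)).Normal]
    (h : Cfsg.IsPStableOn p (K.map (QuotientGroup.mk' N))) :
    Cfsg.IsPStableOnSection p K N := by
  intro a ha
  set C : Subgroup (Γ ⧸ N) := centralizer ((K.map (QuotientGroup.mk' N) : Subgroup (Γ ⧸ N)) :
    Set (Γ ⧸ N)) with hC
  have hCn : C.Normal := by rw [hC]; infer_instance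
  have h1 : ⁅⁅K.map (QuotientGroup.mk' N), zpowers (QuotientGroup.mk' N a)⁆,
      zpowers (QuotientGroup.mk' N a)⁆ = ⊥ := by
    rw [← MonoidHom.map_zpowers, ← map_commutator, ← map_commutator, Subgroup.map_eq_bot_iff,
      QuotientGroup.ker_mk']
    exact ha
  have h2 : (QuotientGroup.mk' C (QuotientGroup.mk' N a)) ∈ pCore p ((Γ ⧸ N) ⧸ C) :=
    h (QuotientGroup.mk' N a) h1
  set f : Γ →* ((Γ ⧸ N) ⧸ C) := (QuotientGroup.mk' C).comp (QuotientGroup.mk' N) with hf
  have hfs : Function.Surjective f :=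
    (QuotientGroup.mk'_surjective C).comp (QuotientGroup.mk'_surjective N)
  have hker : Cfsg.sectionKernel K N = (⊥ : Subgroup ((Γ ⧸ N) ⧸ C)).comap f := by
    rw [hf, ← comap_comap, MonoidHom.comap_bot, QuotientGroup.ker_mk']
    rfl
  haveI := pCore_normal (G := (Γ ⧸ N) ⧸ C) p
  refine ⟨(pCore p ((Γ ⧸ N) ⧸ C)).comap f, inferInstance, ?_, ?_, h2⟩
  · rw [hker]
    exact comap_mono bot_le
  · rw [hker, relIndex_comap, map_comap_eq_self_of_surjective hfs, relIndex_bot_left]
    exact IsPGroup.iff_card.1 (pCore_isPGroup p)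

/-- **Main reduction.** A class of finite groups closed under subgroups and homomorphic images for which faithful
actions on elementary abelian `p`-groups are `p`-stable consists of groups that are `p`-stable in the action sense. -/
theorem isActionPStable_of_faithful {p : ℕ} [Fact p.Prime] (P : ∀ (Γ : Type u) [Group Γ], Prop)
    (hsurj : ∀ (A B : Type u) [Group A] [Group B] [Finite A] (f : A →* B),
      Function.Surjective f → P A → P B)
    (hsub : ∀ (A : Type u) [Group A] [Finite A] (K : Subgroup A), P A → P K)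
    (hst : ∀ (L : Type u) [Group L] [Finite L] (V H : Subgroup L), IsElementaryAbelian p V →
      H ≤ normalizer (V : Set L) → H ⊓ centralizer (V : Set L) = ⊥ → P H → ∀ a ∈ H,
      ⁅⁅V, zpowers a⁆, zpowers a⁆ = ⊥ → a ∈ (pCore p H).map H.subtype)
    {Γ : Type u} [Group Γ] [Finite Γ] (hΓ : P Γ) : Cfsg.IsActionPStable p Γ := by
  haveI hn := pCore_normal (G := Γ) p
  refine ⟨?_, ?_, ?_⟩
  · intro V _ hV
    exact isPStableOn_of_faithful P hsurj hst hΓ V hV
  · haveI : (frattini ↥(pCore p Γ)).Characteristic := frattini_characteristic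
    haveI : ((frattini ↥(pCore p Γ)).map (pCore p Γ).subtype).Normal := inferInstance
    haveI : ((pCore p Γ).map (QuotientGroup.mk'
        ((frattini ↥(pCore p Γ)).map (pCore p Γ).subtype))).Normal :=
      hn.map _ (QuotientGroup.mk'_surjective _)
    have := isPStableOnSection_of_quotient (p := p) (pCore p Γ)
      ((frattini ↥(pCore p Γ)).map (pCore p Γ).subtype)
      (isPStableOn_of_faithful P hsurj hst
        (hsurj Γ _ (QuotientGroup.mk' _) (QuotientGroup.mk'_surjective _) hΓ) _
        (isElementaryAbelian_map_frattini _ (pCore_isPGroup p) _ rfl))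
    exact this
  · intro S V _ hle
    refine isPStableOn_of_faithful P hsurj hst (hsub Γ _ hΓ) V ?_
    have hE : IsElementaryAbelian p (Cfsg.omegaCenterThompson p ↥(S : Subgroup Γ)) := by
      refine isElementaryAbelian_omegaOne p _ ?_
      intro x hx y hy
      exact mem_centralizer_iff.1 hy.2 x hx.1
    have hmem : ∀ v ∈ V, ∃ w ∈ Cfsg.omegaCenterThompson p ↥(S : Subgroup Γ), (w : Γ) = (v : Γ) := by
      intro v hv
      obtain ⟨w, hw, hwv⟩ := hle ⟨v, hv, rfl⟩
      exact ⟨w, hw, hwv⟩
    constructor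
    · refine ⟨⟨?_⟩⟩
      rintro ⟨x, hx⟩ ⟨y, hy⟩
      obtain ⟨x', hx', hxx⟩ := hmem x hx
      obtain ⟨y', hy', hyy⟩ := hmem y hy
      apply Subtype.ext
      apply Subtype.ext
      have h1 : (⟨x', hx'⟩ : ↥(Cfsg.omegaCenterThompson p ↥(S : Subgroup Γ))) * ⟨y', hy'⟩ =
          ⟨y', hy'⟩ * ⟨x', hx'⟩ := hE.1.is_comm.comm _ _
      have h2 := congrArg (fun t : ↥(Cfsg.omegaCenterThompson p ↥(S : Subgroup Γ)) =>
        ((t : ↥(S : Subgroup Γ)) : Γ)) h1
      change (x' : Γ) * (y' : Γ) = (y' : Γ) * (x' : Γ) at h2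
      change (x : Γ) * (y : Γ) = (y : Γ) * (x : Γ)
      rw [← hxx, ← hyy, h2]
    · intro x hx
      obtain ⟨x', hx', hxx⟩ := hmem x hx
      apply Subtype.ext
      have h1 := congrArg (fun t : ↥(S : Subgroup Γ) => (t : Γ)) (hE.2 x' hx')
      change (x : Γ) ^ p = 1
      rw [← hxx]
      simpa using h1

end Cfsg.Agent.PLocal.ActionStable
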