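import Mathlib
import Cfsg.Prelude.Def_Transfer
import Cfsg.Prelude.Def_Local
import Cfsg.Agent.Involutions.BaerSuzuki
set_option linter.all false

/-!
# Consequences of Baer–Suzuki for an action that is not `p`-stable
-/

set_option autoImplicit false

namespace Cfsg.Agent.PLocal.NotPStable

/-- Conjugating a quadratic action by an element normalizing `V`. -/
theorem quadratic_conj {G : Type*} [Group G] {V : Subgroup G} {a g : G}
    (hg : g ∈ Subgroup.normalizer (V : Set G))
    (hq : ⁅⁅V, Subgroup.zpowers a⁆, Subgroup.zpowers a⁆ = ⊥) :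
    ⁅⁅V, Subgroup.zpowers (g * a * g⁻¹)⁆, Subgroup.zpowers (g * a * g⁻¹)⁆ = ⊥ := by
  have hV : V.map (MulAut.conj g).toMonoidHom = V := by
    ext x
    rw [Subgroup.mem_map]
    constructor
    · rintro ⟨y, hy, rfl⟩
      exact (Subgroup.mem_normalizer_iff.1 hg y).1 hy
    · intro hx
      refine ⟨g⁻¹ * x * g, ?_, ?_⟩
      · have := (Subgroup.mem_normalizer_iff.1 hg (g⁻¹ * x * g)).2
        apply this
        have h2 : g * (g⁻¹ * x * g) * g⁻¹ = x := by group
        rw [h2]; exact hx
      · simp [MulAut.conj_apply]; group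
  have hz : (Subgroup.zpowers a).map (MulAut.conj g).toMonoidHom
      = Subgroup.zpowers (g * a * g⁻¹) := by
    rw [MonoidHom.map_zpowers]
    simp [MulAut.conj_apply]
  have := congrArg (Subgroup.map (MulAut.conj g).toMonoidHom) hq
  rw [Subgroup.map_commutator, Subgroup.map_commutator, hV, hz, Subgroup.map_bot] at this
  exact this

/-- If `a ∈ H` acts quadratically on `V` and does not lie in `O_p(H)`, there is a second
quadratic element `b` (a conjugate of `a`) such that `⟨a, b⟩` is not a `p`-group. -/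
theorem exists_pair {G : Type*} [Group G] [Finite G] {p : ℕ} [Fact p.Prime] {V H : Subgroup G}
    (hHV : H ≤ Subgroup.normalizer (V : Set G)) {a : G} (haH : a ∈ H)
    (hq : ⁅⁅V, Subgroup.zpowers a⁆, Subgroup.zpowers a⁆ = ⊥)
    (hna : a ∉ (Cfsg.pCore p H).map H.subtype) :
    ∃ g ∈ H, ⁅⁅V, Subgroup.zpowers (g * a * g⁻¹)⁆, Subgroup.zpowers (g * a * g⁻¹)⁆ = ⊥ ∧
      ¬ IsPGroup p (Subgroup.closure ({a, g * a * g⁻¹} : Set G)) := by
  by_contra hcon
  push Not at hcon
  apply hna
  refine ⟨⟨a, haH⟩, ?_, rfl⟩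
  apply Cfsg.Agent.Involutions.BaerSuzuki.mem_pCore_of_conj_pairs
  intro g
  have h1 := hcon g g.2 (quadratic_conj (hHV g.2) hq)
  have h2 : (Subgroup.closure ({⟨a, haH⟩, g * ⟨a, haH⟩ * g⁻¹} : Set H)).map H.subtype
      = Subgroup.closure ({a, (g : G) * a * (g : G)⁻¹} : Set G) := by
    rw [MonoidHom.map_closure]
    congr 1
    rw [Set.image_insert_eq, Set.image_singleton]
    rfl
  rw [← h2] at h1
  exact h1.of_equiv (Subgroup.equivMapOfInjective _ H.subtype H.subtype_injective).symm

/-- A subgroup of a group with commutative Sylow `2`-subgroups has commutative Sylow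
`2`-subgroups (stated for an arbitrary prime `r`). -/
theorem isMulCommutative_sylow_of_le {G : Type*} [Group G] [Finite G] {r : ℕ} [Fact r.Prime]
    {H K : Subgroup G} (hKH : K ≤ H) (T : Sylow r H) (hT : IsMulCommutative T) (S : Sylow r K) :
    IsMulCommutative S := by
  -- image of `S` in `H`
  have hS : IsPGroup r ((S : Subgroup K).map (Subgroup.inclusion hKH)) := S.isPGroup'.map _
  obtain ⟨T', hT'⟩ := hS.exists_le_sylow
  obtain ⟨h, hh⟩ := MulAction.exists_smul_eq H T T'
  refine ⟨⟨fun x y => ?_⟩⟩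
  have key : ∀ z : S, ∃ t : T, (Subgroup.inclusion hKH (z : K)) = h * (t : H) * h⁻¹ := by
    intro z
    have h1 : Subgroup.inclusion hKH (z : K) ∈ (T' : Subgroup H) :=
      hT' (Subgroup.mem_map_of_mem _ z.2)
    rw [← hh] at h1
    have h2 : h⁻¹ * Subgroup.inclusion hKH (z : K) * h ∈ (T : Subgroup H) := by
      have := (Subgroup.mem_pointwise_smul_iff_inv_smul_mem).1 h1
      simpa [MulAut.smul_def, MulAut.conj_apply, ← map_inv] using this
    exact ⟨⟨_, h2⟩, by simp; group⟩
  obtain ⟨t, ht⟩ := key x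
  obtain ⟨s, hs⟩ := key y
  have hts : t * s = s * t := hT.is_comm.comm t s
  have hts' : (t : H) * s = s * t := congrArg Subtype.val hts
  apply Subtype.ext
  apply Subgroup.inclusion_injective hKH
  show Subgroup.inclusion hKH ((x : K) * y) = Subgroup.inclusion hKH ((y : K) * x)
  rw [map_mul, map_mul, ht, hs]
  calc h * (t : H) * h⁻¹ * (h * s * h⁻¹) = h * (t * s) * h⁻¹ := by group
    _ = h * (s * t) * h⁻¹ := by rw [hts']
    _ = _ := by group

end Cfsg.Agent.PLocal.NotPStable
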