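import Mathlib
set_option linter.all false

set_option autoImplicit false

/-!
# Finite subgroups of `SL(2, k)` with abelian Sylow 2-subgroups

A finite subgroup of `SL(2, k)`, `k` a field of odd characteristic `p`, that is generated by `p`-elements and has
abelian Sylow 2-subgroups is a `p`-group.
-/

namespace Cfsg.Agent.PLocal.SLTwoSylow



/-- Matrices commuting with a nonscalar `2 × 2` matrix commute with each other. -/
theorem comm_of_comm_nonscalar {k : Type*} [Field k] (z u v : Matrix (Fin 2) (Fin 2) k)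
    (hz : ∀ c : k, z ≠ c • (1 : Matrix (Fin 2) (Fin 2) k)) (hu : u * z = z * u) (hv : v * z = z * v) :
    u * v = v * u := by
  have hu00 := congrFun (congrFun hu 0) 0
  have hu01 := congrFun (congrFun hu 0) 1
  have hu10 := congrFun (congrFun hu 1) 0
  have hv00 := congrFun (congrFun hv 0) 0
  have hv01 := congrFun (congrFun hv 0) 1
  have hv10 := congrFun (congrFun hv 1) 0
  simp only [Matrix.mul_apply, Fin.sum_univ_two] at hu00 hu01 hu10 hv00 hv01 hv10
  have key : z 0 1 ≠ 0 ∨ z 1 0 ≠ 0 ∨ z 0 0 - z 1 1 ≠ 0 := by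
    by_contra hcon
    push Not at hcon
    obtain ⟨h1, h2, h3⟩ := hcon
    apply hz (z 0 0)
    ext i j
    fin_cases i <;> fin_cases j
    · simp
    · simpa using h1
    · simpa using h2
    · simp
      linear_combination -h3
  have main : u 0 1 * v 1 0 = v 0 1 * u 1 0 ∧ (u 0 0 - u 1 1) * v 0 1 = (v 0 0 - v 1 1) * u 0 1 ∧
      (u 0 0 - u 1 1) * v 1 0 = (v 0 0 - v 1 1) * u 1 0 := by
    have R1 : u 0 1 * z 1 0 = z 0 1 * u 1 0 := by linear_combination hu00
    have R2 : (u 0 0 - u 1 1) * z 0 1 = (z 0 0 - z 1 1) * u 0 1 := by linear_combination hu01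
    have R3 : (u 0 0 - u 1 1) * z 1 0 = (z 0 0 - z 1 1) * u 1 0 := by linear_combination -hu10
    have S1 : v 0 1 * z 1 0 = z 0 1 * v 1 0 := by linear_combination hv00
    have S2 : (v 0 0 - v 1 1) * z 0 1 = (z 0 0 - z 1 1) * v 0 1 := by linear_combination hv01
    have S3 : (v 0 0 - v 1 1) * z 1 0 = (z 0 0 - z 1 1) * v 1 0 := by linear_combination -hv10
    rcases key with h | h | h
    · have T1 : u 0 1 * v 1 0 = v 0 1 * u 1 0 := by
        apply mul_left_cancel₀ h
        linear_combination -(u 0 1) * S1 + v 0 1 * R1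
      refine ⟨T1, ?_, ?_⟩
      · apply mul_left_cancel₀ h
        linear_combination v 0 1 * R2 - u 0 1 * S2
      · apply mul_left_cancel₀ h
        linear_combination v 1 0 * R2 - u 1 0 * S2 + (z 0 0 - z 1 1) * T1
    · have T1 : u 0 1 * v 1 0 = v 0 1 * u 1 0 := by
        apply mul_left_cancel₀ h
        linear_combination v 1 0 * R1 - u 1 0 * S1
      refine ⟨T1, ?_, ?_⟩
      · apply mul_left_cancel₀ h
        linear_combination v 0 1 * R3 - u 0 1 * S3 - (z 0 0 - z 1 1) * T1
      · apply mul_left_cancel₀ h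
        linear_combination v 1 0 * R3 - u 1 0 * S3
    · have T3 : (u 0 0 - u 1 1) * v 1 0 = (v 0 0 - v 1 1) * u 1 0 := by
        apply mul_left_cancel₀ h
        linear_combination -(u 0 0 - u 1 1) * S3 + (v 0 0 - v 1 1) * R3
      refine ⟨?_, ?_, T3⟩
      · apply mul_left_cancel₀ h
        linear_combination -(v 1 0) * R2 + u 1 0 * S2 + z 0 1 * T3
      · apply mul_left_cancel₀ h
        linear_combination -(u 0 0 - u 1 1) * S2 + (v 0 0 - v 1 1) * R2
  obtain ⟨h1, h2, h3⟩ := main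
  ext i j
  fin_cases i <;> fin_cases j
  · simp [Matrix.mul_apply, Fin.sum_univ_two]
    linear_combination h1
  · simp [Matrix.mul_apply, Fin.sum_univ_two]
    linear_combination h2
  · simp [Matrix.mul_apply, Fin.sum_univ_two]
    linear_combination -h3
  · simp [Matrix.mul_apply, Fin.sum_univ_two]
    linear_combination -h1

variable {k : Type*} [Field k]

/-- `x + x⁻¹ = tr x` in `SL(2, k)`. -/
theorem add_inv_eq (x : Matrix.SpecialLinearGroup (Fin 2) k) :
    (x : Matrix (Fin 2) (Fin 2) k) + (x⁻¹ : Matrix.SpecialLinearGroup (Fin 2) k) =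
      (x : Matrix (Fin 2) (Fin 2) k).trace • (1 : Matrix (Fin 2) (Fin 2) k) := by
  rw [Matrix.SpecialLinearGroup.coe_inv, Matrix.adjugate_fin_two, Matrix.trace_fin_two]
  ext i j
  fin_cases i <;> fin_cases j <;> simp [add_comm]

/-- The determinant of `x - 1` for `x` in `SL(2, k)`. -/
theorem det_sub_one (x : Matrix.SpecialLinearGroup (Fin 2) k) :
    ((x : Matrix (Fin 2) (Fin 2) k) - 1).det = 2 - (x : Matrix (Fin 2) (Fin 2) k).trace := by
  have h := x.det_coe
  rw [Matrix.det_fin_two] at h ⊢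
  rw [Matrix.trace_fin_two]
  simp
  linear_combination h

/-- An element of `SL(2, k)` with trace two is unipotent. -/
theorem sub_one_sq_of_trace (x : Matrix.SpecialLinearGroup (Fin 2) k)
    (h : (x : Matrix (Fin 2) (Fin 2) k).trace = 2) : ((x : Matrix (Fin 2) (Fin 2) k) - 1) ^ 2 = 0 := by
  have h1 := add_inv_eq x
  rw [h] at h1
  have h2 : (x : Matrix (Fin 2) (Fin 2) k) * ((x : Matrix (Fin 2) (Fin 2) k) +
      (x⁻¹ : Matrix.SpecialLinearGroup (Fin 2) k)) =
      (x : Matrix (Fin 2) (Fin 2) k) * ((2 : k) • (1 : Matrix (Fin 2) (Fin 2) k)) := by rw [h1]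
  rw [mul_add, ← Matrix.SpecialLinearGroup.coe_mul, ← Matrix.SpecialLinearGroup.coe_mul, mul_inv_cancel,
    Matrix.SpecialLinearGroup.coe_one, Matrix.SpecialLinearGroup.coe_mul, Matrix.mul_smul, mul_one, two_smul] at h2
  rw [pow_two, sub_mul, mul_sub, mul_sub, mul_one, mul_one, one_mul]
  have h3 : (x : Matrix (Fin 2) (Fin 2) k) * x = x + x - 1 := by rw [← h2]; abel
  rw [h3]; abel

/-- An element of `SL(2, k)` of order prime to the characteristic and with trace two is trivial. -/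
theorem eq_one_of_trace {p : ℕ} [Fact p.Prime] [CharP k p] (x : Matrix.SpecialLinearGroup (Fin 2) k)
    (h : (x : Matrix (Fin 2) (Fin 2) k).trace = 2) (m : ℕ) (hm : m.Coprime p) (hx : x ^ m = 1) : x = 1 := by
  have h1 := sub_one_sq_of_trace x h
  have h2 : ((x : Matrix (Fin 2) (Fin 2) k) - 1) ^ p = 0 := by
    obtain ⟨q, hq⟩ := Nat.exists_eq_add_of_le (Fact.out : p.Prime).two_le
    rw [hq, pow_add, h1, zero_mul]
  rw [sub_pow_char_of_commute (p := p) (Commute.one_right _), one_pow, sub_eq_zero] at h2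
  have h3 : x ^ p = 1 := by
    apply Subtype.ext
    exact h2
  have h4 : orderOf x ∣ Nat.gcd m p := Nat.dvd_gcd (orderOf_dvd_of_pow_eq_one hx) (orderOf_dvd_of_pow_eq_one h3)
  rw [hm.gcd_eq_one, Nat.dvd_one, orderOf_eq_one_iff] at h4
  exact h4

/-- Commuting semisimple elements of `SL(2, k)` with the same trace are equal or inverse to each other. -/
theorem eq_or_eq_inv {p : ℕ} [Fact p.Prime] [CharP k p] (x y : Matrix.SpecialLinearGroup (Fin 2) k)
    (hc : Commute x y) (htr : (x : Matrix (Fin 2) (Fin 2) k).trace = (y : Matrix (Fin 2) (Fin 2) k).trace)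
    (m : ℕ) (hm : m.Coprime p) (hx : x ^ m = 1) (hy : y ^ m = 1) : y = x ∨ y = x⁻¹ := by
  have hprod : (((y * x⁻¹ : Matrix.SpecialLinearGroup (Fin 2) k) : Matrix (Fin 2) (Fin 2) k) - 1).det *
      (((y * x : Matrix.SpecialLinearGroup (Fin 2) k) : Matrix (Fin 2) (Fin 2) k) - 1).det = 0 := by
    have e1 : ((y * x⁻¹ : Matrix.SpecialLinearGroup (Fin 2) k) : Matrix (Fin 2) (Fin 2) k) - 1 =
        ((y : Matrix (Fin 2) (Fin 2) k) - x) * (x⁻¹ : Matrix.SpecialLinearGroup (Fin 2) k) := by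
      rw [sub_mul, ← Matrix.SpecialLinearGroup.coe_mul, ← Matrix.SpecialLinearGroup.coe_mul, mul_inv_cancel,
        Matrix.SpecialLinearGroup.coe_one]
    have e2 : ((y * x : Matrix.SpecialLinearGroup (Fin 2) k) : Matrix (Fin 2) (Fin 2) k) - 1 =
        ((y : Matrix (Fin 2) (Fin 2) k) - (x⁻¹ : Matrix.SpecialLinearGroup (Fin 2) k)) * x := by
      rw [sub_mul, ← Matrix.SpecialLinearGroup.coe_mul, ← Matrix.SpecialLinearGroup.coe_mul, inv_mul_cancel,
        Matrix.SpecialLinearGroup.coe_one]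
    rw [e1, e2, Matrix.det_mul, Matrix.det_mul, Matrix.SpecialLinearGroup.det_coe, Matrix.SpecialLinearGroup.det_coe,
      mul_one, mul_one, ← Matrix.det_mul]
    have e3 : ((y : Matrix (Fin 2) (Fin 2) k) - x) *
        ((y : Matrix (Fin 2) (Fin 2) k) - (x⁻¹ : Matrix.SpecialLinearGroup (Fin 2) k)) = 0 := by
      have f1 := add_inv_eq x
      have f2 := add_inv_eq y
      have f3 : (x : Matrix (Fin 2) (Fin 2) k) * (x⁻¹ : Matrix.SpecialLinearGroup (Fin 2) k) = 1 := by
        rw [← Matrix.SpecialLinearGroup.coe_mul, mul_inv_cancel, Matrix.SpecialLinearGroup.coe_one]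
      have f4 : (y : Matrix (Fin 2) (Fin 2) k) * (y⁻¹ : Matrix.SpecialLinearGroup (Fin 2) k) = 1 := by
        rw [← Matrix.SpecialLinearGroup.coe_mul, mul_inv_cancel, Matrix.SpecialLinearGroup.coe_one]
      have f5 : (x : Matrix (Fin 2) (Fin 2) k) * y = y * x := by
        rw [← Matrix.SpecialLinearGroup.coe_mul, hc.eq, Matrix.SpecialLinearGroup.coe_mul]
      have f6 : (x : Matrix (Fin 2) (Fin 2) k) + (x⁻¹ : Matrix.SpecialLinearGroup (Fin 2) k) =
          y + (y⁻¹ : Matrix.SpecialLinearGroup (Fin 2) k) := by rw [f1, f2, htr]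
      have f7 : (y : Matrix (Fin 2) (Fin 2) k) * (x + (x⁻¹ : Matrix.SpecialLinearGroup (Fin 2) k)) = y * y + 1 := by
        rw [f6, mul_add, f4]
      rw [mul_add] at f7
      rw [sub_mul, mul_sub, mul_sub, f3, f5]
      have f8 : (y : Matrix (Fin 2) (Fin 2) k) * (x⁻¹ : Matrix.SpecialLinearGroup (Fin 2) k) = y * y + 1 - y * x := by
        rw [← f7]; abel
      rw [f8]; abel
    rw [e3, Matrix.det_zero]
  rcases mul_eq_zero.1 hprod with h | h
  · left
    rw [det_sub_one] at h
    have h1 : y * x⁻¹ = 1 := by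
      apply eq_one_of_trace (p := p) (y * x⁻¹) (sub_eq_zero.1 h).symm m hm
      rw [(hc.symm.inv_right).mul_pow, hy, inv_pow, hx, inv_one, one_mul]
    exact mul_inv_eq_one.1 h1
  · right
    rw [det_sub_one] at h
    have h1 : y * x = 1 := by
      apply eq_one_of_trace (p := p) (y * x) (sub_eq_zero.1 h).symm m hm
      rw [(hc.symm).mul_pow, hy, hx, one_mul]
    exact eq_inv_of_mul_eq_one_left h1

/-- The elements of a normalizer of a commutative `r`-subgroup (`r ≠ p`) of `SL(2, k)` have squares centralizing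
the subgroup. -/
theorem sq_comm_of_normalizes {p : ℕ} [Fact p.Prime] [CharP k p] {L : Type*} [Group L]
    (ι : L →* Matrix.SpecialLinearGroup (Fin 2) k) (hι : Function.Injective ι) (R : Subgroup L)
    (hR : ∀ x ∈ R, ∃ m : ℕ, m.Coprime p ∧ x ^ m = 1)
    (hcomm : ∀ x ∈ R, ∀ y ∈ R, x * y = y * x) (n : L) (hn : n ∈ Subgroup.normalizer (R : Set L)) (x : L)
    (hx : x ∈ R) : n ^ 2 * x = x * n ^ 2 := by
  obtain ⟨m, hm, hxm⟩ := hR x hx
  have hy : n * x * n⁻¹ ∈ R := (Subgroup.mem_normalizer_iff.1 hn x).1 hx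
  have key : n * x * n⁻¹ = x ∨ n * x * n⁻¹ = x⁻¹ := by
    have h1 := eq_or_eq_inv (p := p) (ι x) (ι (n * x * n⁻¹)) ?_ ?_ m hm ?_ ?_
    · rcases h1 with h1 | h1
      · left; exact hι h1
      · right; apply hι; rw [h1, map_inv]
    · change ι x * ι (n * x * n⁻¹) = ι (n * x * n⁻¹) * ι x
      rw [← map_mul, ← map_mul, hcomm x hx _ hy]
    · rw [map_mul, map_mul, map_inv, Matrix.SpecialLinearGroup.coe_mul, Matrix.SpecialLinearGroup.coe_mul,
        Matrix.trace_mul_cycle, ← Matrix.SpecialLinearGroup.coe_mul, inv_mul_cancel,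
        Matrix.SpecialLinearGroup.coe_one, one_mul]
    · rw [← map_pow, hxm, map_one]
    · rw [← map_pow, conj_pow, hxm, mul_one, mul_inv_cancel, map_one]
  have h2 : n * (n * x * n⁻¹) * n⁻¹ = x := by
    rcases key with h | h
    · rw [h, h]
    · rw [h]
      have : n * x⁻¹ * n⁻¹ = (n * x * n⁻¹)⁻¹ := by group
      rw [this, h, inv_inv]
  calc n ^ 2 * x = n * (n * x * n⁻¹) * n⁻¹ * n ^ 2 := by rw [pow_two]; group
    _ = x * n ^ 2 := by rw [h2]

/-- Elements of the normalizer of a commutative Sylow `r`-subgroup `R` of a subgroup of `SL(2, k)` centralize `R`, when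
`r = 2` or the order of the group is odd. -/
theorem normalizer_le_centralizer {p : ℕ} [Fact p.Prime] [CharP k p] {L : Type*} [Group L] [Finite L]
    (ι : L →* Matrix.SpecialLinearGroup (Fin 2) k) (hι : Function.Injective ι) {r : ℕ} [Fact r.Prime]
    (hr : r ≠ p) (R : Sylow r L) (hcomm : ∀ x ∈ R, ∀ y ∈ R, x * y = y * x)
    (h2 : r = 2 ∨ Odd (Nat.card L)) :
    Subgroup.normalizer ((R : Subgroup L) : Set L) ≤ Subgroup.centralizer ((R : Subgroup L) : Set L) := by
  intro n hn
  rw [Subgroup.mem_centralizer_iff]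
  intro x hx
  have hRm : ∀ x ∈ (R : Subgroup L), ∃ m : ℕ, m.Coprime p ∧ x ^ m = 1 := by
    intro x hx
    obtain ⟨j, hj⟩ := R.isPGroup' ⟨x, hx⟩
    refine ⟨r ^ j, ?_, ?_⟩
    · exact Nat.Coprime.pow_left _ ((Nat.coprime_primes Fact.out Fact.out).2 hr)
    · exact congrArg Subtype.val hj
  have hsq : n ^ 2 * x = x * n ^ 2 :=
    sq_comm_of_normalizes (p := p) ι hι (R : Subgroup L) hRm hcomm n hn x hx
  -- an odd power of `n` commutes with `x`
  obtain ⟨j, hjodd, hj⟩ : ∃ j : ℕ, Odd j ∧ n ^ j * x = x * n ^ j := by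
    rcases h2 with rfl | h2
    · obtain ⟨i, j, hj, hij⟩ := Nat.exists_eq_two_pow_mul_odd (n := orderOf n) (orderOf_pos n).ne'
      refine ⟨j, hj, ?_⟩
      have hmem : n ^ j ∈ (R : Subgroup L) := by
        have hz : IsPGroup 2 (Subgroup.zpowers (n ^ j)) := by
          rw [IsPGroup.iff_card]
          refine ⟨i, ?_⟩
          rw [Nat.card_zpowers, orderOf_pow' _ (by rintro rfl; simp at hj), hij]
          rw [Nat.gcd_eq_right (Dvd.intro_left _ rfl)]
          exact Nat.mul_div_cancel _ hj.pos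
        have h3 := hz.inf_normalizer_sylow R
        have h4 : n ^ j ∈ Subgroup.zpowers (n ^ j) ⊓ Subgroup.normalizer ((R : Subgroup L) : Set L) :=
          ⟨Subgroup.mem_zpowers _, Subgroup.pow_mem _ hn j⟩
        exact (h3.le h4).2
      exact hcomm _ hmem _ hx
    · refine ⟨Nat.card L, h2, ?_⟩
      rw [pow_card_eq_one', one_mul, mul_one]
  obtain ⟨i, hi⟩ := hjodd
  have h3 : Commute (n ^ 2) x := hsq
  have h4 : Commute (n ^ j) x := hj
  have h5 : Commute ((n ^ 2) ^ i) x := h3.pow_left i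
  have h6 : n = ((n ^ 2) ^ i)⁻¹ * n ^ j := by
    rw [hi, ← pow_mul, pow_succ, inv_mul_cancel_left]
  have h7 : Commute n x := by
    rw [h6]
    exact (h5.inv_left).mul_left h4
  exact h7.symm

/-- A Sylow `r`-subgroup as in the previous lemma is trivial when the group is generated by `p`-elements. -/
theorem sylow_eq_bot {p : ℕ} [Fact p.Prime] [CharP k p] {L : Type*} [Group L] [Finite L]
    (ι : L →* Matrix.SpecialLinearGroup (Fin 2) k) (hι : Function.Injective ι)
    (hgen : Subgroup.closure {x : L | ∃ n : ℕ, x ^ p ^ n = 1} = ⊤) {r : ℕ} [Fact r.Prime]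
    (hr : r ≠ p) (R : Sylow r L) (hcomm : ∀ x ∈ R, ∀ y ∈ R, x * y = y * x)
    (h2 : r = 2 ∨ Odd (Nat.card L)) : (R : Subgroup L) = ⊥ := by
  have hN := normalizer_le_centralizer (p := p) ι hι hr R hcomm h2
  have hker : (MonoidHom.transferSylow R hN).ker = ⊤ := by
    rw [eq_top_iff, ← hgen, Subgroup.closure_le]
    rintro x ⟨n, hx⟩
    change x ∈ (MonoidHom.transferSylow R hN).ker
    rw [MonoidHom.mem_ker]
    set y := MonoidHom.transferSylow R hN x with hy
    have h3 : y ^ p ^ n = 1 := by rw [hy, ← map_pow, hx, map_one]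
    obtain ⟨j, hj⟩ := R.isPGroup' y
    have h4 : orderOf y ∣ Nat.gcd (p ^ n) (r ^ j) :=
      Nat.dvd_gcd (orderOf_dvd_of_pow_eq_one h3) (orderOf_dvd_of_pow_eq_one hj)
    have h5 : Nat.gcd (p ^ n) (r ^ j) = 1 :=
      Nat.Coprime.pow _ _ ((Nat.coprime_primes Fact.out Fact.out).2 hr.symm)
    rw [h5, Nat.dvd_one, orderOf_eq_one_iff] at h4
    exact h4
  have hc := MonoidHom.ker_transferSylow_isComplement' R hN
  rw [hker] at hc
  have := hc.disjoint
  rwa [top_disjoint] at this

/-- Sylow subgroups for odd primes `r ≠ p` of subgroups of `SL(2, k)` are commutative. -/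
theorem comm_of_odd {p : ℕ} [Fact p.Prime] [CharP k p] {L : Type*} [Group L] [Finite L]
    (ι : L →* Matrix.SpecialLinearGroup (Fin 2) k) (hι : Function.Injective ι) {r : ℕ} [Fact r.Prime]
    (hr2 : r ≠ 2) (R : Sylow r L) : ∀ x ∈ R, ∀ y ∈ R, x * y = y * x := by
  intro x hx y hy
  by_cases hnt : Nontrivial (R : Subgroup L)
  · have hcn : Nontrivial (Subgroup.center R) := IsPGroup.center_nontrivial R.isPGroup'
    obtain ⟨⟨z, hz⟩, hz1⟩ := exists_ne (1 : Subgroup.center R)
    have hz1' : z ≠ 1 := fun h => hz1 (Subtype.ext h)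
    have hzc := Subgroup.mem_center_iff.1 hz
    apply hι
    rw [map_mul, map_mul]
    apply Subtype.ext
    change (ι x : Matrix (Fin 2) (Fin 2) k) * (ι y : Matrix (Fin 2) (Fin 2) k) = ι y * ι x
    apply comm_of_comm_nonscalar (ι z : Matrix (Fin 2) (Fin 2) k)
    · intro c hc
      -- `z` would be an involution
      have hdet := (ι z).det_coe
      rw [hc, Matrix.det_smul, Matrix.det_one, mul_one, Fintype.card_fin] at hdet
      have hz2 : (z : L) ^ 2 = 1 := by
        apply hι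
        rw [map_pow, map_one]
        apply Subtype.ext
        change (ι z : Matrix (Fin 2) (Fin 2) k) ^ 2 = 1
        rw [hc, smul_pow, one_pow, hdet, one_smul]
      obtain ⟨j, hj⟩ := R.isPGroup' z
      have hj' : (z : L) ^ r ^ j = 1 := congrArg Subtype.val hj
      have h4 : orderOf (z : L) ∣ Nat.gcd 2 (r ^ j) :=
        Nat.dvd_gcd (orderOf_dvd_of_pow_eq_one hz2) (orderOf_dvd_of_pow_eq_one hj')
      have h5 : Nat.gcd 2 (r ^ j) = 1 :=
        Nat.Coprime.pow_right _ ((Nat.coprime_primes Nat.prime_two Fact.out).2 hr2.symm)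
      rw [h5, Nat.dvd_one, orderOf_eq_one_iff] at h4
      exact hz1' (Subtype.ext h4)
    · rw [← Matrix.SpecialLinearGroup.coe_mul, ← Matrix.SpecialLinearGroup.coe_mul, ← map_mul, ← map_mul]
      have := congrArg Subtype.val (hzc ⟨x, hx⟩)
      change x * (z : L) = z * x at this
      rw [this]
    · rw [← Matrix.SpecialLinearGroup.coe_mul, ← Matrix.SpecialLinearGroup.coe_mul, ← map_mul, ← map_mul]
      have := congrArg Subtype.val (hzc ⟨y, hy⟩)
      change y * (z : L) = z * y at this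
      rw [this]
  · rw [not_nontrivial_iff_subsingleton] at hnt
    have h1 : x = 1 := congrArg Subtype.val (Subsingleton.elim (⟨x, hx⟩ : (R : Subgroup L)) 1)
    rw [h1, one_mul, mul_one]

/-- **Finite subgroups of `SL(2, k)` in odd characteristic `p` that are generated by `p`-elements and have an abelian
Sylow 2-subgroup are `p`-groups.** -/
theorem isPGroup_of_sylow_two_comm {p : ℕ} [Fact p.Prime] [CharP k p] (hp2 : p ≠ 2) {L : Type*} [Group L]
    [Finite L] (ι : L →* Matrix.SpecialLinearGroup (Fin 2) k) (hι : Function.Injective ι)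
    (hgen : Subgroup.closure {x : L | ∃ n : ℕ, x ^ p ^ n = 1} = ⊤) (T : Sylow 2 L)
    (hT : ∀ x ∈ T, ∀ y ∈ T, x * y = y * x) : IsPGroup p L := by
  have hTbot : (T : Subgroup L) = ⊥ := sylow_eq_bot (p := p) ι hι hgen hp2.symm T hT (Or.inl rfl)
  have hodd : Odd (Nat.card L) := by
    rw [← Nat.not_even_iff_odd, even_iff_two_dvd]
    intro hdvd
    exact T.ne_bot_of_dvd_card hdvd hTbot
  rw [IsPGroup.iff_card]
  refine ⟨(Nat.card L).primeFactorsList.length, Nat.eq_prime_pow_of_unique_prime_dvd Nat.card_pos.ne' ?_⟩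
  intro r hr hdvd
  by_contra hne
  have : Fact r.Prime := ⟨hr⟩
  have hr2 : r ≠ 2 := by
    rintro rfl
    rw [← Nat.not_even_iff_odd, even_iff_two_dvd] at hodd
    exact hodd hdvd
  obtain ⟨R⟩ : Nonempty (Sylow r L) := inferInstance
  have hR := sylow_eq_bot (p := p) ι hι hgen hne R (comm_of_odd (p := p) ι hι hr2 R) (Or.inr hodd)
  exact R.ne_bot_of_dvd_card hdvd hR

end Cfsg.Agent.PLocal.SLTwoSylow
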