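import Mathlib
set_option linter.all false

set_option autoImplicit false

/-!
# Two quadratically acting generators

If `G = ⟨a, b⟩` acts on a finite-dimensional space `W` over a field `K` of characteristic `p`, with
`(a - 1)² = (b - 1)² = 0` on `W`, and the eigenvalues of `ab` lie in `K`, then any `g ∈ G` that does not act as
a `p`-element on `W` does not act as a `p`-element on some two-dimensional composition factor.
-/

namespace Cfsg.Agent.PLocal.TwoQuad

open Module Polynomial

universe u v w

variable {K : Type u} [Field K]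

/-- An endomorphism of a nonzero finite-dimensional space with `f ^ m = 1`, where `X ^ m - 1` splits, has an
eigenvector with nonzero eigenvalue. -/
theorem exists_eigenvector {W : Type v} [AddCommGroup W] [Module K W] [FiniteDimensional K W] [Nontrivial W]
    (f : Module.End K W) (m : ℕ) (hm : m ≠ 0) (hsplit : (X ^ m - 1 : K[X]).Splits) (hf : f ^ m = 1) :
    ∃ (c : K) (x : W), c ≠ 0 ∧ x ≠ 0 ∧ f x = c • x := by
  have hne : (X ^ m - 1 : K[X]) ≠ 0 := by
    have := Polynomial.monic_X_pow_sub_C (R := K) 1 hm
    simpa using this.ne_zero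
  have hdvd : minpoly K f ∣ (X ^ m - 1 : K[X]) := by
    apply minpoly.dvd
    simp [hf]
  have hs : (minpoly K f).Splits := Splits.of_dvd hsplit hne hdvd
  have hdeg : (minpoly K f).degree ≠ 0 := by
    have := minpoly.degree_pos (IsIntegral.of_finite K f)
    exact this.ne'
  obtain ⟨c, hc⟩ := Splits.exists_eval_eq_zero hs hdeg
  have hev : f.HasEigenvalue c := Module.End.hasEigenvalue_of_isRoot hc
  obtain ⟨x, hx⟩ := hev.exists_hasEigenvector
  have hx2 : f x = c • x := hx.apply_eq_smul
  refine ⟨c, x, ?_, hx.2, hx2⟩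
  rintro rfl
  rw [zero_smul] at hx2
  have : (f ^ m) x = 0 := by
    obtain ⟨k, rfl⟩ := Nat.exists_eq_succ_of_ne_zero hm
    rw [pow_succ, Module.End.mul_apply, hx2, map_zero]
  rw [hf] at this
  exact hx.2 this

section

variable {G : Type w} [Group G] {W : Type v} [AddCommGroup W] [Module K W] [FiniteDimensional K W]

/-- A submodule stable under the generators of a group is stable under the group. -/
theorem stable_of_closure (ρ : Representation K G W) {S : Set G} (hS : Subgroup.closure S = ⊤)
    (U : Submodule K W) (h : ∀ s ∈ S, U ≤ U.comap (ρ s)) (g : G) : U ≤ U.comap (ρ g) := by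
  have key : ∀ x : G, U.map (ρ x) ≤ U → U.map (ρ x) = U := by
    intro x hx
    refine Submodule.eq_of_le_of_finrank_eq hx ?_
    have hinj : Function.Injective (ρ x) := (ρ.apply_bijective x).1
    exact (Submodule.equivMapOfInjective (ρ x) hinj U).finrank_eq.symm
  have h2 : ∀ x : G, U.map (ρ x) = U := by
    intro x
    have hx : x ∈ Subgroup.closure S := by rw [hS]; trivial
    induction hx using Subgroup.closure_induction with
    | mem y hy => exact key y (Submodule.map_le_iff_le_comap.2 (h y hy))
    | one => rw [map_one]; exact Submodule.map_id U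
    | mul y z _ _ hy hz =>
      rw [map_mul]
      change U.map ((ρ y) ∘ₗ (ρ z)) = U
      rw [Submodule.map_comp, hz, hy]
    | inv y _ hy =>
      conv_lhs => rw [← hy]
      rw [← Submodule.map_comp]
      change U.map (ρ y⁻¹ * ρ y) = U
      rw [← map_mul, inv_mul_cancel, map_one]
      exact Submodule.map_id U
  exact Submodule.map_le_iff_le_comap.1 (h2 g).le

end

/-- If the determinant of the operators of the generators in a representation with a basis is one, then the
representation gives a homomorphism into the special linear group. -/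
theorem exists_hom_of_basis {G : Type w} [Group G] {W : Type v} [AddCommGroup W] [Module K W]
    (ρ : Representation K G W) {S : Set G} (hS : Subgroup.closure S = ⊤) {n : ℕ}
    (B : Basis (Fin n) K W) (hdet : ∀ s ∈ S, LinearMap.det (ρ s) = 1) :
    ∃ φ : G →* Matrix.SpecialLinearGroup (Fin n) K,
      ∀ x, (φ x : Matrix (Fin n) (Fin n) K) = LinearMap.toMatrix B B (ρ x) := by
  have hdet' : ∀ x : G, LinearMap.det (ρ x) = 1 := by
    intro x
    have hx : x ∈ Subgroup.closure S := by rw [hS]; trivial
    induction hx using Subgroup.closure_induction with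
    | mem y hy => exact hdet y hy
    | one => rw [map_one, map_one]
    | mul y z _ _ hy hz => rw [map_mul, map_mul, hy, hz, one_mul]
    | inv y _ hy =>
      have h1 : LinearMap.det (ρ y⁻¹) * LinearMap.det (ρ y) = 1 := by
        rw [← map_mul, ← map_mul, inv_mul_cancel, map_one, map_one]
      rwa [hy, mul_one] at h1
  refine ⟨{ toFun := fun x => ⟨LinearMap.toMatrix B B (ρ x), ?_⟩, map_one' := ?_, map_mul' := ?_ }, ?_⟩
  · rw [LinearMap.det_toMatrix, hdet']
  · apply Subtype.ext
    simp [map_one]
  · intro x y
    apply Subtype.ext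
    change LinearMap.toMatrix B B (ρ (x * y)) = LinearMap.toMatrix B B (ρ x) * LinearMap.toMatrix B B (ρ y)
    rw [map_mul, LinearMap.toMatrix_mul]
  · intro x
    rfl

/-- The determinant of a quadratic unipotent operator of a two-dimensional space is one. -/
theorem det_eq_one_of_quadratic (A : Matrix (Fin 2) (Fin 2) K) (h : (A - 1) ^ 2 = 0) : A.det = 1 := by
  have hnil : IsNilpotent (A - 1) := ⟨2, h⟩
  have htr : (A - 1).trace = 0 := (Matrix.isNilpotent_trace_of_isNilpotent hnil).eq_zero
  have hdet0 : (A - 1).det = 0 := by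
    have : (A - 1).det ^ 2 = 0 := by rw [← Matrix.det_pow, h]; simp
    exact pow_eq_zero_iff (two_ne_zero) |>.1 this
  rw [Matrix.det_fin_two] at hdet0 ⊢
  rw [Matrix.trace_fin_two] at htr
  simp only [Matrix.sub_apply, Matrix.one_apply_eq, ne_eq, zero_ne_one, not_false_eq_true,
    Matrix.one_apply_ne, one_ne_zero] at hdet0 htr
  linear_combination hdet0 + htr

/-- **Composition factor lemma for two quadratic generators.** -/
theorem exists_hom_sl_two_aux {p : ℕ} [Fact p.Prime] [CharP K p] {G : Type w} [Group G] (a b : G)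
    (hab : Subgroup.closure ({a, b} : Set G) = ⊤) (m : ℕ) (hm : m ≠ 0)
    (hsplit : (X ^ m - 1 : K[X]).Splits) (g : G) (n : ℕ) :
    ∀ (W : Type v) [AddCommGroup W] [Module K W] [FiniteDimensional K W] (ρ : Representation K G W),
      finrank K W = n → (∀ w, ρ a (ρ a w - w) = ρ a w - w) → (∀ w, ρ b (ρ b w - w) = ρ b w - w) →
      ρ (a * b) ^ m = 1 → (¬ ∃ k : ℕ, ρ g ^ p ^ k = 1) →
      ∃ φ : G →* Matrix.SpecialLinearGroup (Fin 2) K,
        (∀ x, ρ x = 1 → φ x = 1) ∧ ((φ a : Matrix (Fin 2) (Fin 2) K) - 1) ^ 2 = 0 ∧
        ((φ b : Matrix (Fin 2) (Fin 2) K) - 1) ^ 2 = 0 ∧ ¬ ∃ k : ℕ, φ g ^ p ^ k = 1 := by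
  induction n using Nat.strong_induction_on with
  | _ n ih =>
  intro W _ _ _ ρ hn ha hb habm hg
  have hnt : Nontrivial W := by
    by_contra hcon
    rw [not_nontrivial_iff_subsingleton] at hcon
    exact hg ⟨0, Subsingleton.elim _ _⟩
  obtain ⟨c, x, hc, hx, hcx⟩ := exists_eigenvector (ρ (a * b)) m hm hsplit habm
  have hcx' : ρ a (ρ b x) = c • x := by
    rw [← hcx, map_mul]; rfl
  -- the submodule
  set U : Submodule K W := Submodule.span K (Set.range ![x, ρ b x]) with hU
  have hxU : x ∈ U := Submodule.subset_span ⟨0, rfl⟩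
  have hbxU : ρ b x ∈ U := Submodule.subset_span ⟨1, rfl⟩
  have hbb : ρ b (ρ b x) = (2 : K) • ρ b x - x := by
    have := hb x
    rw [map_sub] at this
    rw [two_smul]
    have h2 : ρ b (ρ b x) = ρ b x - x + ρ b x := by rw [← this]; abel
    rw [h2]; abel
  have hax : ρ a x = c⁻¹ • ((2 * c) • x - ρ b x) := by
    have h1 := ha (ρ b x)
    rw [hcx', map_sub, map_smul, hcx'] at h1
    have h2 : c • ρ a x = (2 * c) • x - ρ b x := by
      have : c • ρ a x = c • x - ρ b x + c • x := by rw [← h1]; abel
      rw [this, two_mul, add_smul]; abel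
    rw [← h2, smul_smul, inv_mul_cancel₀ hc, one_smul]
  have hUb : U ≤ U.comap (ρ b) := by
    rw [hU, Submodule.span_le]
    rintro _ ⟨i, rfl⟩
    fin_cases i
    · exact hbxU
    · change ρ b (ρ b x) ∈ U
      rw [hbb]
      exact U.sub_mem (U.smul_mem _ hbxU) hxU
  have hUa : U ≤ U.comap (ρ a) := by
    rw [hU, Submodule.span_le]
    rintro _ ⟨i, rfl⟩
    fin_cases i
    · change ρ a x ∈ U
      rw [hax]
      exact U.smul_mem _ (U.sub_mem (U.smul_mem _ hxU) hbxU)
    · change ρ a (ρ b x) ∈ U
      rw [hcx']
      exact U.smul_mem _ hxU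
  have hUG : ∀ y, U ≤ U.comap (ρ y) := by
    intro y
    refine stable_of_closure ρ hab U ?_ y
    rintro s (rfl | rfl)
    · exact hUa
    · exact hUb
  set σ : Representation K G U := ρ.subrepresentation U hUG with hσ
  set τ : Representation K G (W ⧸ U) := ρ.quotient U hUG with hτ
  have hσ_apply : ∀ (y : G) (z : U), ((σ y z : U) : W) = ρ y z := fun y z => rfl
  have hτ_apply : ∀ (y : G) (z : W), τ y (Submodule.Quotient.mk z) = Submodule.Quotient.mk (ρ y z) :=
    fun y z => rfl
  by_cases hgU : ∃ k : ℕ, σ g ^ p ^ k = 1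
  · -- pass to the quotient
    have hgQ : ¬ ∃ k : ℕ, τ g ^ p ^ k = 1 := by
      rintro ⟨j, hj⟩
      obtain ⟨i, hi⟩ := hgU
      apply hg
      have hi' : σ g ^ p ^ (i + j) = 1 := by rw [pow_add, pow_mul, hi, one_pow]
      have hj' : τ g ^ p ^ (i + j) = 1 := by rw [add_comm, pow_add, pow_mul, hj, one_pow]
      have hi'' : ∀ z ∈ U, ρ (g ^ p ^ (i + j)) z = z := by
        intro z hz
        have h1 : σ (g ^ p ^ (i + j)) = 1 := by rw [map_pow, hi']
        have h2 := hσ_apply (g ^ p ^ (i + j)) ⟨z, hz⟩
        rw [h1] at h2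
        exact h2.symm
      have hj'' : ∀ z, ρ (g ^ p ^ (i + j)) z - z ∈ U := by
        intro z
        have h1 : τ (g ^ p ^ (i + j)) = 1 := by rw [map_pow, hj']
        have h2 := hτ_apply (g ^ p ^ (i + j)) z
        rw [h1] at h2
        exact (Submodule.Quotient.eq U).1 h2.symm
      refine ⟨i + j + 1, ?_⟩
      have hcharp : CharP (Module.End K W) p :=
        charP_of_injective_algebraMap (FaithfulSMul.algebraMap_injective K (Module.End K W)) p
      set T : Module.End K W := ρ (g ^ p ^ (i + j)) with hT
      have hT2 : (T - 1) ^ 2 = 0 := by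
        ext z
        rw [pow_two, Module.End.mul_apply]
        change T (T z - z) - (T z - z) = 0
        rw [hi'' _ (hj'' z), sub_self]
      have hTp : (T - 1) ^ p = 0 := by
        obtain ⟨q, hq⟩ := Nat.exists_eq_add_of_le (Fact.out : p.Prime).two_le
        rw [hq, pow_add, hT2, zero_mul]
      rw [sub_pow_char_of_commute (p := p) (Commute.one_right T), one_pow, sub_eq_zero] at hTp
      rw [pow_succ, pow_mul, ← map_pow, ← hT, hTp]
    have hlt : finrank K (W ⧸ U) < n := by
      have h1 := U.finrank_quotient_add_finrank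
      have h2 : 0 < finrank K U := by
        apply Module.finrank_pos_iff.2
        exact ⟨⟨⟨x, hxU⟩, 0, fun h => hx (congrArg Subtype.val h)⟩⟩
      omega
    have hta : ∀ z, τ a (τ a z - z) = τ a z - z := by
      intro z
      obtain ⟨z, rfl⟩ := Submodule.Quotient.mk_surjective U z
      rw [hτ_apply, ← Submodule.Quotient.mk_sub, hτ_apply, ha]
    have htb : ∀ z, τ b (τ b z - z) = τ b z - z := by
      intro z
      obtain ⟨z, rfl⟩ := Submodule.Quotient.mk_surjective U z
      rw [hτ_apply, ← Submodule.Quotient.mk_sub, hτ_apply, hb]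
    have htm : τ (a * b) ^ m = 1 := by
      rw [← map_pow]
      ext z
      change τ ((a * b) ^ m) (Submodule.Quotient.mk z) = Submodule.Quotient.mk z
      rw [hτ_apply, map_pow, habm]; rfl
    obtain ⟨φ, h1, h2, h3, h4⟩ := ih _ hlt (W ⧸ U) τ rfl hta htb htm hgQ
    refine ⟨φ, ?_, h2, h3, h4⟩
    intro y hy
    apply h1
    ext z
    change τ y (Submodule.Quotient.mk z) = Submodule.Quotient.mk z
    rw [hτ_apply, hy]; rfl
  · -- `U` is two-dimensional
    have hli : LinearIndependent K ![x, ρ b x] := by
      rw [LinearIndependent.pair_iff' hx]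
      intro d hd
      apply hgU
      have hd1 : d = 1 := by
        have h1 := hbb
        rw [← hd, map_smul, ← hd, smul_smul, smul_smul] at h1
        have h2 : (d * d - 2 * d + 1) • x = 0 := by
          rw [add_smul, sub_smul, h1, one_smul]; abel
        rcases smul_eq_zero.1 h2 with h3 | h3
        · have h4 : (d - 1) ^ 2 = 0 := by linear_combination h3
          have h5 := pow_eq_zero_iff (two_ne_zero) |>.1 h4
          linear_combination h5
        · exact absurd h3 hx
      have hbx : ρ b x = x := by rw [← hd, hd1, one_smul]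
      have hax' : ρ a x = x := by
        rw [hbx] at hcx'
        have h1 := ha x
        rw [hcx', map_sub, map_smul, hcx'] at h1
        have h2 : (c * c - 2 * c + 1) • x = 0 := by
          rw [add_smul, sub_smul, mul_smul, mul_smul, two_smul, one_smul]
          have : c • c • x - c • x - (c • x - x) = 0 := by rw [h1]; abel
          rw [← this]; abel
        rcases smul_eq_zero.1 h2 with h3 | h3
        · have h4 : (c - 1) ^ 2 = 0 := by linear_combination h3
          have h5 := pow_eq_zero_iff (two_ne_zero) |>.1 h4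
          have h6 : c = 1 := by linear_combination h5
          rw [hcx', h6, one_smul]
        · exact absurd h3 hx
      have hall : ∀ y : G, ρ y x = x := by
        intro y
        have hy : y ∈ Subgroup.closure ({a, b} : Set G) := by rw [hab]; trivial
        induction hy using Subgroup.closure_induction with
        | mem z hz =>
          rcases hz with rfl | rfl
          · exact hax'
          · exact hbx
        | one => rw [map_one]; rfl
        | mul z t _ _ hz ht => rw [map_mul, Module.End.mul_apply, ht, hz]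
        | inv z _ hz =>
          conv_lhs => rw [← hz]
          rw [← Module.End.mul_apply, ← map_mul, inv_mul_cancel, map_one]
          rfl
      refine ⟨0, ?_⟩
      rw [pow_zero, pow_one]
      ext ⟨z, hz⟩
      change ρ g z = z
      have : z ∈ Submodule.span K {x} := by
        have hle : U ≤ Submodule.span K {x} := by
          rw [hU, Submodule.span_le]
          rintro _ ⟨i, rfl⟩
          fin_cases i
          · exact Submodule.mem_span_singleton_self x
          · change ρ b x ∈ _
            rw [hbx]; exact Submodule.mem_span_singleton_self x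
        exact hle hz
      obtain ⟨e, rfl⟩ := Submodule.mem_span_singleton.1 this
      rw [map_smul, hall]
    set B : Basis (Fin 2) K U := Basis.span hli with hB
    have hquad : ∀ s : G, (∀ w, ρ s (ρ s w - w) = ρ s w - w) →
        (LinearMap.toMatrix B B (σ s) - 1) ^ 2 = 0 := by
      intro s hs
      have h1 : (σ s - 1) ^ 2 = 0 := by
        ext z
        rw [pow_two, Module.End.mul_apply]
        change ((σ s (σ s z - z) - (σ s z - z) : U) : W) = 0
        rw [AddSubgroupClass.coe_sub, hσ_apply, AddSubgroupClass.coe_sub, hσ_apply, hs, sub_self]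
      have h2 : LinearMap.toMatrixAlgEquiv B ((σ s - 1) ^ 2) = 0 := by rw [h1, map_zero]
      rw [map_pow, map_sub, map_one] at h2
      exact h2
    have hdet : ∀ s ∈ ({a, b} : Set G), LinearMap.det (σ s) = 1 := by
      intro s hs
      rw [← LinearMap.det_toMatrix B]
      apply det_eq_one_of_quadratic
      apply hquad
      rcases hs with rfl | rfl
      · exact ha
      · exact hb
    obtain ⟨φ, hφ⟩ := exists_hom_of_basis σ hab B hdet
    refine ⟨φ, ?_, ?_, ?_, ?_⟩
    · intro y hy
      apply Subtype.ext
      rw [hφ]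
      have : σ y = 1 := by
        ext z
        rw [hσ_apply, hy]; rfl
      rw [this, LinearMap.toMatrix_one]; rfl
    · rw [hφ]; exact hquad a ha
    · rw [hφ]; exact hquad b hb
    · rintro ⟨k, hk⟩
      apply hgU
      refine ⟨k, ?_⟩
      rw [← map_pow] at hk ⊢
      have h1 := hφ (g ^ p ^ k)
      rw [hk] at h1
      apply (LinearMap.toMatrix B B).injective
      rw [← h1, LinearMap.toMatrix_one]; rfl

/-- **Two quadratic generators.** If `G = ⟨a, b⟩` acts on the finite-dimensional space `W` over a field `K` of
characteristic `p` such that `(a - 1)² = (b - 1)² = 0`, `(ab)^m = 1` on `W`, where `X^m - 1` splits over `K`, then every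
element `g` not acting as a `p`-element on `W` is mapped to a non-`p`-element by some homomorphism `G → SL(2, K)` whose
kernel contains the kernel of the action and that maps `a, b` to quadratic (unipotent) elements. -/
theorem exists_hom_sl_two {p : ℕ} [Fact p.Prime] [CharP K p] {G : Type w} [Group G] (a b : G)
    (hab : Subgroup.closure ({a, b} : Set G) = ⊤) (m : ℕ) (hm : m ≠ 0)
    (hsplit : (X ^ m - 1 : K[X]).Splits) {W : Type v} [AddCommGroup W] [Module K W] [FiniteDimensional K W]
    (ρ : Representation K G W) (ha : ∀ w, ρ a (ρ a w - w) = ρ a w - w)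
    (hb : ∀ w, ρ b (ρ b w - w) = ρ b w - w) (habm : ρ (a * b) ^ m = 1) (g : G)
    (hg : ¬ ∃ k : ℕ, ρ g ^ p ^ k = 1) :
    ∃ φ : G →* Matrix.SpecialLinearGroup (Fin 2) K,
      (∀ x, ρ x = 1 → φ x = 1) ∧ ((φ a : Matrix (Fin 2) (Fin 2) K) - 1) ^ 2 = 0 ∧
      ((φ b : Matrix (Fin 2) (Fin 2) K) - 1) ^ 2 = 0 ∧ ¬ ∃ k : ℕ, φ g ^ p ^ k = 1 :=
  exists_hom_sl_two_aux a b hab m hm hsplit g _ W ρ rfl ha hb habm hg

end Cfsg.Agent.PLocal.TwoQuad
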