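import Mathlib
import Cfsg.Prelude.Def_Transfer
import Cfsg.Agent.PLocal.ThompsonJ
import Cfsg.Agent.Lib.ProductSet
set_option linter.all false

/-!
Joins of commuting elementary abelian subgroups.
-/

set_option autoImplicit false

namespace Cfsg.Agent.PLocal.ElemAbSup

open Cfsg Cfsg.Agent.PLocal.ThompsonJ
open scoped Pointwise

universe u

/-- The join of two commuting subgroups is their product set. -/
theorem coe_sup_of_le_centralizer {G : Type u} [Group G] {A B : Subgroup G}
    (h : B ≤ Subgroup.centralizer (A : Set G)) :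
    ((A ⊔ B : Subgroup G) : Set G) = (A : Set G) * (B : Set G) :=
  Subgroup.coe_mul_of_right_le_normalizer_left A B
    (h.trans (Subgroup.centralizer_le_normalizer _))

/-- The order of the join of two commuting subgroups. -/
theorem card_sup_mul_card_inf {G : Type u} [Group G] {A B : Subgroup G}
    (h : B ≤ Subgroup.centralizer (A : Set G)) :
    Nat.card (A ⊔ B : Subgroup G) * Nat.card (A ⊓ B : Subgroup G) = Nat.card A * Nat.card B := by
  rw [← Cfsg.Agent.Lib.ProductSet.card_mul_card_inf A B, ← coe_sup_of_le_centralizer h]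
  rfl

/-- Join of two commuting elementary abelian subgroups is elementary abelian. -/
theorem isElementaryAbelian_sup {G : Type u} [Group G] {p : ℕ} {A B : Subgroup G}
    (hA : IsElementaryAbelian p A) (hB : IsElementaryAbelian p B)
    (h : B ≤ Subgroup.centralizer (A : Set G)) : IsElementaryAbelian p (A ⊔ B) := by
  have hmem : ∀ x ∈ A ⊔ B, ∃ a ∈ A, ∃ b ∈ B, x = a * b := by
    intro x hx
    have h2 : (x : G) ∈ ((A ⊔ B : Subgroup G) : Set G) := hx
    rw [coe_sup_of_le_centralizer h] at h2
    obtain ⟨a, ha, b, hb, rfl⟩ := h2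
    exact ⟨a, ha, b, hb, rfl⟩
  have hc : ∀ a ∈ A, ∀ b ∈ B, a * b = b * a := fun a ha b hb =>
    Subgroup.mem_centralizer_iff.1 (h hb) a ha
  rw [isElementaryAbelian_iff]
  constructor
  · intro x hx y hy
    obtain ⟨a, ha, b, hb, rfl⟩ := hmem x hx
    obtain ⟨c, hc', d, hd, rfl⟩ := hmem y hy
    have h1 := isElementaryAbelian_comm hA ha hc'
    have h2 := isElementaryAbelian_comm hB hb hd
    have h3 := hc a ha d hd
    have h4 := hc c hc' b hb
    calc a * b * (c * d) = a * (b * c) * d := by group
      _ = a * (c * b) * d := by rw [h4]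
      _ = (a * c) * (b * d) := by group
      _ = (c * a) * (d * b) := by rw [h1, h2]
      _ = c * (a * d) * b := by group
      _ = c * (d * a) * b := by rw [h3]
      _ = c * d * (a * b) := by group
  · intro x hx
    obtain ⟨a, ha, b, hb, rfl⟩ := hmem x hx
    have h1 : Commute a b := hc a ha b hb
    rw [h1.mul_pow, isElementaryAbelian_pow hA ha, isElementaryAbelian_pow hB hb, one_mul]

/-- The cyclic group generated by an element of order dividing `p` is elementary abelian. -/
theorem isElementaryAbelian_zpowers {G : Type u} [Group G] {p : ℕ} {x : G} (hx : x ^ p = 1) :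
    IsElementaryAbelian p (Subgroup.zpowers x) := by
  rw [isElementaryAbelian_iff]
  constructor
  · intro a ha b hb
    obtain ⟨m, rfl⟩ := Subgroup.mem_zpowers_iff.1 ha
    obtain ⟨n, rfl⟩ := Subgroup.mem_zpowers_iff.1 hb
    rw [← zpow_add, ← zpow_add, add_comm]
  · intro a ha
    obtain ⟨m, rfl⟩ := Subgroup.mem_zpowers_iff.1 ha
    rw [← zpow_natCast, ← zpow_mul, mul_comm, zpow_mul, zpow_natCast, hx, one_zpow]

/-- An element of order dividing `p` centralising an elementary abelian subgroup of largest order
lies in it. -/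
theorem mem_of_mem_centralizer_of_mem_max {G : Type u} [Group G] [Finite G] {p : ℕ}
    {A : Subgroup G} (hA : A ∈ maxElementaryAbelianSubgroups p G) {x : G}
    (hx : x ∈ Subgroup.centralizer (A : Set G)) (hxp : x ^ p = 1) : x ∈ A := by
  have h2 : Subgroup.zpowers x ≤ Subgroup.centralizer (A : Set G) := by
    rwa [Subgroup.zpowers_le]
  have h3 := isElementaryAbelian_sup hA.1 (isElementaryAbelian_zpowers hxp) h2
  have h4 := eq_of_le_of_mem_max hA h3 le_sup_left
  rw [h4]
  exact (le_sup_right : Subgroup.zpowers x ≤ A ⊔ Subgroup.zpowers x) (Subgroup.mem_zpowers x)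

/-- Best-offender inequality: if `A` is elementary abelian of largest order, `V` is an elementary
abelian subgroup and `B ≤ A` then `|B| |C_V(B)| ≤ |A| |C_V(A)|`. -/
theorem card_mul_card_centralizer_le {G : Type u} [Group G] [Finite G] {p : ℕ}
    {A V B : Subgroup G} (hA : A ∈ maxElementaryAbelianSubgroups p G)
    (hV : IsElementaryAbelian p V) (hBA : B ≤ A) :
    Nat.card B * Nat.card ↥(V ⊓ Subgroup.centralizer (B : Set G)) ≤
        Nat.card A * Nat.card ↥(V ⊓ Subgroup.centralizer (A : Set G)) := by
  have hB : IsElementaryAbelian p B := isElementaryAbelian_mono hA.1 hBA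
  have h1 : IsElementaryAbelian p (V ⊓ Subgroup.centralizer (B : Set G)) :=
    isElementaryAbelian_mono hV inf_le_left
  have h2 : V ⊓ Subgroup.centralizer (B : Set G) ≤ Subgroup.centralizer (B : Set G) := inf_le_right
  have h3 := isElementaryAbelian_sup hB h1 h2
  have h4 := hA.2 _ h3
  rw [← card_sup_mul_card_inf h2]
  refine Nat.mul_le_mul h4 (Subgroup.card_le_of_le ?_)
  intro x hx
  refine Subgroup.mem_inf.2 ⟨hx.2.1, ?_⟩
  rw [Subgroup.mem_centralizer_iff]
  intro a ha
  exact isElementaryAbelian_comm hA.1 ha (hBA hx.1)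

end Cfsg.Agent.PLocal.ElemAbSup
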