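import Mathlib
set_option linter.all false

/-!
A conjugacy functor `Z` on the `p`-subgroups of a finite group `G` such that for every `p`-local subgroup
`N = N_G(D)` and every Sylow `p`-subgroup `S` of `N` the subgroup `Z S` is normal in `N`: then
`N_G(Q) ≤ N_G(Z P)` for every Sylow `p`-subgroup `P` of `G` and every `1 ≠ Q ≤ P`.
-/

set_option autoImplicit false

namespace Cfsg.Agent.PLocal.ConjFunctor

variable {G : Type*} [Group G]

/-- Normalizers grow in `p`-groups (relative form). -/
theorem lt_inf_normalizer [Finite G] {p : ℕ} [Fact p.Prime] {D P : Subgroup G} (hP : IsPGroup p P)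
    (h : D < P) : D < P ⊓ Subgroup.normalizer (D : Set G) := by
  have hnil : Group.IsNilpotent P := hP.isNilpotent
  have hcond := Group.normalizerCondition_of_isNilpotent (G := P)
  have h1 : D.subgroupOf P < ⊤ := by
    rw [lt_top_iff_ne_top, Ne, Subgroup.subgroupOf_eq_top]
    exact not_le_of_gt h
  have h2 := hcond _ h1
  rw [← Subgroup.subgroupOf_normalizer_eq h.le] at h2
  have h3 := (Subgroup.map_lt_map_iff_of_injective P.subtype_injective).mpr h2
  rw [Subgroup.subgroupOf_map_subtype, Subgroup.subgroupOf_map_subtype, inf_eq_left.mpr h.le,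
    inf_comm] at h3
  exact h3

/-- A `p`-subgroup `R ≤ N` lies in (the image in `G` of) a Sylow `p`-subgroup of `N`. -/
theorem exists_sylow_of_le {p : ℕ} {R N : Subgroup G} (hR : IsPGroup p R) (hRN : R ≤ N) :
    ∃ S : Sylow p N, R ≤ (S : Subgroup N).map N.subtype := by
  have h1 : IsPGroup p (R.subgroupOf N) :=
    hR.comap_of_injective N.subtype N.subtype_injective
  obtain ⟨S, hS⟩ := h1.exists_le_sylow
  refine ⟨S, ?_⟩
  have := Subgroup.map_mono (f := N.subtype) hS
  rwa [Subgroup.subgroupOf_map_subtype, inf_eq_left.mpr hRN] at this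

theorem isPGroup_map_sylow {p : ℕ} {N : Subgroup G} (S : Sylow p N) :
    IsPGroup p ((S : Subgroup N).map N.subtype) := S.isPGroup'.map N.subtype

/-- Two Sylow `p`-subgroups of `N` are conjugate by an element of `N`. -/
theorem exists_conj_sylow [Finite G] {p : ℕ} [Fact p.Prime] {N : Subgroup G} (S T : Sylow p N) :
    ∃ x ∈ N, ((S : Subgroup N).map N.subtype).map (MulAut.conj x).toMonoidHom =
      (T : Subgroup N).map N.subtype := by
  obtain ⟨n, hn⟩ := MulAction.exists_smul_eq N S T
  refine ⟨n, n.2, ?_⟩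
  rw [← hn]
  ext y
  constructor
  · rintro ⟨_, ⟨s, hs, rfl⟩, rfl⟩
    exact ⟨n * s * n⁻¹, ⟨s, hs, rfl⟩, rfl⟩
  · rintro ⟨_, ⟨s, hs, rfl⟩, rfl⟩
    exact ⟨s, ⟨s, hs, rfl⟩, rfl⟩

theorem map_conj_smul_sylow {p : ℕ} (P : Sylow p G) (x : G) :
    ((x • P : Sylow p G) : Subgroup G) = (P : Subgroup G).map (MulAut.conj x).toMonoidHom := by
  rw [Sylow.coe_subgroup_smul, Subgroup.pointwise_smul_def]
  rfl

theorem card_map_sylow {p : ℕ} {N : Subgroup G} (S : Sylow p N) :
    Nat.card ((S : Subgroup N).map N.subtype) = Nat.card (S : Subgroup N) :=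
  (Nat.card_congr ((S : Subgroup N).equivMapOfInjective _ N.subtype_injective).toEquiv).symm

theorem card_lt_card_of_lt [Finite G] {A B : Subgroup G} (h : A < B) : Nat.card A < Nat.card B := by
  by_contra hcon
  exact h.ne (Subgroup.eq_of_le_of_card_ge h.le (not_lt.mp hcon))

/-- `D` lies in every Sylow `p`-subgroup of its normalizer. -/
theorem le_map_sylow_normalizer {p : ℕ} {D : Subgroup G} (hD : IsPGroup p D)
    (S : Sylow p ↥(Subgroup.normalizer (D : Set G))) :
    D ≤ (S : Subgroup ↥(Subgroup.normalizer (D : Set G))).map (Subgroup.subtype _) := by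
  have hDn : (D.subgroupOf (Subgroup.normalizer (D : Set G))).Normal :=
    Subgroup.normal_in_normalizer
  have hDp : IsPGroup p (D.subgroupOf (Subgroup.normalizer (D : Set G))) :=
    hD.comap_of_injective _ (Subgroup.subtype_injective _)
  have h1 := IsPGroup.le_sylow_of_normal hDp S
  have h2 := Subgroup.map_mono (f := (Subgroup.normalizer (D : Set G)).subtype) h1
  rwa [Subgroup.subgroupOf_map_subtype, inf_eq_left.mpr Subgroup.le_normalizer] at h2

section main

variable [Finite G] {p : ℕ} [Fact p.Prime] (Z : Subgroup G → Subgroup G)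

/-- the key inductive statement about `p`-local subgroups. -/
private theorem local_le_aux (hZle : ∀ P : Subgroup G, Z P ≤ P)
    (hZne : ∀ P : Subgroup G, IsPGroup p P → P ≠ ⊥ → Z P ≠ ⊥)
    (hZnorm : ∀ P : Subgroup G,
      Subgroup.normalizer (P : Set G) ≤ Subgroup.normalizer (Z P : Set G))
    (hZ : ∀ D : Subgroup G, IsPGroup p D → D ≠ ⊥ →
      ∀ S : Sylow p ↥(Subgroup.normalizer (D : Set G)),
        Subgroup.normalizer (D : Set G) ≤
          Subgroup.normalizer (Z ((S : Subgroup ↥(Subgroup.normalizer (D : Set G))).map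
            (Subgroup.subtype _)) : Set G))
    (n : ℕ) (hB : ∀ P P' : Sylow p G, n < Nat.card ↥((P : Subgroup G) ⊓ (P' : Subgroup G)) →
      (P : Subgroup G) ⊓ (P' : Subgroup G) ≠ ⊥ → Z P = Z P') (k : ℕ) :
    ∀ D : Subgroup G, IsPGroup p D → D ≠ ⊥ →
      ∀ S : Sylow p ↥(Subgroup.normalizer (D : Set G)),
        n < Nat.card (S : Subgroup ↥(Subgroup.normalizer (D : Set G))) →
        Nat.card G < Nat.card (S : Subgroup ↥(Subgroup.normalizer (D : Set G))) + k →
        ∀ P : Sylow p G, (S : Subgroup ↥(Subgroup.normalizer (D : Set G))).map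
          (Subgroup.subtype _) ≤ (P : Subgroup G) →
          Subgroup.normalizer (D : Set G) ≤ Subgroup.normalizer (Z P : Set G) := by
  induction k with
  | zero =>
    intro D hD hD1 S hn hk P hSP
    exfalso
    have h1 : Nat.card (S : Subgroup ↥(Subgroup.normalizer (D : Set G))) ≤ Nat.card G :=
      (Subgroup.card_le_card_group _).trans (Subgroup.card_le_card_group _)
    omega
  | succ k ih =>
    intro D hD hD1 S hn hk P hSP
    obtain ⟨S', hS'⟩ : ∃ S' : Subgroup G,
        S' = (S : Subgroup ↥(Subgroup.normalizer (D : Set G))).map (Subgroup.subtype _) := ⟨_, rfl⟩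
    have hcS : Nat.card S' = Nat.card (S : Subgroup ↥(Subgroup.normalizer (D : Set G))) := by
      rw [hS']; exact card_map_sylow S
    have hS'p : IsPGroup p S' := by rw [hS']; exact isPGroup_map_sylow S
    have hNZ : Subgroup.normalizer (D : Set G) ≤ Subgroup.normalizer (Z S' : Set G) := by
      rw [hS']; exact hZ D hD hD1 S
    have hDS : D ≤ S' := by rw [hS']; exact le_map_sylow_normalizer hD S
    rw [← hS'] at hSP
    by_cases hSeq : S' = P
    · rw [← hSeq]; exact hNZ
    · have hlt : S' < P := lt_of_le_of_ne hSP hSeq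
      have hR := lt_inf_normalizer P.isPGroup' hlt
      obtain ⟨R, hRdef⟩ : ∃ R : Subgroup G,
        R = (P : Subgroup G) ⊓ Subgroup.normalizer (S' : Set G) := ⟨_, rfl⟩
      rw [← hRdef] at hR
      have hS'1 : S' ≠ ⊥ := fun h => hD1 (le_bot_iff.mp (h ▸ hDS))
      have hD1' := hZne S' hS'p hS'1
      have hD1p : IsPGroup p (Z S') := hS'p.to_le (hZle S')
      have hRN : R ≤ Subgroup.normalizer (Z S' : Set G) := by
        rw [hRdef]; exact inf_le_right.trans (hZnorm S')
      have hRP : R ≤ (P : Subgroup G) := by rw [hRdef]; exact inf_le_left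
      have hRp : IsPGroup p R := P.isPGroup'.to_le hRP
      obtain ⟨S1, hS1⟩ := exists_sylow_of_le hRp hRN
      obtain ⟨P1, hP1⟩ := (isPGroup_map_sylow S1).exists_le_sylow
      have hcS1 := card_map_sylow S1
      have hcR : Nat.card R ≤
          Nat.card (S1 : Subgroup ↥(Subgroup.normalizer (Z S' : Set G))) := by
        rw [← hcS1]; exact Subgroup.card_le_of_le hS1
      have hcR2 : Nat.card S' < Nat.card R := card_lt_card_of_lt hR
      have h1 := ih (Z S') hD1p hD1' S1 (by omega) (by omega) P1 hP1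
      have hRle : R ≤ (P : Subgroup G) ⊓ (P1 : Subgroup G) := le_inf hRP (hS1.trans hP1)
      have hZeq : Z P = Z P1 := by
        apply hB
        · have := Subgroup.card_le_of_le hRle
          omega
        · intro hbot
          rw [hbot, le_bot_iff] at hRle
          rw [hRle] at hR
          exact not_lt_bot hR
      rw [hZeq]
      exact hNZ.trans h1

private theorem eq_of_inf_ne_bot_aux (hZle : ∀ P : Subgroup G, Z P ≤ P)
    (hZne : ∀ P : Subgroup G, IsPGroup p P → P ≠ ⊥ → Z P ≠ ⊥)
    (hZmap : ∀ (P : Subgroup G) (x : G), (Z P).map (MulAut.conj x).toMonoidHom =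
      Z (P.map (MulAut.conj x).toMonoidHom))
    (hZnorm : ∀ P : Subgroup G, Subgroup.normalizer (P : Set G) ≤ Subgroup.normalizer (Z P : Set G))
    (hZ : ∀ D : Subgroup G, IsPGroup p D → D ≠ ⊥ →
      ∀ S : Sylow p ↥(Subgroup.normalizer (D : Set G)),
        Subgroup.normalizer (D : Set G) ≤
          Subgroup.normalizer (Z ((S : Subgroup ↥(Subgroup.normalizer (D : Set G))).map
            (Subgroup.subtype _)) : Set G))
    (k : ℕ) : ∀ P P' : Sylow p G,
      Nat.card G < Nat.card ↥((P : Subgroup G) ⊓ (P' : Subgroup G)) + k →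
      (P : Subgroup G) ⊓ (P' : Subgroup G) ≠ ⊥ → Z P = Z P' := by
  induction k with
  | zero =>
    intro P P' h1 _
    exfalso
    have := Subgroup.card_le_card_group ((P : Subgroup G) ⊓ (P' : Subgroup G))
    omega
  | succ k ih =>
    intro P P' h1 h2
    by_cases hPP : P = P'
    · rw [hPP]
    set D : Subgroup G := (P : Subgroup G) ⊓ (P' : Subgroup G) with hD
    have hDp : IsPGroup p D := P.isPGroup'.to_le inf_le_left
    have hDP : D < P := by
      refine lt_of_le_of_ne inf_le_left fun h => hPP ?_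
      have h3 : (P : Subgroup G) ≤ P' := by rw [← h]; exact inf_le_right
      exact Sylow.ext (P.is_maximal' P'.isPGroup' h3).symm
    have hDP' : D < P' := by
      refine lt_of_le_of_ne inf_le_right fun h => hPP ?_
      have h3 : (P' : Subgroup G) ≤ P := by rw [← h]; exact inf_le_left
      exact Sylow.ext (P'.is_maximal' P.isPGroup' h3)
    have hR := lt_inf_normalizer P.isPGroup' hDP
    have hR' := lt_inf_normalizer P'.isPGroup' hDP'
    set N := Subgroup.normalizer (D : Set G) with hN
    obtain ⟨S, hS⟩ := exists_sylow_of_le (R := (P : Subgroup G) ⊓ N) (N := N)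
      (P.isPGroup'.to_le inf_le_left) inf_le_right
    obtain ⟨S', hS'⟩ := exists_sylow_of_le (R := (P' : Subgroup G) ⊓ N) (N := N)
      (P'.isPGroup'.to_le inf_le_left) inf_le_right
    obtain ⟨P1, hP1⟩ := (isPGroup_map_sylow S).exists_le_sylow
    obtain ⟨P1', hP1'⟩ := (isPGroup_map_sylow S').exists_le_sylow
    -- general principle: intersections bigger than `D`
    have key : ∀ A B : Sylow p G, ∀ R : Subgroup G, D < R → R ≤ A → R ≤ B → Z A = Z B := by
      intro A B R hDR hRA hRB
      have hle : R ≤ (A : Subgroup G) ⊓ (B : Subgroup G) := le_inf hRA hRB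
      have hc : Nat.card D < Nat.card R := by
        by_contra hcon
        exact hDR.ne (Subgroup.eq_of_le_of_card_ge hDR.le (not_lt.mp hcon))
      apply ih
      · have := Subgroup.card_le_of_le hle
        omega
      · intro hbot
        rw [hbot, le_bot_iff] at hle
        rw [hle] at hDR
        exact not_lt_bot hDR
    have e1 : Z P = Z P1 := key P P1 _ hR inf_le_left (hS.trans hP1)
    have e2 : Z P' = Z P1' := key P' P1' _ hR' inf_le_left (hS'.trans hP1')
    obtain ⟨x, hxN, hx⟩ := exists_conj_sylow S S'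
    have e3 : Z P1' = Z (x • P1 : Sylow p G) := by
      refine key P1' (x • P1) ((S' : Subgroup N).map N.subtype) (hR'.trans_le hS') hP1' ?_
      rw [map_conj_smul_sylow, ← hx]
      exact Subgroup.map_mono hP1
    have hxZ : N ≤ Subgroup.normalizer (Z P1 : Set G) := by
      refine local_le_aux Z hZle hZne hZnorm hZ (Nat.card D) ?_ (Nat.card G + 1) D hDp h2 S ?_
        ?_ P1 hP1
      · intro A B hAB hne
        apply ih _ _ _ hne
        omega
      · rw [← card_map_sylow S]
        exact card_lt_card_of_lt (hR.trans_le hS)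
      · omega
    have e4 : Z (x • P1 : Sylow p G) = Z P1 := by
      rw [map_conj_smul_sylow, ← hZmap]
      exact Subgroup.mem_normalizer_iff_map_conj_eq.mp (hxZ hxN)
    rw [e1, e2, e3, e4]

/-- If `Z` is a conjugacy functor such that `Z S` is normal in every `p`-local `N` (for `S` Sylow in `N`), then
Sylow `p`-subgroups with nontrivial intersection have the same `Z`. -/
theorem eq_of_inf_ne_bot (hZle : ∀ P : Subgroup G, Z P ≤ P)
    (hZne : ∀ P : Subgroup G, IsPGroup p P → P ≠ ⊥ → Z P ≠ ⊥)
    (hZmap : ∀ (P : Subgroup G) (x : G), (Z P).map (MulAut.conj x).toMonoidHom =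
      Z (P.map (MulAut.conj x).toMonoidHom))
    (hZ : ∀ D : Subgroup G, IsPGroup p D → D ≠ ⊥ →
      ∀ S : Sylow p ↥(Subgroup.normalizer (D : Set G)),
        Subgroup.normalizer (D : Set G) ≤
          Subgroup.normalizer (Z ((S : Subgroup ↥(Subgroup.normalizer (D : Set G))).map
            (Subgroup.subtype _)) : Set G))
    (P P' : Sylow p G) (h : (P : Subgroup G) ⊓ (P' : Subgroup G) ≠ ⊥) : Z P = Z P' := by
  refine eq_of_inf_ne_bot_aux Z hZle hZne hZmap ?_ hZ (Nat.card G + 1) P P' (by omega) h
  intro P x hx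
  rw [Subgroup.mem_normalizer_iff_map_conj_eq] at hx ⊢
  have h1 := hZmap P x
  have h2 : P.map (MulAut.conj x).toMonoidHom = P := hx
  rw [h2] at h1
  exact h1

/-- If `Z` is a conjugacy functor such that `Z S` is normal in every `p`-local `N` (for `S` Sylow in `N`), then
`N_G(Q) ≤ N_G(Z P)` for every nontrivial subgroup `Q` of the Sylow `p`-subgroup `P`. -/
theorem normalizer_le (hZle : ∀ P : Subgroup G, Z P ≤ P)
    (hZne : ∀ P : Subgroup G, IsPGroup p P → P ≠ ⊥ → Z P ≠ ⊥)
    (hZmap : ∀ (P : Subgroup G) (x : G), (Z P).map (MulAut.conj x).toMonoidHom =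
      Z (P.map (MulAut.conj x).toMonoidHom))
    (hZ : ∀ D : Subgroup G, IsPGroup p D → D ≠ ⊥ →
      ∀ S : Sylow p ↥(Subgroup.normalizer (D : Set G)),
        Subgroup.normalizer (D : Set G) ≤
          Subgroup.normalizer (Z ((S : Subgroup ↥(Subgroup.normalizer (D : Set G))).map
            (Subgroup.subtype _)) : Set G))
    (P : Sylow p G) (Q : Subgroup G) (hQP : Q ≤ P) (hQ : Q ≠ ⊥) :
    Subgroup.normalizer (Q : Set G) ≤ Subgroup.normalizer (Z P : Set G) := by
  intro x hx
  have hQx : Q.map (MulAut.conj x).toMonoidHom = Q :=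
    Subgroup.mem_normalizer_iff_map_conj_eq.mp hx
  have h1 : Q ≤ (P : Subgroup G) ⊓ ((x • P : Sylow p G) : Subgroup G) := by
    refine le_inf hQP ?_
    rw [map_conj_smul_sylow, ← hQx]
    exact Subgroup.map_mono hQP
  have h2 : (P : Subgroup G) ⊓ ((x • P : Sylow p G) : Subgroup G) ≠ ⊥ := by
    intro h; rw [h, le_bot_iff] at h1; exact hQ h1
  have h3 := eq_of_inf_ne_bot Z hZle hZne hZmap hZ P (x • P) h2
  rw [map_conj_smul_sylow, ← hZmap] at h3
  exact Subgroup.mem_normalizer_iff_map_conj_eq.mpr h3.symm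

end main

end Cfsg.Agent.PLocal.ConjFunctor
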