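import Mathlib
import Cfsg.Prelude.Def_Local
import Cfsg.Agent.Lib.Cores
import Cfsg.Agent.PLocal.PSolvable
set_option linter.all false

/-!
# Towards `p`-constraint

* `pCore_or_pPrimeCore_ne_bot` : a nontrivial `p`-solvable group has a nontrivial `O_p` or `O_{p'}`.
* `exists_normal_step` : if `Z < C` are normal in `G` and `C` is `p`-solvable, there is a normal subgroup `L`
  of `G` with `Z < L ≤ C` and `L / Z` a `p`-group or a `p'`-group.
* `centralizer_pCore_le` : Hall–Higman 1.2.3 when only the centralizer of `O_p(G)` is `p`-solvable.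
* `centralizer_map_le` : `C_{G/N}(PN/N) ≤ C_G(P) N / N` when `N` is a normal `p'`-subgroup and `PN` normal.
-/

set_option autoImplicit false

open Cfsg

namespace Cfsg.Agent.PLocal.Constrained

variable {G : Type*} [Group G]

/-- A nontrivial `p`-solvable group has a nontrivial `p`-core or a nontrivial `p'`-core. -/
theorem pCore_or_pPrimeCore_ne_bot [Finite G] [Nontrivial G] {p : ℕ} [Fact p.Prime]
    (h : Cfsg.IsPSolvable p G) : Cfsg.pCore p G ≠ ⊥ ∨ Cfsg.pPrimeCore p G ≠ ⊥ := by
  classical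
  obtain ⟨n, H, h0, hn, hmono, hnorm, hfac⟩ := h
  have hex : ∃ i : ℕ, ∃ hi : i < n + 1, H ⟨i, hi⟩ ≠ ⊥ := by
    refine ⟨n, Nat.lt_succ_self n, ?_⟩
    have h1 : H ⟨n, Nat.lt_succ_self n⟩ = ⊤ := hn
    rw [h1]
    exact top_ne_bot
  let i := Nat.find hex
  obtain ⟨hi, hHi⟩ := Nat.find_spec hex
  have hi0 : Nat.find hex ≠ 0 := by
    intro hz
    have h2 : H 0 ≠ ⊥ := by
      have h3 : (⟨Nat.find hex, hi⟩ : Fin (n + 1)) = 0 := by
        apply Fin.ext
        exact hz
      rw [h3] at hHi
      exact hHi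
    exact h2 h0
  obtain ⟨j, hj⟩ := Nat.exists_eq_succ_of_ne_zero hi0
  have hjn : j < n := by omega
  have hjlt : j < Nat.find hex := by omega
  have hHj : H ⟨j, by omega⟩ = ⊥ := by
    by_contra hne
    exact Nat.find_min hex hjlt ⟨by omega, hne⟩
  have h4 := hfac ⟨j, hjn⟩
  have h5 : (⟨j, hjn⟩ : Fin n).castSucc = ⟨j, by omega⟩ := rfl
  have h6 : (⟨j, hjn⟩ : Fin n).succ = ⟨Nat.find hex, hi⟩ := by
    apply Fin.ext
    exact hj.symm
  rw [h5, h6, hHj, Subgroup.relIndex_bot_left] at h4
  rcases h4 with ⟨m, hm⟩ | hc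
  · left
    intro hbot
    apply hHi
    exact le_bot_iff.mp ((Lib.Cores.le_pCore (hnorm _) (IsPGroup.of_card hm)).trans hbot.le)
  · right
    intro hbot
    apply hHi
    exact le_bot_iff.mp ((Lib.Cores.le_pPrimeCore (hnorm _) hc).trans hbot.le)

/-- If `Z < C` are normal in `G` and `C` is `p`-solvable, there is a normal subgroup `L` of `G` with
`Z < L ≤ C` and `L / Z` a `p`-group or a `p'`-group. -/
theorem exists_normal_step [Finite G] {p : ℕ} [Fact p.Prime] (Z C : Subgroup G) (hZ : Z.Normal)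
    (hC : C.Normal) (hZC : Z < C) (h : Cfsg.IsPSolvable p C) :
    ∃ L : Subgroup G, L.Normal ∧ Z < L ∧ L ≤ C ∧
      ((∃ m : ℕ, Z.relIndex L = p ^ m) ∨ (Z.relIndex L).Coprime p) := by
  classical
  let f := QuotientGroup.mk' Z
  have hf : Function.Surjective f := QuotientGroup.mk'_surjective Z
  let M : Subgroup (G ⧸ Z) := C.map f
  have hMn : M.Normal := hC.map f hf
  have hcomap : M.comap f = C := by
    rw [Subgroup.comap_map_eq, QuotientGroup.ker_mk', sup_eq_left]
    exact hZC.le
  have hMps : Cfsg.IsPSolvable p M :=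
    PSolvable.isPSolvable_of_surjective (f.subgroupMap C) (f.subgroupMap_surjective C) h
  have hMne : M ≠ ⊥ := by
    intro h0
    apply not_le_of_gt hZC
    rw [← hcomap, h0]
    intro x hx
    simpa [f] using hx
  have : Nontrivial M := (Subgroup.nontrivial_iff_ne_bot M).mpr hMne
  -- a general construction
  have key : ∀ T : Subgroup M, T.Characteristic → T ≠ ⊥ →
      ∃ L : Subgroup G, L.Normal ∧ Z < L ∧ L ≤ C ∧ Z.relIndex L = Nat.card T := by
    intro T hT hTne
    have hTn : (T.map M.subtype).Normal := inferInstance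
    have hTne' : T.map M.subtype ≠ ⊥ := by
      intro h0
      exact hTne ((Subgroup.map_eq_bot_iff_of_injective _ M.subtype_injective).mp h0)
    refine ⟨(T.map M.subtype).comap f, hTn.comap f, ?_, ?_, ?_⟩
    · refine lt_of_le_of_ne ?_ ?_
      · intro x hx
        rw [Subgroup.mem_comap]
        have : f x = 1 := (QuotientGroup.eq_one_iff x).mpr hx
        rw [this]; exact one_mem _
      · intro heq
        apply hTne'
        rw [← Subgroup.map_comap_eq_self_of_surjective hf (T.map M.subtype), ← heq]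
        simp [f]
    · rw [← hcomap]
      exact Subgroup.comap_mono (Subgroup.map_subtype_le T)
    · have h1 := Subgroup.relIndex_ker (K := (T.map M.subtype).comap f) f
      rw [QuotientGroup.ker_mk', Subgroup.map_comap_eq_self_of_surjective hf] at h1
      rw [h1]
      exact Subgroup.card_map_of_injective M.subtype_injective
  rcases pCore_or_pPrimeCore_ne_bot hMps with h1 | h1
  · obtain ⟨L, hL1, hL2, hL3, hL4⟩ := key _ (Lib.Cores.pCore_characteristic p) h1
    obtain ⟨m, hm⟩ := IsPGroup.iff_card.mp (Lib.Cores.pCore_isPGroup (G := M) p)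
    exact ⟨L, hL1, hL2, hL3, Or.inl ⟨m, by rw [hL4, hm]⟩⟩
  · obtain ⟨L, hL1, hL2, hL3, hL4⟩ := key _ (Lib.Cores.pPrimeCore_characteristic p) h1
    exact ⟨L, hL1, hL2, hL3, Or.inr (by rw [hL4]; exact Lib.Cores.pPrimeCore_coprime p)⟩

theorem pow_card_of_mem {H : Subgroup G} {x : G} (hx : x ∈ H) : x ^ Nat.card H = 1 := by
  have h1 : (⟨x, hx⟩ : H) ^ Nat.card H = 1 := pow_card_eq_one'
  exact congrArg Subtype.val h1

/-- If `Z` is a `p`-group centralized by `L`, `Z ≤ L`, both normal in `G` and `L / Z` is a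
`p'`-group, then `L = Z` as soon as `O_{p'}(G) = 1`. -/
theorem eq_of_central_of_coprime [Finite G] {p : ℕ} [Fact p.Prime]
    (h : Cfsg.pPrimeCore p G = ⊥) {Z L : Subgroup G} (hLn : L.Normal)
    (hZp : IsPGroup p Z) (hZL : Z ≤ L) (hcent : ∀ z ∈ Z, ∀ y ∈ L, z * y = y * z)
    (hcop : (Z.relIndex L).Coprime p) : L ≤ Z := by
  obtain ⟨k, hk⟩ := (IsPGroup.iff_card).mp hZp
  have : (Z.subgroupOf L).Normal := by
    refine ⟨fun z hz y => ?_⟩
    rw [Subgroup.mem_subgroupOf] at hz ⊢
    have h1 : ((y * z * y⁻¹ : L) : G) = z := by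
      rw [Subgroup.coe_mul, Subgroup.coe_mul, ← hcent z hz y y.2, Subgroup.coe_inv]
      group
    rw [h1]
    exact hz
  have hcop' : (Nat.card (Z.subgroupOf L)).Coprime (Z.subgroupOf L).index := by
    have h1 : Nat.card (Z.subgroupOf L) = Nat.card Z :=
      Nat.card_congr (Subgroup.subgroupOfEquivOfLe hZL).toEquiv
    rw [h1, hk]
    exact (Nat.Coprime.pow_right k hcop).symm
  obtain ⟨R, hR⟩ := Subgroup.exists_right_complement'_of_coprime hcop'
  have hRcard : Nat.card R = Z.relIndex L := by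
    have := hR.card_mul_card
    rw [← (Z.subgroupOf L).card_mul_index] at this
    exact Nat.eq_of_mul_eq_mul_left Nat.card_pos this
  let R' := R.map L.subtype
  have hR'L : R' ≤ L := Subgroup.map_subtype_le R
  have hR'card : Nat.card R' = Z.relIndex L := by
    rw [← hRcard]
    exact Nat.card_congr (R.equivMapOfInjective L.subtype L.subtype_injective).toEquiv.symm
  have hR'n : R'.Normal := by
    refine ⟨fun r hr g => ?_⟩
    have h1 : g * r * g⁻¹ ∈ L := hLn.conj_mem r (hR'L hr) g
    obtain ⟨⟨z, y⟩, hzy⟩ := (hR.existsUnique ⟨g * r * g⁻¹, h1⟩).exists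
    have hz : (z : L).1 ∈ Z := z.2
    have hy : (y : L).1 ∈ R' := ⟨y.1, y.2, rfl⟩
    have hzy' : (z : L).1 * (y : L).1 = g * r * g⁻¹ := congrArg Subtype.val hzy
    have hcomm : Commute (z : L).1 (y : L).1 := hcent _ hz _ (hR'L hy)
    have hpow : (g * r * g⁻¹) ^ (Nat.card R') = 1 := by
      rw [conj_pow, pow_card_of_mem hr]; simp
    have hypow : (y : L).1 ^ (Nat.card R') = 1 := pow_card_of_mem hy
    rw [← hzy', hcomm.mul_pow, hypow, mul_one] at hpow
    have hz1 : (z : L).1 = 1 := by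
      have h3 : orderOf (z : L).1 ∣ Nat.card R' := orderOf_dvd_of_pow_eq_one hpow
      have h4 : orderOf (z : L).1 ∣ Nat.card Z := by
        have := orderOf_dvd_natCard (⟨_, hz⟩ : Z)
        simpa using this
      have h5 : (Nat.card R').Coprime (Nat.card Z) := by
        rw [hR'card, hk]; exact Nat.Coprime.pow_right k hcop
      exact orderOf_eq_one_iff.mp (Nat.eq_one_of_dvd_coprimes h5 h3 h4)
    rw [← hzy', hz1, one_mul]
    exact hy
  have hR'le : R' ≤ ⊥ := by
    rw [← h]
    exact Lib.Cores.le_pPrimeCore hR'n (by rw [hR'card]; exact hcop)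
  have : Z.relIndex L = 1 := by
    rw [← hR'card, le_bot_iff.mp hR'le]; simp
  exact Subgroup.relIndex_eq_one.mp this

/-- Hall–Higman Lemma 1.2.3 when only the centralizer of `O_p(G)` is supposed `p`-solvable. -/
theorem centralizer_pCore_le [Finite G] {p : ℕ} [Fact p.Prime] (h : Cfsg.pPrimeCore p G = ⊥)
    (hC : Cfsg.IsPSolvable p ↥(Subgroup.centralizer (Cfsg.pCore p G : Set G))) :
    Subgroup.centralizer (Cfsg.pCore p G : Set G) ≤ Cfsg.pCore p G := by
  have hQp := Lib.Cores.pCore_isPGroup (G := G) p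
  set Q := Cfsg.pCore p G with hQ
  have hQn : Q.Normal := Lib.Cores.pCore_normal p
  set C := Subgroup.centralizer (Q : Set G) with hC'
  have hCn : C.Normal := inferInstance
  by_contra hnot
  have hlt : C ⊓ Q < C := lt_of_le_of_ne inf_le_left (fun he => hnot (inf_eq_left.mp he))
  obtain ⟨L, hLn, hZL, hLC, hL⟩ := exists_normal_step (C ⊓ Q) C inferInstance hCn hlt hC
  have hZp : IsPGroup p (C ⊓ Q : Subgroup G) := hQp.to_le inf_le_right
  rcases hL with ⟨m, hm⟩ | hcop
  · have hLp : IsPGroup p L := by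
      obtain ⟨k, hk⟩ := (IsPGroup.iff_card).mp hZp
      apply IsPGroup.of_card (n := k + m)
      rw [← Subgroup.relIndex_bot_left, ← Subgroup.relIndex_mul_relIndex ⊥ (C ⊓ Q) L bot_le hZL.le,
        Subgroup.relIndex_bot_left, hk, hm, pow_add]
    exact absurd (le_inf hLC (Lib.Cores.le_pCore hLn hLp)) (not_le_of_gt hZL)
  · refine absurd (eq_of_central_of_coprime h hLn hZp hZL.le ?_ hcop) (not_le_of_gt hZL)
    intro z hz y hy
    exact (Subgroup.mem_centralizer_iff.mp (hLC hy)) _ (Subgroup.mem_inf.mp hz).2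

/-- Let `N` be a normal `p'`-subgroup of the finite group `G`, `M ≥ N` normal with `M / N` a `p`-group,
and let `P` be a Sylow `p`-subgroup of `M`. Then the image of `P` in `G / N` is `M / N`. -/
theorem map_sylow_eq [Finite G] {p : ℕ} [Fact p.Prime] {N : Subgroup G} [N.Normal]
    {Q : Subgroup (G ⧸ N)} (hQ : IsPGroup p Q)
    (P : Sylow p ↥(Q.comap (QuotientGroup.mk' N))) :
    ((P : Subgroup ↥(Q.comap (QuotientGroup.mk' N))).map
      (Q.comap (QuotientGroup.mk' N)).subtype).map (QuotientGroup.mk' N) = Q := by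
  have hf : Function.Surjective (QuotientGroup.mk' N) := QuotientGroup.mk'_surjective N
  let g : ↥(Q.comap (QuotientGroup.mk' N)) →* Q := (QuotientGroup.mk' N).subgroupComap Q
  have hg : Function.Surjective g := (QuotientGroup.mk' N).subgroupComap_surjective_of_surjective Q hf
  have h1 : ((P : Subgroup ↥(Q.comap (QuotientGroup.mk' N))).map g) = ⊤ :=
    ((P.mapSurjective hg).is_maximal' (hQ.to_subgroup ⊤) le_top).symm
  have h3 : (QuotientGroup.mk' N).comp (Q.comap (QuotientGroup.mk' N)).subtype =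
      Q.subtype.comp g := rfl
  rw [Subgroup.map_map, h3, ← Subgroup.map_map, h1]
  exact (MonoidHom.range_eq_map _).symm.trans Q.range_subtype

/-- Let `N` be a normal `p'`-subgroup of the finite group `G` and `P` a `p`-subgroup with
`G = N_G(P) N`. Then `C_{G/N}(PN/N) = C_G(P)N/N`. -/
theorem centralizer_map_eq [Finite G] {p : ℕ} [Fact p.Prime] {N : Subgroup G} [N.Normal]
    (hN : (Nat.card N).Coprime p) {P : Subgroup G} (hP : IsPGroup p P)
    (hF : Subgroup.normalizer (P : Set G) ⊔ N = ⊤) :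
    Subgroup.centralizer ((P.map (QuotientGroup.mk' N) : Subgroup (G ⧸ N)) : Set (G ⧸ N)) =
      (Subgroup.centralizer (P : Set G)).map (QuotientGroup.mk' N) := by
  have hf : Function.Surjective (QuotientGroup.mk' N) := QuotientGroup.mk'_surjective N
  have hPN : P ⊓ N = ⊥ := by
    obtain ⟨k, hk⟩ := IsPGroup.iff_card.mp hP
    exact (Subgroup.disjoint_of_coprime_natCard (by
      rw [hk]; exact (Nat.Coprime.pow_right k hN).symm)).eq_bot
  apply le_antisymm
  · intro c hc
    obtain ⟨g, rfl⟩ := hf c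
    rw [Subgroup.mem_centralizer_iff] at hc
    have h1 : g ∈ Subgroup.normalizer (P : Set G) ⊔ N := by rw [hF]; trivial
    rw [Subgroup.mem_sup_of_normal_right] at h1
    obtain ⟨x, hx, n, hn, hxn⟩ := h1
    have hfx : QuotientGroup.mk' N g = QuotientGroup.mk' N x := by
      rw [← hxn, map_mul]
      have : QuotientGroup.mk' N n = 1 := (QuotientGroup.eq_one_iff n).mpr hn
      rw [this, mul_one]
    refine ⟨x, ?_, hfx.symm⟩
    rw [SetLike.mem_coe, Subgroup.mem_centralizer_iff]
    intro y hy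
    have h2 := hc _ ⟨y, hy, rfl⟩
    rw [hfx] at h2
    have h3 : y * x * y⁻¹ * x⁻¹ ∈ P ⊓ N := by
      refine Subgroup.mem_inf.mpr ⟨?_, ?_⟩
      · have h4 : x * y⁻¹ * x⁻¹ ∈ P :=
          (Subgroup.mem_normalizer_iff.mp hx _).mp (inv_mem hy)
        have h5 := mul_mem (show y ∈ P from hy) h4
        have h6 : y * x * y⁻¹ * x⁻¹ = y * (x * y⁻¹ * x⁻¹) := by group
        rw [h6]; exact h5
      · rw [← QuotientGroup.eq_one_iff]
        change QuotientGroup.mk' N (y * x * y⁻¹ * x⁻¹) = 1
        rw [map_mul, map_mul, map_mul, map_inv, map_inv, h2]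
        group
    rw [hPN, Subgroup.mem_bot] at h3
    calc y * x = (y * x * y⁻¹ * x⁻¹) * (x * y) := by group
      _ = x * y := by rw [h3, one_mul]
  · rintro _ ⟨x, hx, rfl⟩
    rw [SetLike.mem_coe, Subgroup.mem_centralizer_iff] at hx
    rw [Subgroup.mem_centralizer_iff]
    rintro _ ⟨z, hz, rfl⟩
    rw [← map_mul, hx z hz, map_mul]

/-- Let `N` be a normal `p'`-subgroup of the finite group `G`, `Q` a normal `p`-subgroup of `G / N` with
preimage `M` and `P` a Sylow `p`-subgroup of `M`. Then `C_{G/N}(Q)` is the image of `C_G(P)`. -/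
theorem centralizer_eq_map_sylow [Finite G] {p : ℕ} [Fact p.Prime] {N : Subgroup G} [N.Normal]
    (hN : (Nat.card N).Coprime p) {Q : Subgroup (G ⧸ N)} [hQn : Q.Normal] (hQ : IsPGroup p Q)
    (P : Sylow p ↥(Q.comap (QuotientGroup.mk' N))) :
    Subgroup.centralizer (Q : Set (G ⧸ N)) =
      (Subgroup.centralizer (((P : Subgroup ↥(Q.comap (QuotientGroup.mk' N))).map
        (Q.comap (QuotientGroup.mk' N)).subtype : Subgroup G) : Set G)).map
        (QuotientGroup.mk' N) := by
  have hPQ := map_sylow_eq hQ P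
  have hMn : (Q.comap (QuotientGroup.mk' N)).Normal := hQn.comap _
  have hF := Sylow.normalizer_sup_eq_top P
  have hP'p : IsPGroup p ↥((P : Subgroup ↥(Q.comap (QuotientGroup.mk' N))).map
      (Q.comap (QuotientGroup.mk' N)).subtype) := P.isPGroup'.map _
  have h1 := centralizer_map_eq hN hP'p ?_
  · rw [hPQ] at h1
    exact h1
  · have hMeq : Q.comap (QuotientGroup.mk' N) =
        ((P : Subgroup ↥(Q.comap (QuotientGroup.mk' N))).map
          (Q.comap (QuotientGroup.mk' N)).subtype) ⊔ N := by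
      have h2 := congrArg (Subgroup.comap (QuotientGroup.mk' N)) hPQ
      rw [Subgroup.comap_map_eq, QuotientGroup.ker_mk'] at h2
      exact h2.symm
    rw [eq_top_iff, ← hF]
    refine sup_le le_sup_left ?_
    refine (le_of_eq hMeq).trans (sup_le ?_ le_sup_right)
    exact Subgroup.le_normalizer.trans le_sup_left

end Cfsg.Agent.PLocal.Constrained
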