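import Mathlib
set_option linter.all false

/-!
# Centralizers and normalizers of `p`-subgroups modulo a normal `p'`-subgroup

For `M` a normal subgroup of the finite group `G` of order prime to `p` and `P` a `p`-subgroup of `G`:
`C_{G/M}(PM/M) = C_G(P)M/M` and `N_{G/M}(PM/M) = N_G(P)M/M`.
-/

set_option autoImplicit false

namespace Cfsg.Agent.PLocal.CoprimeLift

open scoped Pointwise

variable {G : Type*} [Group G]

/-- `P` acts by conjugation on the coset `M g`, if `g` centralizes `P` modulo `M`. -/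
@[instance_reducible] def cosetAction (M P : Subgroup G) [M.Normal] (g : G)
    (hg : ∀ x ∈ P, x * g * x⁻¹ * g⁻¹ ∈ M) : MulAction P {y : G // y * g⁻¹ ∈ M} where
  smul x y := ⟨x * y * (x : G)⁻¹, by
    have h1 : (x : G) * y * (x : G)⁻¹ * g⁻¹
        = (x * (y * g⁻¹) * (x : G)⁻¹) * (x * g * (x : G)⁻¹ * g⁻¹) := by group
    rw [h1]
    exact M.mul_mem (Subgroup.Normal.conj_mem inferInstance _ y.2 _) (hg x x.2)⟩
  one_smul y := Subtype.ext (by
    change ((1 : P) : G) * y * ((1 : P) : G)⁻¹ = y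
    simp)
  mul_smul a b y := Subtype.ext (by
    change ((a * b : P) : G) * y * ((a * b : P) : G)⁻¹
      = (a : G) * ((b : G) * y * (b : G)⁻¹) * (a : G)⁻¹
    simp [mul_assoc])

/-- If `g` centralizes the `p`-group `P` modulo the normal `p'`-subgroup `M`, then some `m * g`,
`m ∈ M`, centralizes `P`. -/
theorem exists_commuting_lift [Finite G] {p : ℕ} [hp : Fact p.Prime] (M P : Subgroup G) [M.Normal]
    (hM : (Nat.card M).Coprime p) (hP : IsPGroup p P) (g : G)
    (hg : ∀ x ∈ P, x * g * x⁻¹ * g⁻¹ ∈ M) : ∃ m ∈ M, ∀ x ∈ P, x * (m * g) = (m * g) * x := by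
  let _ := cosetAction M P g hg
  have hsmul : ∀ (x : P) (y : {y : G // y * g⁻¹ ∈ M}),
      ((x • y : {y : G // y * g⁻¹ ∈ M}) : G) = x * y * (x : G)⁻¹ := fun _ _ => rfl
  have hcard : Nat.card {y : G // y * g⁻¹ ∈ M} = Nat.card M :=
    Nat.card_congr
      { toFun := fun y => ⟨y * g⁻¹, y.2⟩
        invFun := fun m => ⟨m * g, by rw [mul_inv_cancel_right]; exact m.2⟩
        left_inv := fun y => Subtype.ext (inv_mul_cancel_right _ _)
        right_inv := fun m => Subtype.ext (mul_inv_cancel_right _ _) }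
  have hnd : ¬ p ∣ Nat.card {y : G // y * g⁻¹ ∈ M} := by
    rw [hcard]
    intro h
    exact hp.out.one_lt.ne' (Nat.dvd_one.mp (hM ▸ Nat.dvd_gcd h (dvd_refl p)))
  obtain ⟨y, hy⟩ := hP.nonempty_fixed_point_of_prime_not_dvd_card
    {y : G // y * g⁻¹ ∈ M} hnd
  refine ⟨y * g⁻¹, y.2, fun x hx => ?_⟩
  rw [inv_mul_cancel_right]
  have h1 := congrArg Subtype.val (hy ⟨x, hx⟩)
  rw [hsmul] at h1
  exact mul_inv_eq_iff_eq_mul.mp h1

theorem map_centralizer_le {H : Type*} [Group H] (f : G →* H) (P : Subgroup G) :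
    (Subgroup.centralizer (P : Set G)).map f ≤ Subgroup.centralizer (P.map f : Set H) := by
  rintro _ ⟨g, hg, rfl⟩
  rw [Subgroup.mem_centralizer_iff]
  rintro _ ⟨x, hx, rfl⟩
  rw [← map_mul, ← map_mul, Subgroup.mem_centralizer_iff.mp hg x hx]

/-- `C_{G/M}(PM/M) = C_G(P)M/M` for `P` a `p`-subgroup and `M` a normal `p'`-subgroup. -/
theorem map_centralizer_mk [Finite G] {p : ℕ} [hp : Fact p.Prime] (M P : Subgroup G) [M.Normal]
    (hM : (Nat.card M).Coprime p) (hP : IsPGroup p P) :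
    (Subgroup.centralizer (P : Set G)).map (QuotientGroup.mk' M) =
      Subgroup.centralizer (P.map (QuotientGroup.mk' M) : Set (G ⧸ M)) := by
  refine le_antisymm (map_centralizer_le _ _) ?_
  intro q hq
  obtain ⟨g, rfl⟩ := QuotientGroup.mk'_surjective M q
  rw [Subgroup.mem_centralizer_iff] at hq
  obtain ⟨m, hm, hc⟩ := exists_commuting_lift M P hM hP g (by
    intro x hx
    have h1 := hq _ (Subgroup.mem_map_of_mem _ hx)
    rw [← QuotientGroup.ker_mk' M, MonoidHom.mem_ker]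
    simp only [map_mul, map_inv]
    rw [h1]
    group)
  refine ⟨m * g, ?_, ?_⟩
  · exact Subgroup.mem_centralizer_iff.mpr hc
  · rw [map_mul, (QuotientGroup.eq_one_iff m).mpr hm |> (fun h => (h : QuotientGroup.mk' M m = 1)),
      one_mul]

theorem map_normalizer_le {H : Type*} [Group H] (f : G →* H) (P : Subgroup G) :
    (Subgroup.normalizer (P : Set G)).map f ≤ Subgroup.normalizer (P.map f : Set H) := by
  rintro _ ⟨g, hg, rfl⟩
  rw [Subgroup.mem_normalizer_iff]
  have key : ∀ g ∈ Subgroup.normalizer (P : Set G), ∀ x ∈ P.map f, f g * x * (f g)⁻¹ ∈ P.map f := by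
    rintro g hg _ ⟨x, hx, rfl⟩
    exact ⟨g * x * g⁻¹, (Subgroup.mem_normalizer_iff.mp hg x).mp hx, by simp⟩
  intro x
  refine ⟨key g hg x, fun hx => ?_⟩
  have := key g⁻¹ (Subgroup.inv_mem _ hg) _ hx
  simpa [mul_assoc] using this

/-- A `p`-subgroup of order `|P|` in `P ⊔ M` is conjugate to `P` in `P ⊔ M`. -/
theorem exists_conj_of_le_sup [Finite G] {p : ℕ} [hp : Fact p.Prime] (M P : Subgroup G)
    [M.Normal] (hM : (Nat.card M).Coprime p) (hP : IsPGroup p P) (R : Subgroup G)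
    (hR : IsPGroup p R) (hRcard : Nat.card R = Nat.card P) (hRle : R ≤ P ⊔ M) :
    ∃ h ∈ P ⊔ M, ∀ x, x ∈ R ↔ h * x * h⁻¹ ∈ P := by
  have hdvd : Nat.card (P ⊔ M : Subgroup G) ∣ Nat.card M * Nat.card P := by
    have h0 := Subgroup.relIndex_mul_relIndex ⊥ M (P ⊔ M) bot_le le_sup_right
    rw [Subgroup.relIndex_bot_left, Subgroup.relIndex_bot_left, Subgroup.relIndex_sup_right] at h0
    rw [← h0]
    exact Nat.mul_dvd_mul_left _ (Subgroup.relIndex_dvd_card M P)
  have hidx : ∀ T : Subgroup G, T ≤ P ⊔ M → Nat.card T = Nat.card P →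
      ¬ p ∣ (T.subgroupOf (P ⊔ M)).index := by
    intro T hT hTc h
    have h1 : Nat.card T * (T.subgroupOf (P ⊔ M)).index = Nat.card (P ⊔ M : Subgroup G) := by
      have h0 := Subgroup.relIndex_mul_relIndex ⊥ T (P ⊔ M) bot_le hT
      rwa [Subgroup.relIndex_bot_left, Subgroup.relIndex_bot_left] at h0
    rw [← h1, hTc, mul_comm (Nat.card M)] at hdvd
    have h2 := Nat.dvd_of_mul_dvd_mul_left Nat.card_pos hdvd
    have h3 : p ∣ Nat.card M := h.trans h2
    exact hp.out.one_lt.ne' (Nat.dvd_one.mp (hM ▸ Nat.dvd_gcd h3 (dvd_refl p)))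
  have hPp : IsPGroup p (P.subgroupOf (P ⊔ M)) :=
    hP.of_injective ((P.subgroupOfEquivOfLe le_sup_left).toMonoidHom)
      (MulEquiv.injective _)
  have hRp : IsPGroup p (R.subgroupOf (P ⊔ M)) :=
    hR.of_injective ((R.subgroupOfEquivOfLe hRle).toMonoidHom) (MulEquiv.injective _)
  obtain ⟨h, hh⟩ := MulAction.exists_smul_eq (P ⊔ M : Subgroup G)
    (hRp.toSylow (hidx R hRle hRcard)) (hPp.toSylow (hidx P le_sup_left rfl))
  have h0 : MulAut.conj h • (R.subgroupOf (P ⊔ M)) = P.subgroupOf (P ⊔ M) :=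
    congrArg (fun S : Sylow p (P ⊔ M : Subgroup G) => (S : Subgroup (P ⊔ M : Subgroup G))) hh
  have h1 : ∀ y : (P ⊔ M : Subgroup G), y ∈ R.subgroupOf (P ⊔ M) ↔
      h * y * h⁻¹ ∈ P.subgroupOf (P ⊔ M) := by
    intro y
    rw [← h0]
    exact (Subgroup.smul_mem_pointwise_smul_iff (a := MulAut.conj h)).symm
  refine ⟨h, h.2, fun x => ⟨fun hx => ?_, fun hx => ?_⟩⟩
  · exact (h1 ⟨x, hRle hx⟩).mp hx
  · have hx' : x ∈ P ⊔ M := by
      have h2 : x = (h : G)⁻¹ * ((h : G) * x * (h : G)⁻¹) * h := by group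
      rw [h2]
      exact mul_mem (mul_mem (inv_mem h.2) ((le_sup_left : P ≤ P ⊔ M) hx)) h.2
    exact (h1 ⟨x, hx'⟩).mpr hx

/-- Frattini: an element normalizing `P ⊔ M` is in `M * N_G(P)`. -/
theorem exists_normalizing_lift [Finite G] {p : ℕ} [hp : Fact p.Prime] (M P : Subgroup G)
    [M.Normal] (hM : (Nat.card M).Coprime p) (hP : IsPGroup p P) (g : G)
    (hg : ∀ x ∈ P, g * x * g⁻¹ ∈ P ⊔ M) : ∃ m ∈ M, m * g ∈ Subgroup.normalizer (P : Set G) := by
  obtain ⟨h, hh, hR⟩ := exists_conj_of_le_sup M P hM hP (P.map (MulAut.conj g).toMonoidHom)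
    (hP.map _) (Nat.card_congr (P.equivMapOfInjective _ (MulAut.conj g).injective).toEquiv).symm
    (by
      rintro _ ⟨x, hx, rfl⟩
      exact hg x hx)
  obtain ⟨x, hx, m, hm, rfl⟩ := Subgroup.mem_sup_of_normal_right.mp hh
  refine ⟨m, hm, ?_⟩
  rw [Subgroup.mem_normalizer_iff]
  intro y
  have h1 : y ∈ P ↔ g * y * g⁻¹ ∈ P.map (MulAut.conj g).toMonoidHom := by
    rw [Subgroup.mem_map]
    constructor
    · intro hy
      exact ⟨y, hy, rfl⟩
    · rintro ⟨z, hz, hzy⟩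
      have h2 : g * z * g⁻¹ = g * y * g⁻¹ := hzy
      have h3 : z = y := by
        have := congrArg (fun t => g⁻¹ * t * g) h2
        simpa [mul_assoc] using this
      exact h3 ▸ hz
  rw [h1, hR]
  have h2 : x * m * (g * y * g⁻¹) * (x * m)⁻¹ = x * (m * g * y * (m * g)⁻¹) * x⁻¹ := by group
  rw [h2]
  constructor
  · intro h3
    have h4 := P.mul_mem (P.mul_mem (P.inv_mem hx) h3) hx
    have h5 : x⁻¹ * (x * (m * g * y * (m * g)⁻¹) * x⁻¹) * x = m * g * y * (m * g)⁻¹ := by group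
    rwa [h5] at h4
  · intro h3
    exact P.mul_mem (P.mul_mem hx h3) (P.inv_mem hx)

/-- `N_{G/M}(PM/M) = N_G(P)M/M` for `P` a `p`-subgroup and `M` a normal `p'`-subgroup. -/
theorem map_normalizer_mk [Finite G] {p : ℕ} [hp : Fact p.Prime] (M P : Subgroup G) [M.Normal]
    (hM : (Nat.card M).Coprime p) (hP : IsPGroup p P) :
    (Subgroup.normalizer (P : Set G)).map (QuotientGroup.mk' M) =
      Subgroup.normalizer (P.map (QuotientGroup.mk' M) : Set (G ⧸ M)) := by
  refine le_antisymm (map_normalizer_le _ _) ?_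
  intro q hq
  obtain ⟨g, rfl⟩ := QuotientGroup.mk'_surjective M q
  rw [Subgroup.mem_normalizer_iff] at hq
  obtain ⟨m, hm, hc⟩ := exists_normalizing_lift M P hM hP g (by
    intro x hx
    have h1 := (hq _).mp (Subgroup.mem_map_of_mem _ hx)
    rw [← map_inv, ← map_mul, ← map_mul, ← Subgroup.mem_comap, Subgroup.comap_map_eq,
      QuotientGroup.ker_mk'] at h1
    exact h1)
  refine ⟨m * g, hc, ?_⟩
  have h2 : QuotientGroup.mk' M m = 1 := (QuotientGroup.eq_one_iff m).mpr hm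
  rw [map_mul, h2, one_mul]

end Cfsg.Agent.PLocal.CoprimeLift
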