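import Mathlib
import Cfsg.Prelude.Def_PLocal
set_option linter.all false

set_option autoImplicit false

/-!
# Glauberman's replacement theorem (odd primes)

Main result: `glauberman_replacement`.
-/

namespace Cfsg.Agent.PLocal.Replacement

open Subgroup
open scoped commutatorElement

variable {G : Type*} [Group G]

theorem comm_mul_right {a b c : G} (h : b * ⁅a, c⁆ = ⁅a, c⁆ * b) :
    ⁅a, b * c⁆ = ⁅a, b⁆ * ⁅a, c⁆ := by
  have h1 : ⁅a, b * c⁆ = ⁅a, b⁆ * (b * ⁅a, c⁆ * b⁻¹) := by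
    simp only [commutatorElement_def]; group
  rw [h1, h]; group

theorem comm_mul_left {a b c : G} (h : a * ⁅b, c⁆ = ⁅b, c⁆ * a) (h2 : Commute ⁅a, c⁆ ⁅b, c⁆) :
    ⁅a * b, c⁆ = ⁅a, c⁆ * ⁅b, c⁆ := by
  have h1 : ⁅a * b, c⁆ = (a * ⁅b, c⁆ * a⁻¹) * ⁅a, c⁆ := by
    simp only [commutatorElement_def]; group
  rw [h1, h, mul_assoc, mul_assoc, mul_inv_cancel_left]
  exact h2.eq.symm

theorem comm_inv_right {a b : G} (h : b * ⁅a, b⁆ = ⁅a, b⁆ * b) :
    ⁅a, b⁻¹⁆ = ⁅a, b⁆⁻¹ := by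
  have h1 : ⁅a, b⁻¹⁆ = b⁻¹ * ⁅a, b⁆⁻¹ * b := by
    simp only [commutatorElement_def]; group
  have h2 : Commute b ⁅a, b⁆ := h
  have h3 : Commute b ⁅a, b⁆⁻¹ := h2.inv_right
  rw [h1, mul_assoc, ← h3.eq, inv_mul_cancel_left]

theorem comm_inv_left {a b : G} (h : a * ⁅a, b⁆ = ⁅a, b⁆ * a) :
    ⁅a⁻¹, b⁆ = ⁅a, b⁆⁻¹ := by
  have h1 : ⁅a⁻¹, b⁆ = a⁻¹ * ⁅a, b⁆⁻¹ * a := by
    simp only [commutatorElement_def]; group
  have h2 : Commute a ⁅a, b⁆ := h
  have h3 : Commute a ⁅a, b⁆⁻¹ := h2.inv_right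
  rw [h1, mul_assoc, ← h3.eq, inv_mul_cancel_left]

/-- The quadratic-map argument behind the replacement theorem: `A` abelian acts on a group `B` of
class at most two, centralizing `[B,B]`, and `x ∈ B` satisfies `[x,A,A,A] = 1`. Then the
commutators of elements of `[x,A]` square to one. -/
theorem sq_comm_eq_one {A B : Subgroup G} (hA : ∀ a ∈ A, ∀ b ∈ A, a * b = b * a)
    (hAB : ∀ a ∈ A, ∀ b ∈ B, a * b * a⁻¹ ∈ B)
    (hcl : ∀ a ∈ B, ∀ b ∈ B, ∀ c ∈ B, c * ⁅a, b⁆ = ⁅a, b⁆ * c)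
    (hcA : ∀ a ∈ B, ∀ b ∈ B, ∀ c ∈ A, c * ⁅a, b⁆ = ⁅a, b⁆ * c)
    {x : G} (hx : x ∈ B) (hq : ∀ s ∈ A, ∀ t ∈ A, t * ⁅⁅x, s⁆, t⁆ = ⁅⁅x, s⁆, t⁆ * t)
    {u v : G} (hu : u ∈ A) (hv : v ∈ A) : ⁅⁅x, u⁆, ⁅x, v⁆⁆ ^ 2 = 1 := by
  -- membership facts
  have hBc : ∀ a ∈ B, ∀ b ∈ B, ⁅a, b⁆ ∈ B := by
    intro a ha b hb
    rw [commutatorElement_def]
    exact B.mul_mem (B.mul_mem (B.mul_mem ha hb) (B.inv_mem ha)) (B.inv_mem hb)
  have hcc : ∀ a ∈ B, ∀ b ∈ B, ∀ c ∈ B, ∀ d ∈ B, Commute ⁅a, b⁆ ⁅c, d⁆ := by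
    intro a ha b hb c hc d hd
    exact hcl c hc d hd _ (hBc a ha b hb)
  have R1 : ∀ a ∈ B, ∀ b ∈ B, ∀ c ∈ B, ⁅a, b * c⁆ = ⁅a, b⁆ * ⁅a, c⁆ := fun a ha b hb c hc =>
    comm_mul_right (hcl a ha c hc b hb)
  have R2 : ∀ a ∈ B, ∀ b ∈ B, ⁅a, b⁻¹⁆ = ⁅a, b⁆⁻¹ := fun a ha b hb =>
    comm_inv_right (hcl a ha b hb b hb)
  have L1 : ∀ a ∈ B, ∀ b ∈ B, ∀ c ∈ B, ⁅a * b, c⁆ = ⁅a, c⁆ * ⁅b, c⁆ := fun a ha b hb c hc =>
    comm_mul_left (hcl b hb c hc a ha) (hcc a ha c hc b hb c hc)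
  have L2 : ∀ a ∈ B, ∀ b ∈ B, ⁅a⁻¹, b⁆ = ⁅a, b⁆⁻¹ := fun a ha b hb =>
    comm_inv_left (hcl a ha b hb a ha)
  have Sw : ∀ a b : G, ⁅b, a⁆ = ⁅a, b⁆⁻¹ := fun a b => (commutatorElement_inv a b).symm
  have Inv : ∀ t ∈ A, ∀ a ∈ B, ∀ b ∈ B, ⁅t * a * t⁻¹, t * b * t⁻¹⁆ = ⁅a, b⁆ := by
    intro t ht a ha b hb
    have h1 : ⁅t * a * t⁻¹, t * b * t⁻¹⁆ = t * ⁅a, b⁆ * t⁻¹ := by
      simp only [commutatorElement_def]; group
    rw [h1, hcA a ha b hb t ht, mul_inv_cancel_right]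
  -- the function g
  let g : G → G := fun t => ⁅x, t * x * t⁻¹⁆
  have hgdef : ∀ t, g t = ⁅x, t * x * t⁻¹⁆ := fun _ => rfl
  have hgc : ∀ s ∈ A, ∀ t ∈ A, Commute (g s) (g t) := fun s hs t ht =>
    hcc x hx _ (hAB s hs x hx) x hx _ (hAB t ht x hx)
  have hginv : ∀ t ∈ A, g t⁻¹ = (g t)⁻¹ := by
    intro t ht
    have h1 := Inv t ht x hx (t⁻¹ * x * t⁻¹⁻¹) (hAB _ (A.inv_mem ht) x hx)
    have h2 : t * (t⁻¹ * x * t⁻¹⁻¹) * t⁻¹ = x := by group
    rw [h2] at h1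
    rw [hgdef, hgdef, ← h1, Sw]
  have hc : ∀ s ∈ A, ⁅x, s⁆ ∈ B := by
    intro s hs
    have : ⁅x, s⁆ = x * (s * x * s⁻¹)⁻¹ := by rw [commutatorElement_def]; group
    rw [this]
    exact B.mul_mem hx (B.inv_mem (hAB s hs x hx))
  have hxc : ∀ s ∈ A, ∀ t ∈ A, ⁅x, t * ⁅x, s⁆ * t⁻¹⁆ = g t * (g (t * s))⁻¹ := by
    intro s hs t ht
    have h1 : t * ⁅x, s⁆ * t⁻¹ = (t * x * t⁻¹) * ((t * s) * x * (t * s)⁻¹)⁻¹ := by
      rw [commutatorElement_def]; group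
    have h2 := hAB (t * s) (A.mul_mem ht hs) x hx
    rw [h1, R1 x hx _ (hAB t ht x hx) _ (B.inv_mem h2), R2 x hx _ h2]
  have hg1 : g 1 = 1 := by
    rw [hgdef]; simp
  -- (1)
  have E1 : ∀ s ∈ A, ∀ t ∈ A, g (t * s) * g (t⁻¹ * s) = g s ^ 2 := by
    intro s hs t ht
    have ht' := A.inv_mem ht
    set c := ⁅x, s⁆ with hcdef
    have hcB : c ∈ B := hc s hs
    have hy : t⁻¹ * ⁅c, t⁆ * t = ⁅c, t⁆ := by
      rw [mul_assoc, ← hq s hs t ht, inv_mul_cancel_left]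
    have hy1 : ⁅c, t⁆ = c * (t * c * t⁻¹)⁻¹ := by
      rw [commutatorElement_def]; group
    have hy2 : t⁻¹ * ⁅c, t⁆ * t = (t⁻¹ * c * t⁻¹⁻¹) * c⁻¹ := by
      rw [commutatorElement_def]; group
    rw [hy2, hy1] at hy
    have hxy := congrArg (fun z => ⁅x, z⁆) hy
    beta_reduce at hxy
    have hB1 := hAB _ ht' c hcB
    have hB2 := hAB _ ht c hcB
    have hxc1 : ⁅x, c⁆ = (g s)⁻¹ := by
      have := hxc s hs 1 A.one_mem
      simpa [hg1] using this
    rw [R1 x hx _ hB1 _ (B.inv_mem hcB), R2 x hx _ hcB, R1 x hx _ hcB _ (B.inv_mem hB2),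
      R2 x hx _ hB2, hxc s hs t ht, hxc s hs t⁻¹ ht', hxc1, hginv t ht, inv_inv] at hxy
    -- hxy : (g t)⁻¹ * (g (t⁻¹ * s))⁻¹ * g s = (g s)⁻¹ * (g t * (g (t * s))⁻¹)⁻¹
    have hts := A.mul_mem ht hs
    have hts' := A.mul_mem ht' hs
    have c1 : Commute (g t) (g s) := hgc t ht s hs
    have c2 : Commute (g t) (g (t * s)) := hgc t ht _ hts
    have c3 : Commute (g t) (g (t⁻¹ * s)) := hgc t ht _ hts'
    have c4 : Commute (g s) (g (t * s)) := hgc s hs _ hts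
    have c5 : Commute (g s) (g (t⁻¹ * s)) := hgc s hs _ hts'
    have c6 : Commute (g (t * s)) (g (t⁻¹ * s)) := hgc _ hts _ hts'
    rw [mul_inv_rev, inv_inv] at hxy
    have e1 : (g t)⁻¹ * ((g (t⁻¹ * s))⁻¹ * g s) = (g t)⁻¹ * ((g s)⁻¹ * g (t * s)) := by
      rw [← mul_assoc, hxy, ← mul_assoc]
      have : Commute (g t)⁻¹ ((g s)⁻¹ * g (t * s)) :=
        (c1.inv_left.inv_right).mul_right c2.inv_left
      rw [this.eq, mul_assoc]
    have e2 := mul_left_cancel e1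
    -- e2 : (g (t⁻¹ s))⁻¹ * g s = (g s)⁻¹ * g (t s)
    have e3 : g (t * s) = g s * ((g (t⁻¹ * s))⁻¹ * g s) := by
      rw [e2, mul_inv_cancel_left]
    rw [e3, pow_two, mul_assoc, mul_assoc, c5.eq, inv_mul_cancel_left]
  -- (2)
  have E2 : ∀ s ∈ A, ∀ t ∈ A, g (t * s) ^ 2 = g s ^ 2 * g t ^ 2 := by
    intro s hs t ht
    have hts := A.mul_mem ht hs
    have hts' := A.mul_mem (A.inv_mem ht) hs
    have h1 := E1 s hs t ht
    have h2 := E1 t ht s hs
    rw [hA s hs t ht] at h2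
    have h3 : g (s⁻¹ * t) = (g (t⁻¹ * s))⁻¹ := by
      rw [← hginv _ hts']; congr 1; group
    rw [h3] at h2
    rw [← h1, ← h2, pow_two]
    have c6 : Commute (g (t * s)) (g (t⁻¹ * s)) := hgc _ hts _ hts'
    calc g (t * s) * g (t * s) = g (t * s) * (g (t⁻¹ * s) * (g (t⁻¹ * s))⁻¹ * g (t * s)) := by
          rw [mul_inv_cancel, one_mul]
      _ = g (t * s) * g (t⁻¹ * s) * (g (t * s) * (g (t⁻¹ * s))⁻¹) := by
          rw [c6.inv_right.eq]; group
  -- (3)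
  have hvB := hAB v hv x hx
  have huB := hAB u hu x hx
  have hu' := A.inv_mem hu
  have E3 : ⁅⁅x, u⁆, ⁅x, v⁆⁆ = (g v)⁻¹ * (g u * g (u⁻¹ * v)) := by
    have h1 : ∀ w : G, ⁅x, w⁆ = x * (w * x * w⁻¹)⁻¹ := by
      intro w; rw [commutatorElement_def]; group
    have h2 : ⁅x, ⁅x, v⁆⁆ = (g v)⁻¹ := by
      rw [h1 v, R1 x hx _ hx _ (B.inv_mem hvB), R2 x hx _ hvB, commutatorElement_self, one_mul]
    have h3 : ⁅u * x * u⁻¹, ⁅x, v⁆⁆ = (g u)⁻¹ * (g (u⁻¹ * v))⁻¹ := by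
      rw [h1 v, R1 _ huB _ hx _ (B.inv_mem hvB), R2 _ huB _ hvB, Sw x, ← hgdef]
      congr 2
      have h4 : v * x * v⁻¹ = u * ((u⁻¹ * v) * x * (u⁻¹ * v)⁻¹) * u⁻¹ := by group
      rw [h4, Inv u hu x hx _ (hAB _ (A.mul_mem hu' hv) x hx)]
    rw [h1 u, L1 x hx _ (B.inv_mem huB) _ (hc v hv), L2 _ huB _ (hc v hv), h2, h3, mul_inv_rev,
      inv_inv, inv_inv, (hgc u hu _ (A.mul_mem hu' hv)).eq]
  have hcu : Commute (g u) (g (u⁻¹ * v)) := hgc _ hu _ (A.mul_mem hu' hv)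
  have hcv : Commute (g v)⁻¹ (g u * g (u⁻¹ * v)) :=
    ((hgc v hv u hu).inv_left).mul_right ((hgc v hv _ (A.mul_mem hu' hv)).inv_left)
  rw [E3, hcv.mul_pow, hcu.mul_pow, E2 v hv _ hu', hginv u hu]
  have hvu : Commute (g v ^ 2) ((g u)⁻¹ ^ 2) := ((hgc v hv u hu).inv_right).pow_pow 2 2
  rw [hvu.eq, inv_pow, inv_pow, mul_inv_cancel_left, inv_mul_cancel]

/-- If `N` and `B` lie in a finite `p`-subgroup, `N` normalizes `B` and `N` does not contain `B`,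
then some element of `B` outside `N` normalizes `N`. -/
theorem exists_normalizing [Finite G] {p : ℕ} [Fact p.Prime] {S N B : Subgroup G}
    (hS : IsPGroup p S) (hN : N ≤ S) (hB : B ≤ S) (hNB : N ≤ normalizer (B : Set G))
    (hnot : ¬ B ≤ N) : ∃ x ∈ B, x ∉ N ∧ x ∈ normalizer (N : Set G) := by
  have hH : N ⊔ B ≤ S := sup_le hN hB
  have hHp : IsPGroup p ↥(N ⊔ B) := hS.to_le hH
  have : Group.IsNilpotent ↥(N ⊔ B) := hHp.isNilpotent
  have hlt : N.subgroupOf (N ⊔ B) < ⊤ := by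
    rw [lt_top_iff_ne_top]
    intro h
    rw [Subgroup.subgroupOf_eq_top] at h
    exact hnot (le_sup_right.trans h)
  have hlt2 := Group.normalizerCondition_of_isNilpotent (G := ↥(N ⊔ B)) _ hlt
  obtain ⟨h, hh1, hh2⟩ := SetLike.exists_of_lt hlt2
  have hh3 : (h : G) ∈ ((N ⊔ B : Subgroup G) : Set G) := h.2
  rw [Subgroup.coe_mul_of_left_le_normalizer_right N B hNB] at hh3
  obtain ⟨n, hn, b, hb, hnb⟩ := Set.mem_mul.mp hh3
  rw [SetLike.mem_coe] at hn hb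
  have hhN : (h : G) ∉ N := fun h' => hh2 (Subgroup.mem_subgroupOf.mpr h')
  have hhnorm : (h : G) ∈ normalizer (N : Set G) := by
    rw [Subgroup.mem_normalizer_iff]
    intro y
    rw [Subgroup.mem_normalizer_iff] at hh1
    constructor
    · intro hy
      have := (hh1 ⟨y, le_sup_left (a := N) hy⟩).mp (Subgroup.mem_subgroupOf.mpr hy)
      exact Subgroup.mem_subgroupOf.mp this
    · intro hy
      have hy' : y ∈ N ⊔ B := by
        have h1 : (h : G) * y * (h : G)⁻¹ ∈ N ⊔ B := le_sup_left (a := N) hy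
        have h2 := (N ⊔ B).mul_mem ((N ⊔ B).mul_mem ((N ⊔ B).inv_mem h.2) h1) h.2
        have h3 : (h : G)⁻¹ * ((h : G) * y * (h : G)⁻¹) * (h : G) = y := by group
        rwa [h3] at h2
      have := (hh1 ⟨y, hy'⟩).mpr (Subgroup.mem_subgroupOf.mpr hy)
      exact Subgroup.mem_subgroupOf.mp this
  have hbeq : b = n⁻¹ * h := by rw [← hnb]; group
  refine ⟨b, hb, ?_, ?_⟩
  · intro hbN
    exact hhN (by rw [← hnb]; exact N.mul_mem hn hbN)
  · rw [hbeq]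
    exact (normalizer (N : Set G)).mul_mem (Subgroup.le_normalizer (N.inv_mem hn)) hhnorm

theorem mul_comm_of_isMulCommutative {A : Subgroup G} (hA : IsMulCommutative A) {a b : G}
    (ha : a ∈ A) (hb : b ∈ A) : a * b = b * a :=
  congrArg Subtype.val (hA.is_comm.comm ⟨a, ha⟩ ⟨b, hb⟩)

theorem pow_mul_comm_of_central {a b k : G} (hk : b * a = k * (a * b)) (hkb : Commute k b)
    (n : ℕ) : b ^ n * a = k ^ n * (a * b ^ n) := by
  induction n with
  | zero => simp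
  | succ n ih =>
    rw [pow_succ' b, mul_assoc, ih]
    have h1 : Commute (k ^ n) b := hkb.pow_left n
    calc b * (k ^ n * (a * b ^ n)) = k ^ n * (b * a) * b ^ n := by
          rw [← mul_assoc, ← h1.eq]; group
      _ = k ^ (n + 1) * (a * (b * b ^ n)) := by rw [hk, pow_succ]; group

/-- If `[b,a] = k` commutes with `a` and `b`, then `(ab)^(2 * m + 1) = a^(2m+1) b^(2m+1) k^(..)`;
in the form needed: if moreover `k^e = 1`, `a^e = 1`, `b^e = 1` with `e` odd then `(ab)^e = 1`. -/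
theorem mul_pow_eq_one_of_central {a b k : G} (hk : b * a = k * (a * b)) (hka : Commute k a)
    (hkb : Commute k b) {e : ℕ} (he : Odd e) (ha : a ^ e = 1) (hb : b ^ e = 1) (hke : k ^ e = 1) :
    (a * b) ^ e = 1 := by
  have key : ∀ n : ℕ, (a * b) ^ n = k ^ (n * (n - 1) / 2) * (a ^ n * b ^ n) := by
    intro n
    induction n with
    | zero => simp
    | succ n ih =>
      rw [pow_succ, ih]
      have h1 := pow_mul_comm_of_central hk hkb n
      have h2 : Commute (k ^ n) (a ^ n) := hka.pow_pow n n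
      calc k ^ (n * (n - 1) / 2) * (a ^ n * b ^ n) * (a * b)
          = k ^ (n * (n - 1) / 2) * (a ^ n * (b ^ n * a) * b) := by group
        _ = k ^ (n * (n - 1) / 2) * (a ^ n * (k ^ n * (a * b ^ n)) * b) := by rw [h1]
        _ = k ^ (n * (n - 1) / 2) * ((a ^ n * k ^ n) * (a * b ^ n) * b) := by group
        _ = k ^ (n * (n - 1) / 2) * ((k ^ n * a ^ n) * (a * b ^ n) * b) := by rw [h2.eq]
        _ = (k ^ (n * (n - 1) / 2) * k ^ n) * ((a ^ n * a) * (b ^ n * b)) := by group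
        _ = k ^ ((n + 1) * (n + 1 - 1) / 2) * (a ^ (n + 1) * b ^ (n + 1)) := by
          rw [← pow_add, ← pow_succ, ← pow_succ]
          congr 2
          rcases n with _ | n
          · rfl
          · have h3 : (n + 1 + 1) * (n + 1 + 1 - 1) = (n + 1) * (n + 1 - 1) + (n + 1) * 2 := by
              simp only [Nat.add_sub_cancel]; ring
            rw [h3, Nat.add_mul_div_right _ _ (by norm_num)]
  obtain ⟨m, hm⟩ := he
  have h4 : e * (e - 1) / 2 = e * m := by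
    rw [hm, Nat.add_sub_cancel]
    have : (2 * m + 1) * (2 * m) = ((2 * m + 1) * m) * 2 := by ring
    rw [this, Nat.mul_div_cancel _ (by norm_num)]
  rw [key e, h4, pow_mul, hke, one_pow, ha, hb, one_mul, one_mul]

/-- **Glauberman's replacement theorem** (odd primes), inside an ambient finite group: `A, B` lie in
a `p`-subgroup `S`, `A` is abelian and normalizes `B`, the class of `B` is at most two and
`[B,B] ≤ A`. If `B` does not normalize `A` then there is an abelian `A'` of order at least `|A|`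
normalizing `A`, with `A ∩ B < A' ∩ B`; if `A` has exponent dividing an odd number `e`, so has `A'`. -/
theorem glauberman_replacement [Finite G] {p : ℕ} [Fact p.Prime] (hp : p ≠ 2)
    {S A B : Subgroup G} (hS : IsPGroup p S) (hAS : A ≤ S) (hBS : B ≤ S)
    (hAB : A ≤ normalizer (B : Set G)) (hA : IsMulCommutative A) (hcl : ⁅⁅B, B⁆, B⁆ = ⊥)
    (hBA : ⁅B, B⁆ ≤ A) (hnot : ¬ B ≤ normalizer (A : Set G)) :
    ∃ A' : Subgroup G, A' ≤ A ⊔ B ∧ IsMulCommutative A' ∧ Nat.card A ≤ Nat.card A' ∧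
      A ⊓ B < A' ⊓ B ∧ A' ≤ normalizer (A : Set G) ∧
      (∀ e : ℕ, Odd e → (∀ a ∈ A, a ^ e = 1) → ∀ a ∈ A', a ^ e = 1) := by
  have hAc : ∀ a ∈ A, ∀ b ∈ A, a * b = b * a := fun a ha b hb =>
    mul_comm_of_isMulCommutative hA ha hb
  have hBn : A ⊔ B ≤ normalizer (B : Set G) := sup_le hAB Subgroup.le_normalizer
  have hHS : A ⊔ B ≤ S := sup_le hAS hBS
  -- the element x
  obtain ⟨x, hxB, hxN, hxnN⟩ := exists_normalizing (N := normalizer (A : Set G) ⊓ (A ⊔ B)) (B := B)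
    hS (inf_le_right.trans hHS) hBS (inf_le_right.trans hBn) (fun h => hnot (h.trans inf_le_left))
  have hxA : x ∉ normalizer (A : Set G) := fun h => hxN ⟨h, le_sup_right (a := A) hxB⟩
  have hAN : A ≤ normalizer (A : Set G) ⊓ (A ⊔ B) := le_inf Subgroup.le_normalizer le_sup_left
  have hconj1 : ∀ u ∈ A, x * u * x⁻¹ ∈ normalizer (A : Set G) := fun u hu =>
    ((Subgroup.mem_normalizer_iff.mp hxnN u).mp (hAN hu)).1
  have hconj2 : ∀ u ∈ A, x⁻¹ * u * x ∈ normalizer (A : Set G) := by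
    intro u hu
    have h := (Subgroup.mem_normalizer_iff.mp ((normalizer _).inv_mem hxnN) u).mp (hAN hu)
    rw [inv_inv] at h
    exact h.1
  -- conj action facts
  have hnormA : ∀ g ∈ normalizer (A : Set G), ∀ a ∈ A, g * a * g⁻¹ ∈ A := fun g hg a ha =>
    (Subgroup.mem_normalizer_iff.mp hg a).mp ha
  have hABc : ∀ a ∈ A, ∀ b ∈ B, a * b * a⁻¹ ∈ B := fun a ha b hb =>
    (Subgroup.mem_normalizer_iff.mp (hAB ha) b).mp hb
  have hcomm : ∀ a ∈ B, ∀ b ∈ B, ⁅a, b⁆ ∈ ⁅B, B⁆ := fun a ha b hb =>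
    Subgroup.commutator_mem_commutator ha hb
  have hBB : ⁅B, B⁆ ≤ B := by
    rw [Subgroup.commutator_le]
    intro a ha b hb
    rw [commutatorElement_def]
    exact B.mul_mem (B.mul_mem (B.mul_mem ha hb) (B.inv_mem ha)) (B.inv_mem hb)
  have hclc : ∀ a ∈ B, ∀ b ∈ B, ∀ c ∈ B, c * ⁅a, b⁆ = ⁅a, b⁆ * c := by
    intro a ha b hb c hc
    have h1 : ⁅⁅a, b⁆, c⁆ ∈ ⁅⁅B, B⁆, B⁆ := Subgroup.commutator_mem_commutator (hcomm a ha b hb) hc
    rw [hcl, Subgroup.mem_bot, commutatorElement_eq_one_iff_mul_comm] at h1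
    exact h1.symm
  have hclA : ∀ a ∈ B, ∀ b ∈ B, ∀ c ∈ A, c * ⁅a, b⁆ = ⁅a, b⁆ * c := by
    intro a ha b hb c hc
    exact hAc c hc _ (hBA (hcomm a ha b hb))
  let c : G → G := fun u => ⁅x, u⁆
  have hcdef : ∀ u, c u = ⁅x, u⁆ := fun _ => rfl
  have hcN : ∀ u ∈ A, c u ∈ normalizer (A : Set G) := by
    intro u hu
    have : c u = (x * u * x⁻¹) * u⁻¹ := by rw [hcdef, commutatorElement_def]
    rw [this]
    exact (normalizer (A : Set G)).mul_mem (hconj1 u hu) (Subgroup.le_normalizer (A.inv_mem hu))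
  have hcB : ∀ u ∈ A, c u ∈ B := by
    intro u hu
    have : c u = x * (u * x * u⁻¹)⁻¹ := by rw [hcdef, commutatorElement_def]; group
    rw [this]
    exact B.mul_mem hxB (B.inv_mem (hABc u hu x hxB))
  have hq : ∀ s ∈ A, ∀ t ∈ A, t * ⁅⁅x, s⁆, t⁆ = ⁅⁅x, s⁆, t⁆ * t := by
    intro s hs t ht
    refine hAc t ht _ ?_
    have h1 := hnormA _ (hcN s hs) t ht
    rw [commutatorElement_def]
    exact A.mul_mem h1 (A.inv_mem ht)
  have hsq : ∀ u ∈ A, ∀ v ∈ A, c u * c v = c v * c u := by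
    intro u hu v hv
    have h1 := sq_comm_eq_one hAc hABc hclc hclA hxB hq hu hv
    have h2 : ⁅c u, c v⁆ ∈ S := by
      rw [commutatorElement_def]
      have hu' := hBS (hcB u hu)
      have hv' := hBS (hcB v hv)
      exact S.mul_mem (S.mul_mem (S.mul_mem hu' hv') (S.inv_mem hu')) (S.inv_mem hv')
    obtain ⟨k, hk⟩ := hS ⟨_, h2⟩
    have hk' : ⁅c u, c v⁆ ^ p ^ k = 1 := by
      have := congrArg Subtype.val hk
      simpa using this
    have hcop : Nat.Coprime 2 (p ^ k) := by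
      apply Nat.Coprime.pow_right
      rw [Nat.coprime_primes Nat.prime_two (Fact.out : p.Prime)]
      exact fun h => hp h.symm
    have h3 : orderOf ⁅c u, c v⁆ ∣ Nat.gcd 2 (p ^ k) :=
      Nat.dvd_gcd (orderOf_dvd_of_pow_eq_one h1) (orderOf_dvd_of_pow_eq_one hk')
    rw [hcop, Nat.dvd_one, orderOf_eq_one_iff, commutatorElement_eq_one_iff_mul_comm] at h3
    exact h3
  -- the subgroup A'
  let K0 : Subgroup G := A ⊓ A.map (MulAut.conj x⁻¹).toMonoidHom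
  let A0 : Subgroup G := A ⊓ A.map (MulAut.conj x).toMonoidHom
  have hmemA0 : ∀ z, z ∈ A0 ↔ z ∈ A ∧ x⁻¹ * z * x ∈ A := by
    intro z
    constructor
    · rintro ⟨h1, y, hy, rfl⟩
      refine ⟨h1, ?_⟩
      simpa [mul_assoc] using hy
    · rintro ⟨h1, h2⟩
      refine ⟨h1, ⟨_, h2, ?_⟩⟩
      simp [mul_assoc]
  have hmemK0 : ∀ z, z ∈ K0 ↔ z ∈ A ∧ x * z * x⁻¹ ∈ A := by
    intro z
    constructor
    · rintro ⟨h1, y, hy, rfl⟩
      refine ⟨h1, ?_⟩
      simpa [mul_assoc] using hy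
    · rintro ⟨h1, h2⟩
      refine ⟨h1, ⟨_, h2, ?_⟩⟩
      simp [mul_assoc]
  have hA0c : ∀ z ∈ A0, ∀ u ∈ A, z * c u = c u * z := by
    intro z hz u hu
    obtain ⟨hz1, hz2⟩ := (hmemA0 z).mp hz
    have e1 : Commute z (x * u * x⁻¹) := by
      have e2 : Commute (x⁻¹ * z * x) u := hAc _ hz2 _ hu
      have e3 : Commute (x * (x⁻¹ * z * x) * x⁻¹) (x * u * x⁻¹) := by
        have := e2.map (MulAut.conj x)
        simpa using this
      have e4 : x * (x⁻¹ * z * x) * x⁻¹ = z := by group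
      rwa [e4] at e3
    have e5 : Commute z u⁻¹ := hAc _ hz1 _ (A.inv_mem hu)
    have e6 : c u = (x * u * x⁻¹) * u⁻¹ := by rw [hcdef, commutatorElement_def]
    rw [e6]
    exact (e1.mul_right e5).eq
  let T : Set G := (A0 : Set G) ∪ c '' (A : Set G)
  let A' : Subgroup G := Subgroup.closure T
  have hA0A' : A0 ≤ A' := fun z hz => Subgroup.subset_closure (Or.inl hz)
  have hcA' : ∀ u ∈ A, c u ∈ A' := fun u hu => Subgroup.subset_closure (Or.inr ⟨u, hu, rfl⟩)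
  have hTcomm : ∀ y ∈ T, ∀ z ∈ T, y * z = z * y := by
    rintro y (hy | ⟨u, hu, rfl⟩) z (hz | ⟨v, hv, rfl⟩)
    · exact hAc y hy.1 z hz.1
    · exact hA0c y hy v hv
    · exact (hA0c z hz u hu).symm
    · exact hsq u hu v hv
  have hA'c : IsMulCommutative A' := Subgroup.isMulCommutative_closure hTcomm
  refine ⟨A', ?_, hA'c, ?_, ?_, ?_, ?_⟩
  · -- A' ≤ A ⊔ B
    rw [Subgroup.closure_le]
    rintro y (hy | ⟨u, hu, rfl⟩)
    · exact le_sup_left (a := A) hy.1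
    · exact le_sup_right (a := A) (hcB u hu)
  · -- card
    have hcard0 : Nat.card K0 = Nat.card A0 := by
      have h1 : A0 = K0.map (MulAut.conj x).toMonoidHom := by
        ext z
        rw [hmemA0]
        constructor
        · rintro ⟨h1, h2⟩
          refine ⟨x⁻¹ * z * x, (hmemK0 _).mpr ⟨h2, ?_⟩, ?_⟩
          · have : x * (x⁻¹ * z * x) * x⁻¹ = z := by group
            rwa [this]
          · simp [mul_assoc]
        · rintro ⟨y, hy, rfl⟩
          obtain ⟨h1, h2⟩ := (hmemK0 y).mp hy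
          refine ⟨by simpa using h2, ?_⟩
          simpa [mul_assoc] using h1
      rw [h1]
      exact Nat.card_congr
        (Subgroup.equivMapOfInjective K0 _ (MulAut.conj x).injective).toEquiv
    have hK0A : K0 ≤ A := inf_le_left
    have h1 : Nat.card (K0.subgroupOf A) * (K0.subgroupOf A).index = Nat.card A :=
      Subgroup.card_mul_index _
    have h2 : Nat.card (A0.subgroupOf A') * (A0.subgroupOf A').index = Nat.card A' :=
      Subgroup.card_mul_index _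
    rw [Nat.card_congr (Subgroup.subgroupOfEquivOfLe hK0A).toEquiv] at h1
    rw [Nat.card_congr (Subgroup.subgroupOfEquivOfLe hA0A').toEquiv] at h2
    rw [← h1, ← h2, hcard0]
    refine Nat.mul_le_mul_left _ ?_
    rw [Subgroup.index_eq_card, Subgroup.index_eq_card]
    refine Nat.card_le_card_of_injective
      (fun q => (QuotientGroup.mk ⟨c (q.out : G), hcA' _ q.out.2⟩ : A' ⧸ A0.subgroupOf A')) ?_
    intro q q' hqq
    simp only at hqq
    rw [QuotientGroup.eq] at hqq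
    have h3 : (c (q.out : G))⁻¹ * c (q'.out : G) ∈ A0 := Subgroup.mem_subgroupOf.mp hqq
    have hu := q.out.2
    have hv := q'.out.2
    set u : G := (q.out : G) with hudef
    set v : G := (q'.out : G) with hvdef
    have h4 : (c u)⁻¹ * c v = u * (x * (u⁻¹ * v) * x⁻¹) * v⁻¹ := by
      rw [hcdef, hcdef, commutatorElement_def, commutatorElement_def]; group
    rw [h4] at h3
    have h5 : x * (u⁻¹ * v) * x⁻¹ ∈ A := by
      have h6 := A.mul_mem (A.mul_mem (A.inv_mem hu) ((hmemA0 _).mp h3).1) hv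
      have h7 : u⁻¹ * (u * (x * (u⁻¹ * v) * x⁻¹) * v⁻¹) * v = x * (u⁻¹ * v) * x⁻¹ := by group
      rwa [h7] at h6
    have h8 : u⁻¹ * v ∈ K0 := (hmemK0 _).mpr ⟨A.mul_mem (A.inv_mem hu) hv, h5⟩
    have h9 : (QuotientGroup.mk q.out : A ⧸ K0.subgroupOf A) = QuotientGroup.mk q'.out := by
      rw [QuotientGroup.eq, Subgroup.mem_subgroupOf]
      exact h8
    rw [QuotientGroup.out_eq', QuotientGroup.out_eq'] at h9
    exact h9
  · -- A ⊓ B < A' ⊓ B
    have hle : A ⊓ B ≤ A' ⊓ B := by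
      rintro z ⟨hz1, hz2⟩
      refine ⟨hA0A' ((hmemA0 z).mpr ⟨hz1, ?_⟩), hz2⟩
      have h1 : x⁻¹ * z * x = ⁅x⁻¹, z⁆ * z := by rw [commutatorElement_def]; group
      rw [h1]
      exact A.mul_mem (hBA (hcomm _ (B.inv_mem hxB) _ hz2)) hz1
    refine lt_of_le_of_ne hle ?_
    intro heq
    apply hxA
    refine Subgroup.mem_normalizer_fintype ?_
    intro u hu
    have h1 : c u ∈ A' ⊓ B := ⟨hcA' u hu, hcB u hu⟩
    rw [← heq] at h1
    have h2 : x * u * x⁻¹ = c u * u := by rw [hcdef, commutatorElement_def]; group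
    rw [h2]
    exact A.mul_mem h1.1 hu
  · -- A' ≤ N(A)
    rw [Subgroup.closure_le]
    rintro y (hy | ⟨u, hu, rfl⟩)
    · exact Subgroup.le_normalizer hy.1
    · exact hcN u hu
  · -- exponent
    intro e he hexp
    have hgen : ∀ y ∈ T, y ^ e = 1 := by
      rintro y (hy | ⟨u, hu, rfl⟩)
      · exact hexp y hy.1
      · -- c u = a1 * a2
        set a1 : G := x * u * x⁻¹ with ha1
        have ha2 : u⁻¹ ∈ A := A.inv_mem hu
        have e6 : c u = a1 * u⁻¹ := by rw [hcdef, commutatorElement_def]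
        rw [e6]
        have hka : ⁅u⁻¹, a1⁆ ∈ A0 := by
          rw [hmemA0]
          constructor
          · have h1 := hnormA _ (hconj1 u hu) _ (A.inv_mem ha2)
            have h2 : ⁅u⁻¹, a1⁆ = u⁻¹ * (a1 * u⁻¹⁻¹ * a1⁻¹) := by
              rw [commutatorElement_def]; group
            rw [h2]
            exact A.mul_mem ha2 h1
          · have h1 := hnormA _ (hconj2 _ ha2) _ hu
            have h2 : x⁻¹ * ⁅u⁻¹, a1⁆ * x =
                (x⁻¹ * u⁻¹ * x) * u * (x⁻¹ * u⁻¹ * x)⁻¹ * u⁻¹ := by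
              rw [commutatorElement_def, ha1]; group
            rw [h2]
            exact A.mul_mem h1 (A.inv_mem hu)
        have hk1 : u⁻¹ * a1 = ⁅u⁻¹, a1⁆ * (a1 * u⁻¹) := by
          rw [commutatorElement_def]; group
        have hk2 : Commute ⁅u⁻¹, a1⁆ a1 := by
          have h1 : a1 = c u * u := by rw [e6]; group
          have h3 : Commute ⁅u⁻¹, a1⁆ (c u) := hA0c _ hka u hu
          have h4 : Commute ⁅u⁻¹, a1⁆ u := hAc _ hka.1 _ hu
          have h5 := h3.mul_right h4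
          rwa [← h1] at h5
        have hk3 : Commute ⁅u⁻¹, a1⁆ u⁻¹ := hAc _ hka.1 _ ha2
        refine mul_pow_eq_one_of_central hk1 hk2 hk3 he ?_ (hexp _ ha2) (hexp _ hka.1)
        rw [ha1]
        have h1 : (x * u * x⁻¹) ^ e = x * u ^ e * x⁻¹ := conj_pow
        rw [h1, hexp u hu]; group
    intro a ha
    refine Subgroup.closure_induction (p := fun y _ => y ^ e = 1) hgen (one_pow e) ?_ ?_ ha
    · intro y z hy hz h1 h2
      have hyz : Commute y z := mul_comm_of_isMulCommutative hA'c hy hz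
      rw [hyz.mul_pow, h1, h2, one_mul]
    · intro y hy h1
      rw [inv_pow, h1, inv_one]

end Cfsg.Agent.PLocal.Replacement
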