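import Cfsg.Agent.PLocal.QuadraticSection
import Cfsg.Agent.S0274
set_option linter.all false

/-!
The natural `SL₂(p)`-section, with Dickson's theorem supplied by `S0274`.
-/

set_option autoImplicit false

namespace Cfsg.Agent.PLocal.QuadraticDickson

open Matrix
open Cfsg.Agent.PLocal.QuadraticSection

universe u v

theorem dicksonSL2 (p : ℕ) [Fact p.Prime] (hp : p ≠ 2) : DicksonSL2.{u} p := by
  intro E _ _ _ H hH
  exact Cfsg.Agent.S0274.result p hp H hH

/-- Two quadratic generators `a, b` of a group `K` acting on a finite `p`-group `P`, `p` odd, not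
as a `p`-group: there are a subgroup `K₁` of `K` and a `K₁`-invariant subgroup `W` of `P` with a
quotient of order `p²` on which `K₁` acts as `SL₂(p)`. -/
theorem exists_natural_section {p : ℕ} [Fact p.Prime] (hp : p ≠ 2)
    {K : Type v} [Group K] {P : Type u} [Group P] [Finite P] (hP : IsPGroup p P)
    (α : K →* MulAut P) (a b : K) (hab : Subgroup.closure ({a, b} : Set K) = ⊤)
    (ha : ∀ x, α a (x⁻¹ * α a x) = x⁻¹ * α a x) (hb : ∀ x, α b (x⁻¹ * α b x) = x⁻¹ * α b x)
    (hnp : ¬ ∀ k, ∃ n, (α k) ^ p ^ n = 1) :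
    ∃ (W : Subgroup P) (e : W →* Multiplicative (Fin 2 → ZMod p)) (K₁ : Subgroup K)
      (σ : K₁ →* Matrix.SpecialLinearGroup (Fin 2) (ZMod p)),
      Function.Surjective e ∧ Function.Surjective σ ∧
        ∀ (k : K₁) (w : W), ∃ h : α k w ∈ W,
          Multiplicative.toAdd (e ⟨α k w, h⟩) =
            (σ k : Matrix (Fin 2) (Fin 2) (ZMod p)) *ᵥ Multiplicative.toAdd (e w) :=
  QuadraticSection.exists_natural_section hp (dicksonSL2 p hp) hP α a b hab ha hb hnp

end Cfsg.Agent.PLocal.QuadraticDickson
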