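import Mathlib
import Cfsg.Prelude.Def_PLocal
set_option linter.all false

/-!
Uniserial actions: a p-group `G` acting on a p-group `N` (both inside an ambient group `L`), the
chain `iterCommutator N G i`, and a "nilpotent Nakayama lemma".
-/

set_option autoImplicit false

namespace Cfsg.Agent.PLocal.Uniserial

open Subgroup
open scoped commutatorElement

variable {L : Type*} [Group L]

theorem iterCommutator_zero (N G : Subgroup L) : Cfsg.iterCommutator N G 0 = N := rfl

theorem iterCommutator_succ (N G : Subgroup L) (i : ℕ) :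
    Cfsg.iterCommutator N G (i + 1) = ⁅Cfsg.iterCommutator N G i, G⁆ := rfl

/-- Nilpotent Nakayama: if `K` is nilpotent, `G, M, H ≤ K`, `G` normalizes `H`, and
`M ≤ [M, G] H` then `M ≤ H`. -/
theorem le_of_le_commutator_sup (K G M H : Subgroup L) (hK : Group.IsNilpotent K)
    (hGK : G ≤ K) (hMK : M ≤ K) (hHK : H ≤ K)
    (hGH : G ≤ Subgroup.normalizer (H : Set L)) (h : M ≤ ⁅M, G⁆ ⊔ H) : M ≤ H := by
  have key : ∀ n, M ≤ K.lowerCentralSeries n ⊔ H := by
    intro n
    induction n with
    | zero => exact le_sup_of_le_left hMK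
    | succ n ih =>
      refine h.trans (sup_le ?_ le_sup_right)
      rw [commutator_le]
      intro m hm g hg
      have hm' := ih hm
      have hcoe := coe_mul_of_right_le_normalizer_left (K.lowerCentralSeries n) H
        (hHK.trans (self_le_normalizer_lowerCentralSeries (S := K) n))
      rw [← SetLike.mem_coe, hcoe] at hm'
      obtain ⟨a, ha, b, hb, rfl⟩ := Set.mem_mul.mp hm'
      have ha' : a ∈ K.lowerCentralSeries n := ha
      have hb' : b ∈ H := hb
      have h1 : ⁅a * b, g⁆ = ⁅a, ⁅b, g⁆⁆ * ⁅b, g⁆ * ⁅a, g⁆ := by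
        simp only [commutatorElement_def]; group
      rw [h1]
      have hbg : ⁅b, g⁆ ∈ H :=
        (le_normalizer_iff_commutator_le_left.mp hGH) (commutator_mem_commutator hb' hg)
      have h2 : ⁅a, ⁅b, g⁆⁆ ∈ K.lowerCentralSeries (n + 1) := by
        rw [Subgroup.lowerCentralSeries_succ]
        exact commutator_mem_commutator ha' (hHK hbg)
      have h3 : ⁅a, g⁆ ∈ K.lowerCentralSeries (n + 1) := by
        rw [Subgroup.lowerCentralSeries_succ]
        exact commutator_mem_commutator ha' (hGK hg)
      exact mul_mem (mul_mem (mem_sup_left h2) (mem_sup_right hbg)) (mem_sup_left h3)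
  obtain ⟨n, hn⟩ := (isNilpotent_iff_lowerCentralSeries K).mp hK
  have := key n
  rwa [hn, bot_sup_eq] at this

/-- If a p-group `G` normalizes a nontrivial p-group `H`, both inside a nilpotent subgroup, then
`[H, G] < H`. -/
theorem commutator_lt (K G H : Subgroup L) (hK : Group.IsNilpotent K)
    (hGK : G ≤ K) (hHK : H ≤ K) (hGH : G ≤ Subgroup.normalizer (H : Set L)) (hH : H ≠ ⊥) :
    ⁅H, G⁆ < H := by
  refine lt_of_le_of_ne (le_normalizer_iff_commutator_le_left.mp hGH) ?_
  intro h
  apply hH
  rw [eq_bot_iff]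
  refine le_of_le_commutator_sup K G H ⊥ hK hGK hHK bot_le ?_ ?_
  · have : Subgroup.normalizer (((⊥ : Subgroup L)) : Set L) = ⊤ := by
      rw [normalizer_eq_top_iff]; infer_instance
    rw [this]; exact le_top
  · rw [h]; exact le_sup_left

theorem iterCommutator_le_succ {N G : Subgroup L} (hGN : G ≤ Subgroup.normalizer (N : Set L))
    (i : ℕ) : G ≤ Subgroup.normalizer (Cfsg.iterCommutator N G i : Set L) ∧
      Cfsg.iterCommutator N G i ≤ N := by
  induction i with
  | zero => exact ⟨hGN, le_rfl⟩
  | succ i ih =>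
    rw [iterCommutator_succ]
    exact ⟨normalizer_commutator_ge_right _ _,
      (le_normalizer_iff_commutator_le_left.mp ih.1).trans ih.2⟩

theorem le_normalizer_iterCommutator {N G : Subgroup L}
    (hGN : G ≤ Subgroup.normalizer (N : Set L)) (i : ℕ) :
    G ≤ Subgroup.normalizer (Cfsg.iterCommutator N G i : Set L) :=
  (iterCommutator_le_succ hGN i).1

theorem iterCommutator_le {N G : Subgroup L}
    (hGN : G ≤ Subgroup.normalizer (N : Set L)) (i : ℕ) :
    Cfsg.iterCommutator N G i ≤ N :=
  (iterCommutator_le_succ hGN i).2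

theorem iterCommutator_succ_le {N G : Subgroup L}
    (hGN : G ≤ Subgroup.normalizer (N : Set L)) (i : ℕ) :
    Cfsg.iterCommutator N G (i + 1) ≤ Cfsg.iterCommutator N G i :=
  le_normalizer_iff_commutator_le_left.mp (le_normalizer_iterCommutator hGN i)

theorem iterCommutator_antitone {N G : Subgroup L}
    (hGN : G ≤ Subgroup.normalizer (N : Set L)) : Antitone (Cfsg.iterCommutator N G) :=
  antitone_nat_of_succ_le (iterCommutator_succ_le hGN)

theorem prime_dvd_relIndex_of_lt {p : ℕ} [Fact p.Prime] [Finite L] {A B : Subgroup L}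
    (hB : IsPGroup p B) (h : A < B) : p ∣ A.relIndex B := by
  obtain ⟨k, hk⟩ := hB.index (A.subgroupOf B)
  have hne : A.relIndex B ≠ 1 := by
    rw [Ne, relIndex_eq_one]
    exact fun h' => absurd h' (not_le_of_gt h)
  have hk' : A.relIndex B = p ^ k := hk
  rw [hk'] at hne ⊢
  rcases Nat.eq_zero_or_pos k with rfl | hkpos
  · simp at hne
  · exact dvd_pow_self p hkpos.ne'

/-- A `G`-invariant subgroup `H` of `N` of index `p ^ i` contains `[N, G, ..., G]` (`i` times). -/
theorem iterCommutator_le_of_relIndex {p : ℕ} [Fact p.Prime] [Finite L] (K N G : Subgroup L)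
    (hK : IsPGroup p K) (hNK : N ≤ K) (hGK : G ≤ K)
    (hGN : G ≤ Subgroup.normalizer (N : Set L)) (H : Subgroup L) (hHN : H ≤ N)
    (hGH : G ≤ Subgroup.normalizer (H : Set L)) (i : ℕ) (hi : H.relIndex N ∣ p ^ i) :
    Cfsg.iterCommutator N G i ≤ H := by
  have hp : p.Prime := Fact.out
  by_contra hcon
  -- the chain `C j = N_j ⊔ H` is strictly decreasing for `j ≤ i`
  have hKnil : Group.IsNilpotent K := hK.isNilpotent
  have hnot : ∀ j ≤ i, ¬ Cfsg.iterCommutator N G j ≤ H := fun j hj h' =>
    hcon ((iterCommutator_antitone hGN hj).trans h')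
  have hstep : ∀ j ≤ i, Cfsg.iterCommutator N G (j + 1) ⊔ H < Cfsg.iterCommutator N G j ⊔ H := by
    intro j hj
    refine lt_of_le_of_ne (sup_le_sup_right (iterCommutator_succ_le hGN j) H) ?_
    intro heq
    apply hnot j hj
    refine le_of_le_commutator_sup K G _ H hKnil hGK ((iterCommutator_le hGN j).trans hNK)
      (hHN.trans hNK) hGH ?_
    have h1 : Cfsg.iterCommutator N G j ≤ Cfsg.iterCommutator N G j ⊔ H := le_sup_left
    rw [← heq] at h1
    exact h1
  have hdvd : ∀ j ≤ i + 1, p ^ j ∣ (Cfsg.iterCommutator N G j ⊔ H).relIndex N := by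
    intro j
    induction j with
    | zero => intro _; simp
    | succ j ih =>
      intro hj
      have h1 := ih (by omega)
      have h2 := hstep j (by omega)
      have h3 : (Cfsg.iterCommutator N G j ⊔ H) ≤ N := sup_le (iterCommutator_le hGN j) hHN
      have h4 := relIndex_mul_relIndex _ _ _ h2.le h3
      rw [← h4, pow_succ, mul_comm]
      refine mul_dvd_mul (prime_dvd_relIndex_of_lt (hK.to_le (h3.trans hNK)) h2) h1
  have h1 := hdvd (i + 1) le_rfl
  have h2 : (Cfsg.iterCommutator N G (i + 1) ⊔ H).relIndex N ∣ H.relIndex N :=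
    relIndex_dvd_of_le_left N le_sup_right
  have h3 := (h1.trans h2).trans hi
  have h4 := (Nat.pow_dvd_pow_iff_le_right hp.one_lt).mp h3
  omega

/-- `|A| * |B : A| = |B|` for `A ≤ B`. -/
theorem card_mul_relIndex {A B : Subgroup L} (h : A ≤ B) :
    Nat.card A * A.relIndex B = Nat.card B := by
  have := relIndex_mul_relIndex ⊥ A B bot_le h
  rwa [relIndex_bot_left, relIndex_bot_left] at this

theorem iterCommutator_succ_lt {p : ℕ} [Fact p.Prime] [Finite L] (K N G : Subgroup L)
    (hK : IsPGroup p K) (hNK : N ≤ K) (hGK : G ≤ K)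
    (hGN : G ≤ Subgroup.normalizer (N : Set L)) (i : ℕ)
    (hne : Cfsg.iterCommutator N G i ≠ ⊥) :
    Cfsg.iterCommutator N G (i + 1) < Cfsg.iterCommutator N G i :=
  commutator_lt K G _ hK.isNilpotent hGK ((iterCommutator_le hGN i).trans hNK)
      (le_normalizer_iterCommutator hGN i) hne

/-- If `[N, G, ..., G]` (`n - 1` times) is nontrivial and `|N| = p ^ n` then all steps of the chain
have index `p`. -/
theorem card_iterCommutator {p : ℕ} [Fact p.Prime] [Finite L] (K N G : Subgroup L)
    (hK : IsPGroup p K) (hNK : N ≤ K) (hGK : G ≤ K)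
    (hGN : G ≤ Subgroup.normalizer (N : Set L)) (n : ℕ) (hn : Nat.card N = p ^ n)
    (hne : Cfsg.iterCommutator N G (n - 1) ≠ ⊥ ∨ n = 0) (i : ℕ) (hi : i ≤ n) :
    Nat.card (Cfsg.iterCommutator N G i) = p ^ (n - i) := by
  have hp : p.Prime := Fact.out
  have hnb : ∀ j < n, Cfsg.iterCommutator N G j ≠ ⊥ := by
    intro j hj hbot
    rcases hne with hne | hne
    · apply hne
      rw [eq_bot_iff, ← hbot]
      exact iterCommutator_antitone hGN (by omega)
    · omega
  have hlt : ∀ j < n, Cfsg.iterCommutator N G (j + 1) < Cfsg.iterCommutator N G j :=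
    fun j hj => iterCommutator_succ_lt K N G hK hNK hGK hGN j (hnb j hj)
  have hpdvd : ∀ j < n, p ∣
      (Cfsg.iterCommutator N G (j + 1)).relIndex (Cfsg.iterCommutator N G j) :=
    fun j hj => prime_dvd_relIndex_of_lt
        (hK.to_le ((iterCommutator_le hGN j).trans hNK)) (hlt j hj)
  have hdvd1 : ∀ j ≤ n, p ^ j ∣ (Cfsg.iterCommutator N G j).relIndex N := by
    intro j
    induction j with
    | zero => intro _; simp
    | succ j ih =>
      intro hj
      have h4 := relIndex_mul_relIndex _ _ _ (iterCommutator_succ_le hGN j) (iterCommutator_le hGN j)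
      rw [← h4, pow_succ, mul_comm]
      exact mul_dvd_mul (hpdvd j (by omega)) (ih (by omega))
  have hdvd2 : ∀ k ≤ n, p ^ k ∣ Nat.card (Cfsg.iterCommutator N G (n - k)) := by
    intro k
    induction k with
    | zero => intro _; simp
    | succ k ih =>
      intro hk
      have h5 : n - k = n - (k + 1) + 1 := by omega
      have h4 := card_mul_relIndex (iterCommutator_succ_le hGN (n - (k + 1)))
      rw [← h5] at h4
      rw [← h4, pow_succ]
      refine mul_dvd_mul (ih (by omega)) ?_
      have := hpdvd (n - (k + 1)) (by omega)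
      rwa [← h5] at this
  obtain ⟨a, ha⟩ := hdvd1 i hi
  obtain ⟨b, hb⟩ := hdvd2 (n - i) (by omega)
  rw [show n - (n - i) = i by omega] at hb
  have h6 := card_mul_relIndex (iterCommutator_le hGN i)
  rw [ha, hb, hn] at h6
  have h7 : p ^ n = p ^ (n - i) * p ^ i := by rw [← pow_add]; congr 1; omega
  have h8 : (p ^ (n - i) * p ^ i) * (b * a) = (p ^ (n - i) * p ^ i) * 1 := by
    calc (p ^ (n - i) * p ^ i) * (b * a) = p ^ (n - i) * b * (p ^ i * a) := by ring
      _ = p ^ n := h6
      _ = _ := by rw [mul_one, h7]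
  have h9 : b * a = 1 := Nat.eq_of_mul_eq_mul_left (Nat.mul_pos (pow_pos hp.pos _)
    (pow_pos hp.pos _)) h8
  have h10 : b = 1 := Nat.eq_one_of_mul_eq_one_right h9
  rw [hb, h10, mul_one]

/-- In the situation of `card_iterCommutator` the `G`-invariant subgroups of `N` are exactly the
terms of the chain. -/
theorem eq_iterCommutator {p : ℕ} [Fact p.Prime] [Finite L] (K N G : Subgroup L)
    (hK : IsPGroup p K) (hNK : N ≤ K) (hGK : G ≤ K)
    (hGN : G ≤ Subgroup.normalizer (N : Set L)) (n : ℕ) (hn : Nat.card N = p ^ n)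
    (hne : Cfsg.iterCommutator N G (n - 1) ≠ ⊥ ∨ n = 0) (H : Subgroup L) (hHN : H ≤ N)
    (hGH : G ≤ Subgroup.normalizer (H : Set L)) (i : ℕ) (hi : i ≤ n)
    (hH : Nat.card H = p ^ (n - i)) :
    H = Cfsg.iterCommutator N G i := by
  have hp : p.Prime := Fact.out
  have h1 := card_mul_relIndex hHN
  rw [hn, hH] at h1
  have h7 : p ^ n = p ^ (n - i) * p ^ i := by rw [← pow_add]; congr 1; omega
  rw [h7] at h1
  have h2 : H.relIndex N = p ^ i := Nat.eq_of_mul_eq_mul_left (pow_pos hp.pos _) h1
  have h3 := iterCommutator_le_of_relIndex K N G hK hNK hGK hGN H hHN hGH i (by rw [h2])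
  have h4 := card_iterCommutator K N G hK hNK hGK hGN n hn hne i hi
  symm
  apply Subgroup.eq_of_le_of_card_ge h3
  rw [h4, hH]

theorem exists_eq_iterCommutator {p : ℕ} [Fact p.Prime] [Finite L] (K N G : Subgroup L)
    (hK : IsPGroup p K) (hNK : N ≤ K) (hGK : G ≤ K)
    (hGN : G ≤ Subgroup.normalizer (N : Set L)) (n : ℕ) (hn : Nat.card N = p ^ n)
    (hne : Cfsg.iterCommutator N G (n - 1) ≠ ⊥ ∨ n = 0) (H : Subgroup L) (hHN : H ≤ N)
    (hGH : G ≤ Subgroup.normalizer (H : Set L)) :
    ∃ i ≤ n, H = Cfsg.iterCommutator N G i := by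
  have hp : p.Prime := Fact.out
  have h1 : Nat.card H ∣ p ^ n := hn ▸ Subgroup.card_dvd_of_le hHN
  obtain ⟨k, hk, hk'⟩ := (Nat.dvd_prime_pow hp).mp h1
  refine ⟨n - k, by omega, eq_iterCommutator K N G hK hNK hGK hGN n hn hne H hHN hGH (n - k)
    (by omega) ?_⟩
  rw [hk']; congr 1; omega

/-- In the situation of `card_iterCommutator` every `G`-invariant subgroup of `N` is normal
in `N`. -/
theorem le_normalizer_of_invariant {p : ℕ} [Fact p.Prime] [Finite L] (K N G : Subgroup L)
    (hK : IsPGroup p K) (hNK : N ≤ K) (hGK : G ≤ K)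
    (hGN : G ≤ Subgroup.normalizer (N : Set L)) (n : ℕ) (hn : Nat.card N = p ^ n)
    (hne : Cfsg.iterCommutator N G (n - 1) ≠ ⊥ ∨ n = 0) (H : Subgroup L) (hHN : H ≤ N)
    (hGH : G ≤ Subgroup.normalizer (H : Set L)) :
    N ≤ Subgroup.normalizer (H : Set L) := by
  have hp : p.Prime := Fact.out
  set M := N ⊓ Subgroup.normalizer (H : Set L) with hM
  have hGM : G ≤ Subgroup.normalizer (M : Set L) := by
    intro g hg
    rw [mem_normalizer_iff]
    intro x
    have h1 := (mem_normalizer_iff.mp (hGN hg)) x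
    have h2 : x ∈ Subgroup.normalizer (H : Set L) ↔
        g * x * g⁻¹ ∈ Subgroup.normalizer (H : Set L) := by
      constructor
      · intro hx
        exact mul_mem (mul_mem (hGH hg) hx) (inv_mem (hGH hg))
      · intro hx
        have := mul_mem (mul_mem (inv_mem (hGH hg)) hx) (hGH hg)
        simpa [mul_assoc] using this
    simp only [hM, Subgroup.mem_inf]
    rw [h2]
    exact and_congr_left fun _ => h1
  obtain ⟨j, hj, hMj⟩ := exists_eq_iterCommutator K N G hK hNK hGK hGN n hn hne M inf_le_left hGM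
  rcases Nat.eq_zero_or_pos j with rfl | hjpos
  · rw [iterCommutator_zero] at hMj
    exact (inf_eq_left.mp hMj)
  · exfalso
    obtain ⟨k, rfl⟩ : ∃ k, j = k + 1 := ⟨j - 1, by omega⟩
    have hle : Cfsg.iterCommutator N G k ≤ M := by
      intro x hx
      have hxN : x ∈ N := iterCommutator_le hGN k hx
      refine Subgroup.mem_inf.mpr ⟨hxN, ?_⟩
      -- the conjugate of `H` by `x`
      have hinj : Function.Injective (MulAut.conj x).toMonoidHom := (MulAut.conj x).injective
      have hGH' : G ≤ Subgroup.normalizer ((H.map (MulAut.conj x).toMonoidHom : Subgroup L) : Set L) := by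
        intro g hg
        have h1 : x⁻¹ * g * x ∈ Subgroup.normalizer (H : Set L) := by
          have h2 : ⁅x⁻¹, g⁆ ∈ Cfsg.iterCommutator N G (k + 1) := by
            rw [iterCommutator_succ]
            exact commutator_mem_commutator (inv_mem hx) hg
          rw [← hMj] at h2
          have h3 := mul_mem (Subgroup.mem_inf.mp h2).2 (hGH hg)
          simpa [commutatorElement_def, mul_assoc] using h3
        rw [mem_normalizer_iff]
        intro y
        have h4 := (mem_normalizer_iff.mp h1) (x⁻¹ * y * x)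
        have e1 : y ∈ H.map (MulAut.conj x).toMonoidHom ↔ x⁻¹ * y * x ∈ H := by
          rw [Subgroup.mem_map]
          constructor
          · rintro ⟨z, hz, rfl⟩
            simpa [mul_assoc] using hz
          · intro h
            exact ⟨_, h, by simp [mul_assoc]⟩
        have e2 : g * y * g⁻¹ ∈ H.map (MulAut.conj x).toMonoidHom ↔
            x⁻¹ * (g * y * g⁻¹) * x ∈ H := by
          rw [Subgroup.mem_map]
          constructor
          · rintro ⟨z, hz, hz'⟩
            rw [← hz']
            simpa [mul_assoc] using hz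
          · intro h
            exact ⟨_, h, by simp [mul_assoc]⟩
        rw [e1, e2, h4]
        have : x⁻¹ * g * x * (x⁻¹ * y * x) * (x⁻¹ * g * x)⁻¹ = x⁻¹ * (g * y * g⁻¹) * x := by group
        rw [this]
      have hHN' : H.map (MulAut.conj x).toMonoidHom ≤ N := by
        rintro _ ⟨z, hz, rfl⟩
        exact mul_mem (mul_mem hxN (hHN hz)) (inv_mem hxN)
      have hcard : Nat.card (H.map (MulAut.conj x).toMonoidHom) = Nat.card H :=
        Subgroup.card_map_of_injective hinj
      obtain ⟨a, ha, hHa⟩ := exists_eq_iterCommutator K N G hK hNK hGK hGN n hn hne H hHN hGH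
      have hHa' := eq_iterCommutator K N G hK hNK hGK hGN n hn hne _ hHN' hGH' a ha (by
        rw [hcard, hHa, card_iterCommutator K N G hK hNK hGK hGN n hn hne a ha])
      have heq : H.map (MulAut.conj x).toMonoidHom = H := by rw [hHa', ← hHa]
      rw [mem_normalizer_iff]
      intro h
      constructor
      · intro hh
        have : (MulAut.conj x).toMonoidHom h ∈ H.map (MulAut.conj x).toMonoidHom :=
          Subgroup.mem_map_of_mem _ hh
        rw [heq] at this
        exact this
      · intro hh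
        have h5 : x * h * x⁻¹ ∈ H.map (MulAut.conj x).toMonoidHom := by rw [heq]; exact hh
        obtain ⟨z, hz, hz'⟩ := Subgroup.mem_map.mp h5
        have : (MulAut.conj x).toMonoidHom z = (MulAut.conj x).toMonoidHom h := hz'
        rwa [← hinj this]
    rw [hMj] at hle
    have h1 := card_iterCommutator K N G hK hNK hGK hGN n hn hne k (by omega)
    have h2 := card_iterCommutator K N G hK hNK hGK hGN n hn hne (k + 1) hj
    have h3 := Subgroup.card_le_of_le hle
    rw [h1, h2] at h3
    have h4 := (Nat.pow_le_pow_iff_right hp.one_lt).mp h3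
    omega

end Cfsg.Agent.PLocal.Uniserial
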