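import Mathlib
import Cfsg.Prelude.Def_PLocal
import Cfsg.Prelude.Def_Local
import Cfsg.Agent.PLocal.ThompsonJ
import Cfsg.Agent.Lib.Cores
import Cfsg.Agent.Lib.PSolvable
import Cfsg.Agent.PLocal.HallHigmanPrime
import Cfsg.Agent.S0601
import Cfsg.Agent.S0606
set_option linter.all false

/-!
Bridge from a `p`-separable group `K` with `O_{p'}(K) = 1`, `V = ⟨Ω₁(Z(S))⟩`, to the hypotheses of
the structure theorem for failure of factorization (statement S0617) for `H = ` image of `J(K)`.
-/

set_option autoImplicit false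

namespace Cfsg.Agent.PLocal.FFBridge

open Subgroup Cfsg

section transport

variable {K Γ : Type*} [Group K] [Group Γ]

/-- The data: `f : K →* Γ` and an injective `j : V →* Γ` with `f k (j v) (f k)⁻¹ = j (k v k⁻¹)`. -/
structure Compat (V : Subgroup K) (f : K →* Γ) (j : V →* Γ) : Prop where
  inj : Function.Injective j
  act : ∀ (k : K) (v w : V), (w : K) = k * v * k⁻¹ → f k * j v * (f k)⁻¹ = j w

variable {V : Subgroup K} {f : K →* Γ} {j : V →* Γ}

theorem Compat.commute_iff (h : Compat V f j) [V.Normal] (k : K) (v : V) :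
    Commute (f k) (j v) ↔ Commute k (v : K) := by
  have hw := h.act k v ⟨k * v * k⁻¹, Normal.conj_mem inferInstance _ v.2 k⟩ rfl
  constructor
  · intro h1
    have h2 : f k * j v * (f k)⁻¹ = j v := by
      rw [h1.eq]; group
    rw [hw] at h2
    have h3 := congrArg Subtype.val (h.inj h2)
    have h4 : k * (v : K) * k⁻¹ = v := h3
    calc k * (v : K) = (k * v * k⁻¹) * k := by group
      _ = v * k := by rw [h4]
  · intro h1
    have h2 : (⟨k * v * k⁻¹, Normal.conj_mem inferInstance _ v.2 k⟩ : V) = v := by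
      apply Subtype.ext
      change k * (v : K) * k⁻¹ = v
      rw [h1.eq]; group
    rw [h2] at hw
    calc f k * j v = (f k * j v * (f k)⁻¹) * f k := by group
      _ = j v * f k := by rw [hw]

/-- `C_{j(V)}(f(A)) = j(C_V(A))`. -/
theorem Compat.inf_centralizer (h : Compat V f j) [V.Normal] (A : Subgroup K) :
    j.range ⊓ centralizer ((A.map f : Subgroup Γ) : Set Γ) =
      ((V ⊓ centralizer (A : Set K)).subgroupOf V).map j := by
  ext x
  constructor
  · rintro ⟨⟨v, rfl⟩, hx⟩
    refine ⟨v, ?_, rfl⟩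
    change v ∈ (V ⊓ centralizer (A : Set K)).subgroupOf V
    rw [Subgroup.mem_subgroupOf]
    refine Subgroup.mem_inf.2 ⟨v.2, ?_⟩
    rw [Subgroup.mem_centralizer_iff]
    intro a ha
    exact (h.commute_iff a v).1 ((Subgroup.mem_centralizer_iff.1 hx) (f a) ⟨a, ha, rfl⟩)
  · rintro ⟨v, hv, rfl⟩
    have hv' : v ∈ (V ⊓ centralizer (A : Set K)).subgroupOf V := hv
    rw [Subgroup.mem_subgroupOf] at hv'
    refine Subgroup.mem_inf.2 ⟨⟨v, rfl⟩, ?_⟩
    rw [Subgroup.mem_centralizer_iff]
    rintro _ ⟨a, ha, rfl⟩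
    exact (h.commute_iff a v).2 ((Subgroup.mem_centralizer_iff.1 (Subgroup.mem_inf.1 hv').2) a ha)

theorem Compat.card_inf_centralizer (h : Compat V f j) [V.Normal] (A : Subgroup K) :
    Nat.card ↥(j.range ⊓ centralizer ((A.map f : Subgroup Γ) : Set Γ)) =
      Nat.card ↥(V ⊓ centralizer (A : Set K)) := by
  rw [h.inf_centralizer A, ThompsonJ.card_map_injective _ h.inj]
  exact Nat.card_congr (Subgroup.subgroupOfEquivOfLe inf_le_left).toEquiv

/-- Images of best offenders are best offenders. -/
theorem Compat.isBestOffenderOn [Finite K] (h : Compat V f j) [V.Normal] {p : ℕ} {A : Subgroup K}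
    (hA : IsBestOffenderOn p V A) : IsBestOffenderOn p j.range (A.map f) := by
  obtain ⟨h1, h2, h3⟩ := hA
  refine ⟨?_, ?_, ?_⟩
  · intro B hB
    -- `B = f(B')` with `B' = A ∩ f⁻¹(B) ≥ A ∩ ker f`
    let B' : Subgroup K := A ⊓ B.comap f
    have hB'A : B' ≤ A := inf_le_left
    have hB' : B'.map f = B := by
      apply le_antisymm
      · rintro _ ⟨b, hb, rfl⟩
        exact hb.2
      · intro b hb
        obtain ⟨a, ha, rfl⟩ := hB hb
        exact ⟨a, ⟨ha, hb⟩, rfl⟩
    have h4 := h1 B' hB'A
    rw [← hB', h.card_inf_centralizer, h.card_inf_centralizer]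
    -- orders: `|A| = |f(A)| |A ∩ ker f|`, `|B'| = |f(B')| |A ∩ ker f|`
    have hcard : ∀ C : Subgroup K, Nat.card C = Nat.card (C.map f) * Nat.card ↥(C ⊓ f.ker) := by
      intro C
      have e1 : (C.map f) = (f.comp C.subtype).range := by
        rw [MonoidHom.range_comp, Subgroup.range_subtype]
      have e2 : Nat.card ↥(C ⊓ f.ker) = Nat.card (f.comp C.subtype).ker := by
        have e3 : (f.comp C.subtype).ker = (C ⊓ f.ker).subgroupOf C := by
          ext x
          simp [MonoidHom.mem_ker, Subgroup.mem_subgroupOf]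
        rw [e3]
        exact (Nat.card_congr (Subgroup.subgroupOfEquivOfLe inf_le_left).toEquiv).symm
      rw [e1, e2, ← Subgroup.index_ker, mul_comm, Subgroup.card_mul_index]
    have hk : B' ⊓ f.ker = A ⊓ f.ker := by
      ext x
      constructor
      · rintro ⟨⟨hx, _⟩, hx'⟩
        exact ⟨hx, hx'⟩
      · rintro ⟨hx, hx'⟩
        refine ⟨⟨hx, ?_⟩, hx'⟩
        change f x ∈ B
        rw [(hx' : f x = 1)]
        exact B.one_mem
    rw [hcard B', hcard A, hk] at h4
    have hpos : 0 < Nat.card ↥(A ⊓ f.ker) := Nat.card_pos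
    have h5 : (Nat.card ↥(A ⊓ f.ker)) *
        (Nat.card ↥(B'.map f) * Nat.card ↥(V ⊓ centralizer (B' : Set K))) ≤
        (Nat.card ↥(A ⊓ f.ker)) *
        (Nat.card ↥(A.map f) * Nat.card ↥(V ⊓ centralizer (A : Set K))) := by
      calc _ = Nat.card ↥(B'.map f) * Nat.card ↥(A ⊓ f.ker) *
            Nat.card ↥(V ⊓ centralizer (B' : Set K)) := by ring
        _ ≤ _ := h4
        _ = _ := by ring
    exact Nat.le_of_mul_le_mul_left h5 hpos
  · rw [← Subgroup.map_commutator]
    rintro _ ⟨x, hx, rfl⟩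
    rw [Subgroup.mem_centralizer_iff]
    rintro _ ⟨v, rfl⟩
    exact ((h.commute_iff x v).2 ((Subgroup.mem_centralizer_iff.1 (h2 hx)) v v.2).symm).symm
  · rintro _ ⟨a, ha, rfl⟩
    rw [← map_pow, Subgroup.mem_centralizer_iff]
    rintro _ ⟨v, rfl⟩
    exact ((h.commute_iff (a ^ p) v).2
      ((Subgroup.mem_centralizer_iff.1 (h3 a ha)) v v.2).symm).symm

end transport

/-- A characteristic subgroup of `H` is normalized by the normalizer of `H`. -/
theorem normalizer_le_normalizer_map {G : Type*} [Group G] (H : Subgroup G) (C : Subgroup H)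
    (hC : C.Characteristic) :
    normalizer (H : Set G) ≤ normalizer ((C.map H.subtype : Subgroup G) : Set G) := by
  intro g hg
  let e : MulAut H := H.normalizerMonoidHom ⟨g, hg⟩
  have h1 : C.map e.toMonoidHom = C := (Subgroup.characteristic_iff_map_eq.1 hC) e
  refine Subgroup.mem_normalizer_iff_map_conj_eq.2 ?_
  have h2 : (MulAut.conj g : G →* G).comp H.subtype = H.subtype.comp e.toMonoidHom := by
    ext x
    rfl
  rw [Subgroup.map_map, h2, ← Subgroup.map_map, h1]

section bridge

variable {K Γ : Type*} [Group K] [Group Γ] [Finite K] {p : ℕ} [Fact p.Prime]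

/-- The bridge, first part: no solvability needed beyond `C_K(O_p(K)) ≤ O_p(K)`. -/
theorem bridge_aux (hc : centralizer (pCore p K : Set K) ≤ pCore p K)
    (V : Subgroup K)
    (hV : V = ⨆ S : Sylow p K, omegaOne p ((S : Subgroup K) ⊓ centralizer ((S : Subgroup K) : Set K)))
    (f : K →* Γ) (j : V →* Γ) (h : Compat V f j)
    (hker : ∀ k ∈ centralizer (V : Set K), f k = 1) :
    V.Normal ∧ f.ker = centralizer (V : Set K) ∧
    IsElementaryAbelian p j.range ∧
    f.range ≤ normalizer (j.range : Set Γ) ∧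
    f.range ⊓ centralizer (j.range : Set Γ) = ⊥ ∧
    (∀ H : Subgroup Γ, H ≤ f.range → f.range ≤ normalizer (H : Set Γ) → pCore p H = ⊥) ∧
    (thompsonSubgroup p K).map f = ⨆ A : {A : Subgroup Γ // A ≤ (thompsonSubgroup p K).map f ∧
      IsBestOffenderOn p j.range A}, (A : Subgroup Γ) := by
  obtain ⟨hVn, hVe, hVO⟩ := S0601.result (p := p) hc
  rw [← hV] at hVn hVe hVO
  have hkereq : f.ker = centralizer (V : Set K) := by
    apply le_antisymm
    · intro k hk
      rw [Subgroup.mem_centralizer_iff]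
      intro v hv
      have h1 : Commute (f k) (j ⟨v, hv⟩) := by
        rw [(hk : f k = 1)]; exact Commute.one_left _
      exact ((h.commute_iff k ⟨v, hv⟩).1 h1).symm
    · exact hker
  refine ⟨hVn, hkereq, ?_, ?_, ?_, ?_, ?_⟩
  · rw [ThompsonJ.isElementaryAbelian_iff] at hVe ⊢
    constructor
    · rintro _ ⟨v, rfl⟩ _ ⟨w, rfl⟩
      rw [← map_mul, ← map_mul]
      congr 1
      exact Subtype.ext (hVe.1 v v.2 w w.2)
    · rintro _ ⟨v, rfl⟩
      rw [← map_pow]
      have : v ^ p = 1 := Subtype.ext (hVe.2 v v.2)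
      rw [this, map_one]
  · rintro _ ⟨k, rfl⟩
    rw [Subgroup.mem_normalizer_iff]
    intro x
    constructor
    · rintro ⟨v, rfl⟩
      exact ⟨⟨k * v * k⁻¹, hVn.conj_mem _ v.2 k⟩, (h.act k v _ rfl).symm⟩
    · rintro ⟨v, hv⟩
      have h1 := h.act k⁻¹ v ⟨k⁻¹ * v * k⁻¹⁻¹, hVn.conj_mem _ v.2 k⁻¹⟩ rfl
      refine ⟨_, h1.symm.trans ?_⟩
      rw [hv, map_inv]; group
  · rw [eq_bot_iff]
    rintro _ ⟨⟨k, rfl⟩, hk⟩
    have : k ∈ centralizer (V : Set K) := by
      rw [Subgroup.mem_centralizer_iff]
      intro v hv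
      exact ((h.commute_iff k ⟨v, hv⟩).1
        ((Subgroup.mem_centralizer_iff.1 hk) (j ⟨v, hv⟩) ⟨⟨v, hv⟩, rfl⟩).symm).symm
    rw [hker k this]
    exact Subgroup.one_mem _
  · intro H hH hn
    have : Finite H := by
      have : Finite f.range := Finite.of_surjective f.rangeRestrict f.rangeRestrict_surjective
      exact Finite.of_injective (Subgroup.inclusion hH) (Subgroup.inclusion_injective hH)
    set P : Subgroup Γ := (pCore p H).map H.subtype with hP
    have hPn : f.range ≤ normalizer (P : Set Γ) :=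
      hn.trans (normalizer_le_normalizer_map H _ (Lib.Cores.pCore_characteristic p))
    have hPH : P ≤ H := Subgroup.map_subtype_le _
    have hPmap : (P.comap f).map f = P := by
      rw [Subgroup.map_comap_eq, inf_eq_right]
      exact hPH.trans hH
    have hD : (P.comap f).Normal := by
      refine ⟨fun n hn' g => ?_⟩
      change f (g * n * g⁻¹) ∈ P
      rw [map_mul, map_mul, map_inv]
      exact (Subgroup.mem_normalizer_iff.1 (hPn ⟨g, rfl⟩) (f n)).1 hn'
    have hCD : centralizer (V : Set K) ≤ P.comap f := by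
      intro k hk
      change f k ∈ P
      rw [hker k hk]; exact P.one_mem
    have hcard : (centralizer (V : Set K)).relIndex (P.comap f) = Nat.card P := by
      rw [← hkereq, Subgroup.relIndex_ker, hPmap]
    have hPp : IsPGroup p P := (Lib.Cores.pCore_isPGroup (G := H) p).map _
    have hPfin : Finite P := Finite.of_injective (Subgroup.inclusion hPH)
      (Subgroup.inclusion_injective hPH)
    obtain ⟨k, hk⟩ := IsPGroup.iff_card.1 hPp
    have hDeq := hVO _ hD hCD ⟨k, hcard.trans hk⟩
    have hPbot : P = ⊥ := by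
      rw [← hPmap, hDeq, ← hkereq]
      rw [Subgroup.map_eq_bot_iff]
    rw [hP, Subgroup.map_eq_bot_iff_of_injective _ H.subtype_injective] at hPbot
    exact hPbot
  · apply le_antisymm
    · rw [ThompsonJ.thompsonSubgroup_def, sSup_eq_iSup', Subgroup.map_iSup]
      refine iSup_le ?_
      rintro ⟨A, hA⟩
      have h1 : IsBestOffenderOn p j.range (A.map f) :=
        h.isBestOffenderOn (S0606.result V hVe A hA)
      refine le_iSup_of_le ⟨A.map f, ?_, h1⟩ le_rfl
      exact le_iSup (fun i : maxElementaryAbelianSubgroups p K => (i : Subgroup K).map f) ⟨A, hA⟩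
    · exact iSup_le fun A => A.2.1

/-- The bridge: all hypotheses of the structure theorem S0617 (except `H ≠ ⊥`) for
`H = f(J(K))` acting on `j(V)`, when `K` is `p`-separable with `O_{p'}(K) = 1`. -/
theorem bridge (hsep : IsPSolvable p K) (hO : pPrimeCore p K = ⊥) (V : Subgroup K)
    (hV : V = ⨆ S : Sylow p K, omegaOne p ((S : Subgroup K) ⊓ centralizer ((S : Subgroup K) : Set K)))
    (f : K →* Γ) (j : V →* Γ) (h : Compat V f j)
    (hker : ∀ k ∈ centralizer (V : Set K), f k = 1) :
    IsElementaryAbelian p j.range ∧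
    (thompsonSubgroup p K).map f ≤ normalizer (j.range : Set Γ) ∧
    (thompsonSubgroup p K).map f ⊓ centralizer (j.range : Set Γ) = ⊥ ∧
    centralizer (pPrimeCore p ↥((thompsonSubgroup p K).map f) :
        Set ↥((thompsonSubgroup p K).map f)) ≤ pPrimeCore p ↥((thompsonSubgroup p K).map f) ∧
    (thompsonSubgroup p K).map f = ⨆ A : {A : Subgroup Γ // A ≤ (thompsonSubgroup p K).map f ∧
      IsBestOffenderOn p j.range A}, (A : Subgroup Γ) := by
  obtain ⟨-, -, h3, h4, h5, h6, h7⟩ :=
    bridge_aux (Lib.PSolvable.centralizer_pCore_le_of_pSolvable p hsep hO) V hV f j h hker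
  have hle : (thompsonSubgroup p K).map f ≤ f.range := Subgroup.map_le_range f _
  refine ⟨h3, hle.trans h4, ?_, ?_, h7⟩
  · rw [eq_bot_iff, ← h5]
    exact inf_le_inf_right _ hle
  · have hJn : (thompsonSubgroup p K).Normal := ThompsonJ.thompsonSubgroup_normal p K
    have hcore : pCore p ↥((thompsonSubgroup p K).map f) = ⊥ := by
      apply h6 _ hle
      rintro _ ⟨k, rfl⟩
      rw [Subgroup.mem_normalizer_iff_map_conj_eq]
      have e1 : (MulAut.conj (f k) : Γ →* Γ).comp f = f.comp (MulAut.conj k : K →* K) := by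
        ext x
        simp
      rw [Subgroup.map_map, e1, ← Subgroup.map_map]
      congr 1
      exact Subgroup.mem_normalizer_iff_map_conj_eq.1
        ((Subgroup.normalizer_eq_top_iff.2 hJn) ▸ Subgroup.mem_top k)
    have hfin : Finite ↥((thompsonSubgroup p K).map f) :=
      Finite.of_surjective (f.subgroupMap (thompsonSubgroup p K))
        (f.subgroupMap_surjective (thompsonSubgroup p K))
    have hps : IsPSolvable p ↥((thompsonSubgroup p K).map f) :=
      Lib.PSolvable.IsPSolvable_of_surjective p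
        (Lib.PSolvable.IsPSolvable_of_injective p hsep (thompsonSubgroup p K).subtype
          (thompsonSubgroup p K).subtype_injective)
        (f.subgroupMap (thompsonSubgroup p K))
        (f.subgroupMap_surjective (thompsonSubgroup p K))
    exact HallHigmanPrime.centralizer_pPrimeCore_le_of_pSolvable p hps hcore

end bridge

section data

universe u

/-- The standard data: for `V` a subgroup of `G`, the semidirect product `V ⋊ Aut V` receives
`N_G(V)` (through `Aut V`) and `V`. -/
theorem exists_ambient {G : Type u} [Group G] [Finite G] (V : Subgroup G) :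
    ∃ (Γ : Type u) (_ : Group Γ) (_ : Finite Γ) (ρ : ↥(normalizer (V : Set G)) →* Γ)
      (i : V →* Γ), Function.Injective i ∧
      (∀ (n : ↥(normalizer (V : Set G))) (v w : V), (w : G) = n * v * (n : G)⁻¹ →
        ρ n * i v * (ρ n)⁻¹ = i w) ∧
      (∀ n : ↥(normalizer (V : Set G)), ρ n = 1 ↔ (n : G) ∈ centralizer (V : Set G)) ∧
      ρ.range ⊓ i.range = ⊥ := by
  let φ := MonoidHom.id (MulAut V)
  refine ⟨V ⋊[φ] MulAut V, inferInstance,
    Finite.of_equiv _ SemidirectProduct.equivProd.symm,
    SemidirectProduct.inr.comp V.normalizerMonoidHom, SemidirectProduct.inl,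
    SemidirectProduct.inl_injective, ?_, ?_, ?_⟩
  · intro n v w hw
    have h1 := SemidirectProduct.inl_aut (φ := φ) (V.normalizerMonoidHom n) v
    have h2 : φ (V.normalizerMonoidHom n) v = w := by
      apply Subtype.ext
      rw [hw]
      rfl
    rw [h2, map_inv] at h1
    exact h1.symm
  · intro n
    have h1 : V.normalizerMonoidHom n = 1 ↔ n ∈ V.normalizerMonoidHom.ker := Iff.rfl
    rw [Subgroup.normalizerMonoidHom_ker, Subgroup.mem_subgroupOf] at h1
    rw [← h1]
    constructor
    · intro h2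
      exact SemidirectProduct.inr_injective (h2.trans (map_one _).symm)
    · intro h2
      rw [MonoidHom.comp_apply, h2, map_one]
  · rw [eq_bot_iff]
    rintro _ ⟨⟨n, rfl⟩, ⟨v, hv⟩⟩
    have h1 := congrArg SemidirectProduct.right hv
    simp only [SemidirectProduct.right_inl] at h1
    have h2 : V.normalizerMonoidHom n = 1 := by
      have := h1.symm
      simpa using this
    rw [MonoidHom.comp_apply, h2, map_one]
    exact Subgroup.one_mem _

/-- The standard data for a normal subgroup `V` of a finite group `K`. -/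
theorem exists_data {K : Type u} [Group K] [Finite K] (V : Subgroup K) (hVn : V.Normal) :
    ∃ (Γ : Type u) (_ : Group Γ) (_ : Finite Γ) (f : K →* Γ) (j : V →* Γ), Compat V f j ∧
      (∀ k : K, f k = 1 ↔ k ∈ centralizer (V : Set K)) ∧ f.range ⊓ j.range = ⊥ := by
  obtain ⟨Γ, hΓ, hfin, ρ, i, hi, hact, hker, hinf⟩ := exists_ambient V
  have hN : ∀ k : K, k ∈ normalizer (V : Set K) := fun k =>
    (Subgroup.normalizer_eq_top_iff.2 hVn) ▸ Subgroup.mem_top k
  refine ⟨Γ, hΓ, hfin, ρ.comp ((MonoidHom.id K).codRestrict (normalizer (V : Set K)) hN), i,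
    ⟨hi, ?_⟩, ?_, ?_⟩
  · intro k v w hw
    exact hact ⟨k, hN k⟩ v w hw
  · intro k
    exact hker ⟨k, hN k⟩
  · rw [eq_bot_iff, ← hinf]
    refine inf_le_inf_right _ ?_
    rintro _ ⟨k, rfl⟩
    exact ⟨_, rfl⟩

end data

end Cfsg.Agent.PLocal.FFBridge
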