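import Mathlib
import Cfsg.Agent.PLocal.SL2Gen
set_option linter.all false

/-!
`SL(2, p)` is perfect for a prime `p > 3`.
-/

set_option autoImplicit false

namespace Cfsg.Agent.PLocal.SL2Perfect

open Cfsg.Agent.PLocal.SL2Gen
open scoped commutatorElement

variable {F : Type*} [Field F]

theorem dg_mul_lo (u : Fˣ) (t : F) :
    dg u * lo t * (dg u)⁻¹ = lo (((u⁻¹ : Fˣ) : F) ^ 2 * t) := by
  rw [mul_inv_eq_iff_eq_mul]
  apply Subtype.ext
  rw [Matrix.SpecialLinearGroup.coe_mul, Matrix.SpecialLinearGroup.coe_mul, lo_coe, lo_coe, dg_coe]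
  ext i j
  fin_cases i <;> fin_cases j <;> simp [Matrix.mul_apply, Fin.sum_univ_two]
  · field_simp

theorem commutatorElement_dg_lo (u : Fˣ) (t : F) :
    ⁅dg u, lo t⁆ = lo ((((u⁻¹ : Fˣ) : F) ^ 2 - 1) * t) := by
  have h : lo ((((u⁻¹ : Fˣ) : F) ^ 2 - 1) * t) * lo t = lo (((u⁻¹ : Fˣ) : F) ^ 2 * t) := by
    rw [← lo_add]; congr 1; ring
  rw [commutatorElement_def, dg_mul_lo, ← h, mul_inv_cancel_right]

theorem lo_mem_commutator (u : Fˣ) (hu : (u : F) ^ 2 ≠ 1) (t : F) :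
    lo t ∈ commutator (Matrix.SpecialLinearGroup (Fin 2) F) := by
  have hu' : ((u⁻¹⁻¹ : Fˣ) : F) ^ 2 ≠ 1 := by rwa [inv_inv]
  have h : lo t = ⁅dg u⁻¹, lo (t / (((u⁻¹⁻¹ : Fˣ) : F) ^ 2 - 1))⁆ := by
    rw [commutatorElement_dg_lo]
    congr 1
    rw [mul_div_cancel₀]
    exact sub_ne_zero.mpr hu'
  rw [h]
  exact Subgroup.commutator_mem_commutator (Subgroup.mem_top _) (Subgroup.mem_top _)

/-- `SL(2, p)` is perfect for a prime `p > 3`. -/
theorem commutator_eq_top {p : ℕ} [Fact p.Prime] (h2 : p ≠ 2) (h3 : p ≠ 3) :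
    commutator (Matrix.SpecialLinearGroup (Fin 2) (ZMod p)) = ⊤ := by
  obtain ⟨u, hu⟩ := exists_unit_sq_ne_one (p := p) h2 h3
  exact eq_top_of_forall _ (fun t => up_mem_commutator u hu t) (fun t => lo_mem_commutator u hu t)

end Cfsg.Agent.PLocal.SL2Perfect
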