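import Mathlib
import Cfsg.Agent.Lib.Cores
set_option linter.all false

/-!
`O_p` of a subnormal subgroup is contained in `O_p` of the whole group; a subnormal `p`-subgroup
is contained in `O_p`.
-/

set_option autoImplicit false

namespace Cfsg.Agent.PLocal.SubnormalCore

open Cfsg Cfsg.Agent.Lib.Cores

variable {G : Type*} [Group G]

/-- `O_p` of a subnormal subgroup is contained in `O_p` of the group. -/
theorem map_subtype_pCore_le {p : ℕ} {S : Subgroup G} (hS : S.IsSubnormal) :
    (pCore p S).map S.subtype ≤ pCore p G := by
  induction hS with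
  | top =>
    apply le_pCore
    · exact (pCore_normal p).map _ (fun x => ⟨⟨x, Subgroup.mem_top x⟩, rfl⟩)
    · exact (pCore_isPGroup p).map _
  | step S K hle _ hN ih =>
    refine le_trans ?_ ih
    have h1 := map_subtype_pCore (G := K) p hN
    have h2 := map_equiv_pCore (Subgroup.subgroupOfEquivOfLe hle) p
    have h3 : (pCore p S).map S.subtype =
        ((pCore p (S.subgroupOf K)).map (S.subgroupOf K).subtype).map K.subtype := by
      rw [← h2, Subgroup.map_map, Subgroup.map_map]
      rfl
    rw [h3, h1]
    exact Subgroup.map_mono inf_le_right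

/-- A subnormal `p`-subgroup is contained in `O_p`. -/
theorem le_pCore_of_isSubnormal {p : ℕ} {S : Subgroup G} (hS : S.IsSubnormal)
    (hp : IsPGroup p S) : S ≤ pCore p G := by
  have h := map_subtype_pCore_le (p := p) hS
  rw [(pCore_eq_top_iff p).mpr hp] at h
  rwa [← MonoidHom.range_eq_map, Subgroup.range_subtype] at h

/-- A `p`-subgroup which is normal in a subnormal subgroup is contained in `O_p`. -/
theorem le_pCore_of_normal_subnormal {p : ℕ} {D K : Subgroup G} (hDK : D ≤ K)
    (hD : (D.subgroupOf K).Normal) (hK : K.IsSubnormal)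
    (hp : IsPGroup p D) : D ≤ pCore p G :=
  le_pCore_of_isSubnormal (Subgroup.IsSubnormal.step _ _ hDK hK hD) hp

end Cfsg.Agent.PLocal.SubnormalCore
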