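import Mathlib
import Cfsg.Prelude.Def_Transfer
import Cfsg.Prelude.Def_Local
import Cfsg.Prelude.Def_PLocal
import Cfsg.Agent.Lib.Cores
set_option linter.all false

/-!
Reduction of `p`-stability questions to chief factors: if `P` is a normal `p`-subgroup of the finite group `G` and
`x ∈ G` has image outside `O_p(G/C_G(P))`, then some chief factor `A/B` of `G` with `A ≤ P` is not centralized
by `x`; and a minimal normal `p`-subgroup `V` is elementary abelian with `O_p(G/C_G(V)) = 1`.
-/

set_option autoImplicit false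
open Cfsg

namespace Cfsg.Agent.PLocal.ChiefReduction

open scoped commutatorElement

variable {G : Type*} [Group G]

theorem mem_sectionKernel_iff {A B : Subgroup G} [B.Normal] {g : G} :
    g ∈ sectionKernel A B ↔ ∀ a ∈ A, ⁅a, g⁆ ∈ B := by
  show g ∈ Subgroup.comap _ _ ↔ _
  rw [Subgroup.mem_comap, Subgroup.mem_centralizer_iff]
  constructor
  · intro h a ha
    have h1 := h (QuotientGroup.mk' B a) ⟨a, ha, rfl⟩
    rw [← QuotientGroup.eq_one_iff]
    have h2 : (QuotientGroup.mk' B) ⁅a, g⁆ = 1 := by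
      rw [map_commutatorElement, commutatorElement_eq_one_iff_mul_comm]
      exact h1
    exact h2
  · rintro h _ ⟨a, ha, rfl⟩
    have h1 : (QuotientGroup.mk' B) ⁅a, g⁆ = 1 := (QuotientGroup.eq_one_iff _).mpr (h a ha)
    rw [map_commutatorElement, commutatorElement_eq_one_iff_mul_comm] at h1
    exact h1

instance sectionKernel_normal (A B : Subgroup G) [A.Normal] [B.Normal] :
    (sectionKernel A B).Normal := by
  have h1 : (A.map (QuotientGroup.mk' B)).Normal :=
    Subgroup.Normal.map inferInstance _ (QuotientGroup.mk'_surjective B)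
  exact Subgroup.Normal.comap Subgroup.normal_centralizer _

/-- One step of the stability group argument. -/
theorem exists_pow_mem_centralizer_step [Finite G] {p : ℕ} [Fact p.Prime] {A B : Subgroup G}
    (hBA : B ≤ A) (hA : IsPGroup p A) {h : G} (h1 : h ∈ Subgroup.centralizer (B : Set G))
    (h2 : ∀ a ∈ A, ⁅a, h⁆ ∈ B) : ∃ k : ℕ, h ^ p ^ k ∈ Subgroup.centralizer (A : Set G) := by
  obtain ⟨k, hk⟩ := IsPGroup.iff_card.mp hA
  refine ⟨k, ?_⟩
  rw [Subgroup.mem_centralizer_iff]
  intro a ha
  have hc := h2 a ha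
  have hcom : Commute ⁅a, h⁆ h := Subgroup.mem_centralizer_iff.mp h1 _ hc
  have h3 : a * h * a⁻¹ = ⁅a, h⁆ * h := by
    rw [commutatorElement_def]; group
  have h4 : ⁅a, h⁆ ^ p ^ k = 1 := by
    have := pow_card_eq_one' (G := A) (x := ⟨_, hBA hc⟩)
    rw [hk] at this
    simpa using congrArg Subtype.val this
  have h5 : a * h ^ p ^ k * a⁻¹ = h ^ p ^ k := by
    rw [← conj_pow, h3, hcom.mul_pow, h4, one_mul]
  rw [mul_inv_eq_iff_eq_mul] at h5
  exact h5

/-- If `g` centralizes every chief factor of `G` below the normal `p`-subgroup `P`, then some `g ^ p ^ k` centralizes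
`P`. -/
theorem exists_pow_mem_centralizer [Finite G] {p : ℕ} [Fact p.Prime] {P : Subgroup G}
    (hP : IsPGroup p P) {g : G}
    (hg : ∀ (A B : Subgroup G) [A.Normal] [B.Normal], B < A → A ≤ P →
      (∀ N : Subgroup G, N.Normal → B ≤ N → N ≤ A → N = B ∨ N = A) → g ∈ sectionKernel A B)
    (n : ℕ) : ∀ A : Subgroup G, A.Normal → A ≤ P → Nat.card A ≤ n →
      ∃ k : ℕ, g ^ p ^ k ∈ Subgroup.centralizer (A : Set G) := by
  induction n with
  | zero =>
    intro A _ _ hn
    exact absurd hn (by have := Nat.card_pos (α := A); omega)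
  | succ n ih =>
    intro A hAn hAP hn
    by_cases hA1 : A = ⊥
    · refine ⟨0, ?_⟩
      rw [Subgroup.mem_centralizer_iff]
      intro a ha
      rw [hA1, SetLike.mem_coe, Subgroup.mem_bot] at ha
      rw [ha, one_mul, mul_one]
    · obtain ⟨B, ⟨hBn, hBA⟩, hBmax⟩ := Set.exists_max_image
        {B : Subgroup G | B.Normal ∧ B < A} (fun B => Nat.card B) (Set.toFinite _)
        ⟨⊥, inferInstance, bot_lt_iff_ne_bot.mpr hA1⟩
      have hcard : Nat.card B < Nat.card A := by
        by_contra hcon
        exact hBA.ne (Subgroup.eq_of_le_of_card_ge hBA.le (not_lt.mp hcon))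
      have hchief : ∀ N : Subgroup G, N.Normal → B ≤ N → N ≤ A → N = B ∨ N = A := by
        intro N hN hBN hNA
        by_cases hNA' : N = A
        · exact Or.inr hNA'
        · left
          have := hBmax N ⟨hN, lt_of_le_of_ne hNA hNA'⟩
          exact (Subgroup.eq_of_le_of_card_ge hBN this).symm
      obtain ⟨k, hk⟩ := ih B hBn (hBA.le.trans hAP) (by omega)
      have hgk : g ^ p ^ k ∈ sectionKernel A B := pow_mem (hg A B hBA hAP hchief) _
      obtain ⟨l, hl⟩ := exists_pow_mem_centralizer_step hBA.le (hP.to_le hAP) hk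
        (mem_sectionKernel_iff.mp hgk)
      refine ⟨k + l, ?_⟩
      rwa [pow_add, pow_mul]

/-- If the image of `x` is not in `O_p(G/C_G(P))`, `P` a normal `p`-subgroup, then `x` does not centralize some chief
factor of `G` below `P`. -/
theorem exists_chief_of_notMem_pCore [Finite G] {p : ℕ} [Fact p.Prime] (P : Subgroup G)
    [P.Normal] (hP : IsPGroup p P) (x : G)
    (hx : (QuotientGroup.mk x : G ⧸ Subgroup.centralizer (P : Set G)) ∉
      pCore p (G ⧸ Subgroup.centralizer (P : Set G))) :
    ∃ (A B : Subgroup G) (_ : A.Normal) (_ : B.Normal), B < A ∧ A ≤ P ∧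
      (∀ N : Subgroup G, N.Normal → B ≤ N → N ≤ A → N = B ∨ N = A) ∧
      x ∉ sectionKernel A B := by
  by_contra hcon
  push Not at hcon
  -- the intersection of the kernels on the chief factors
  let T : Type _ := {q : Subgroup G × Subgroup G // q.1.Normal ∧ q.2.Normal ∧ q.2 < q.1 ∧
    q.1 ≤ P ∧ ∀ N : Subgroup G, N.Normal → q.2 ≤ N → N ≤ q.1 → N = q.2 ∨ N = q.1}
  let K : Subgroup G := ⨅ q : T, @sectionKernel G _ q.1.1 q.1.2 q.2.2.1
  have hKn : K.Normal := by
    apply Subgroup.normal_iInf_normal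
    intro q
    have := q.2.1
    have := q.2.2.1
    exact sectionKernel_normal _ _
  have hxK : x ∈ K := by
    rw [Subgroup.mem_iInf]
    rintro ⟨⟨A, B⟩, hA, hB, hBA, hAP, hN⟩
    exact hcon A B hA hB hBA hAP hN
  have hKpow : ∀ g ∈ K, ∃ k : ℕ, g ^ p ^ k ∈ Subgroup.centralizer (P : Set G) := by
    intro g hgK
    refine exists_pow_mem_centralizer hP (g := g) ?_ (Nat.card P) P inferInstance le_rfl le_rfl
    intro A B hA hB hBA hAP hN
    exact (Subgroup.mem_iInf.mp hgK) ⟨(A, B), hA, hB, hBA, hAP, hN⟩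
  have hle : K.map (QuotientGroup.mk' (Subgroup.centralizer (P : Set G))) ≤
      pCore p (G ⧸ Subgroup.centralizer (P : Set G)) := by
    refine Cfsg.Agent.Lib.Cores.le_pCore
      (hKn.map _ (QuotientGroup.mk'_surjective _)) ?_
    rintro ⟨_, g, hgK, rfl⟩
    obtain ⟨k, hk⟩ := hKpow g hgK
    refine ⟨k, Subtype.ext ?_⟩
    rw [Subgroup.coe_pow, Subgroup.coe_one]
    rw [← map_pow]
    exact (QuotientGroup.eq_one_iff _).mpr hk
  exact hx (hle ⟨x, hxK, rfl⟩)

/-- A minimal normal subgroup which is a `p`-group is elementary abelian. -/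
theorem isElementaryAbelian_of_minimal [Finite G] {p : ℕ} [Fact p.Prime] {V : Subgroup G}
    (hVn : V.Normal) (hV : IsPGroup p V)
    (hmin : ∀ N : Subgroup G, N.Normal → N ≤ V → N = ⊥ ∨ N = V) :
    IsElementaryAbelian p V := by
  by_cases hV1 : V = ⊥
  · subst hV1
    refine ⟨⟨⟨fun a b => Subsingleton.elim _ _⟩⟩, ?_⟩
    intro a ha
    rw [Subgroup.mem_bot] at ha
    rw [ha, one_pow]
  have hnt : Nontrivial V := (Subgroup.nontrivial_iff_ne_bot V).mpr hV1
  have hcomm : ⁅V, V⁆ = ⊥ := by
    rcases hmin ⁅V, V⁆ inferInstance (Subgroup.commutator_le_left V V) with h | h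
    · exact h
    · exfalso
      have hnil : Group.IsNilpotent V := hV.isNilpotent
      have hsol : Group.IsSolvable V := inferInstance
      have h1 := Group.IsSolvable.commutator_lt_top_of_nontrivial V
      have h2 : (commutator V).map V.subtype = ⁅V, V⁆ := by
        rw [commutator_def, Subgroup.map_commutator, ← MonoidHom.range_eq_map,
          Subgroup.range_subtype]
      rw [h] at h2
      apply h1.ne
      apply Subgroup.map_injective V.subtype_injective
      rw [h2, ← MonoidHom.range_eq_map, Subgroup.range_subtype]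
  have hab : ∀ a ∈ V, ∀ b ∈ V, a * b = b * a := by
    intro a ha b hb
    have : ⁅a, b⁆ ∈ (⊥ : Subgroup G) := hcomm ▸ Subgroup.commutator_mem_commutator ha hb
    rw [Subgroup.mem_bot, commutatorElement_eq_one_iff_mul_comm] at this
    exact this
  let N : Subgroup G :=
    { carrier := {v | v ∈ V ∧ v ^ p = 1}
      one_mem' := ⟨V.one_mem, one_pow _⟩
      mul_mem' := by
        rintro a b ⟨ha, ha'⟩ ⟨hb, hb'⟩
        refine ⟨V.mul_mem ha hb, ?_⟩
        have hcom : Commute a b := hab a ha b hb
        rw [hcom.mul_pow, ha', hb', one_mul]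
      inv_mem' := by
        rintro a ⟨ha, ha'⟩
        refine ⟨V.inv_mem ha, ?_⟩
        rw [inv_pow, ha', inv_one] }
  have hNn : N.Normal := by
    refine ⟨?_⟩
    rintro a ⟨ha, ha'⟩ g
    refine ⟨hVn.conj_mem a ha g, ?_⟩
    rw [conj_pow, ha', mul_one, mul_inv_cancel]
  have hNV : N ≤ V := fun a ha => ha.1
  have hN1 : N ≠ ⊥ := by
    intro h
    obtain ⟨n, hn0, hn⟩ := (IsPGroup.nontrivial_iff_card hV).mp hnt
    have hdvd : p ∣ Nat.card V := by rw [hn]; exact dvd_pow_self p hn0.ne'
    obtain ⟨v, hv⟩ := exists_prime_orderOf_dvd_card' p hdvd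
    have h1 : (v : G) ∈ N := by
      refine ⟨v.2, ?_⟩
      have := pow_orderOf_eq_one v
      rw [hv] at this
      simpa using congrArg Subtype.val this
    rw [h, Subgroup.mem_bot] at h1
    have h2 : v = 1 := Subtype.ext h1
    rw [h2, orderOf_one] at hv
    exact (Fact.out : p.Prime).one_lt.ne hv
  have hNV' : N = V := (hmin N hNn hNV).resolve_left hN1
  refine ⟨⟨⟨fun a b => Subtype.ext (hab a a.2 b b.2)⟩⟩, ?_⟩
  intro a ha
  rw [← hNV'] at ha
  exact ha.2

/-- For a minimal normal `p`-subgroup `V` (or any normal `p`-subgroup minimal normal), a subgroup `R` normal in `G` with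
`R C_G(V)/C_G(V)` a `p`-group centralizes `V`. -/
theorem le_centralizer_of_minimal [Finite G] {p : ℕ} [Fact p.Prime] {V : Subgroup G}
    (hVn : V.Normal) (hV : IsPGroup p V)
    (hmin : ∀ N : Subgroup G, N.Normal → N ≤ V → N = ⊥ ∨ N = V)
    {R : Subgroup G} (hRn : R.Normal)
    (hR : ∀ g ∈ R, ∃ k : ℕ, g ^ p ^ k ∈ Subgroup.centralizer (V : Set G)) :
    R ≤ Subgroup.centralizer (V : Set G) := by
  by_cases hV1 : V = ⊥
  · intro g _
    rw [Subgroup.mem_centralizer_iff]
    intro v hv
    rw [hV1, SetLike.mem_coe, Subgroup.mem_bot] at hv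
    rw [hv, one_mul, mul_one]
  -- the fixed points of `R` on `V`
  let F : Subgroup G := V ⊓ Subgroup.centralizer (R : Set G)
  have hFn : F.Normal := by
    have : (Subgroup.centralizer (R : Set G)).Normal := Subgroup.normal_centralizer
    exact Subgroup.normal_inf_normal V _
  -- fixed points exist
  have hF1 : F ≠ ⊥ := by
    let φ : G →* MulAut V := MulAut.conjNormal
    let Q : Subgroup (MulAut V) := R.map φ
    have hQ : IsPGroup p Q := by
      rintro ⟨_, g, hg, rfl⟩
      obtain ⟨k, hk⟩ := hR g hg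
      refine ⟨k, Subtype.ext ?_⟩
      rw [Subgroup.coe_pow, Subgroup.coe_one, ← map_pow]
      ext v
      have := Subgroup.mem_centralizer_iff.mp hk v v.2
      show ((MulAut.conjNormal (g ^ p ^ k) v : V) : G) = v
      rw [MulAut.conjNormal_apply, ← this, mul_inv_cancel_right]
    have hcV : p ∣ Nat.card V := by
      have hnt : Nontrivial V := (Subgroup.nontrivial_iff_ne_bot V).mpr hV1
      obtain ⟨n, hn0, hn⟩ := (IsPGroup.nontrivial_iff_card hV).mp hnt
      rw [hn]; exact dvd_pow_self p hn0.ne'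
    have hone : (1 : V) ∈ MulAction.fixedPoints Q V := by
      intro q
      exact map_one (q : MulAut V)
    obtain ⟨v, hv, hv1⟩ := hQ.exists_fixed_point_of_prime_dvd_card_of_fixed_point V hcV hone
    intro hbot
    have hvF : (v : G) ∈ F := by
      refine ⟨v.2, ?_⟩
      refine Subgroup.mem_centralizer_iff.mpr ?_
      intro g hg
      have h1 := hv ⟨φ g, g, hg, rfl⟩
      have h2 : ((MulAut.conjNormal g v : V) : G) = v := congrArg Subtype.val h1
      rw [MulAut.conjNormal_apply, mul_inv_eq_iff_eq_mul] at h2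
      exact h2
    rw [hbot, Subgroup.mem_bot] at hvF
    exact hv1 (Subtype.ext hvF).symm
  have hFV : F = V := (hmin F hFn inf_le_left).resolve_left hF1
  rw [Subgroup.le_centralizer_iff]
  rw [← hFV]
  exact inf_le_right

end Cfsg.Agent.PLocal.ChiefReduction
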