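import Mathlib
import Cfsg.Prelude.Def_Transfer
import Cfsg.Prelude.Def_Local
import Cfsg.Prelude.Def_PLocal
import Cfsg.Agent.Lib.Cores
import Cfsg.Agent.PLocal.ChiefReduction
import Cfsg.Agent.PLocal.ActionStable
import Cfsg.Agent.S0656
set_option linter.all false

/-!
For odd `p`, a finite group without section `SL(2, p)` acts `p`-stably on each of its normal `p`-subgroups.
-/

set_option autoImplicit false
open Cfsg

namespace Cfsg.Agent.PLocal.StableOfNotInvolves

open scoped commutatorElement

universe u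

/-- `S` is a homomorphic image of a subgroup of `G`. -/
def Inv (G : Type*) [Group G] (S : Type*) [Group S] : Prop :=
  ∃ (K : Subgroup G) (f : K →* S), Function.Surjective f

theorem Inv.of_surjective {G H S : Type*} [Group G] [Group H] [Group S] (f : G →* H)
    (hf : Function.Surjective f) (h : Inv H S) : Inv G S := by
  obtain ⟨K, g, hg⟩ := h
  refine ⟨K.comap f, g.comp (f.subgroupComap K), hg.comp ?_⟩
  rintro ⟨k, hk⟩
  obtain ⟨x, rfl⟩ := hf k
  exact ⟨⟨x, hk⟩, rfl⟩

theorem Inv.of_mulEquiv {G H S : Type*} [Group G] [Group H] [Group S] (e : G ≃* H)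
    (h : Inv H S) : Inv G S := h.of_surjective e.toMonoidHom e.surjective

/-- From a section (in the quotient form) inside `H ≤ G` to a surjection. -/
theorem Inv.of_section {G S : Type*} [Group G] [Group S] {H K L : Subgroup G}
    (hL : (L.subgroupOf K).Normal) (hKH : K ≤ H) (e : Nonempty ((K ⧸ L.subgroupOf K) ≃* S)) :
    Inv H S := by
  obtain ⟨e⟩ := e
  refine ⟨K.subgroupOf H, (e.toMonoidHom.comp (QuotientGroup.mk' (L.subgroupOf K))).comp
    (Subgroup.subgroupOfEquivOfLe hKH).toMonoidHom, ?_⟩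
  exact (e.surjective.comp (QuotientGroup.mk'_surjective _)).comp
    (Subgroup.subgroupOfEquivOfLe hKH).surjective

/-- From a surjection to a section in the quotient form. -/
theorem Inv.exists_section {G S : Type*} [Group G] [Group S] (h : Inv G S) :
    ∃ (K L : Subgroup G) (_ : (L.subgroupOf K).Normal), K ≤ ⊤ ∧
      Nonempty ((K ⧸ L.subgroupOf K) ≃* S) := by
  obtain ⟨K, f, hf⟩ := h
  have h : (f.ker.map K.subtype).subgroupOf K = f.ker :=
    Subgroup.comap_map_eq_self_of_injective K.subtype_injective _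
  have hn : ((f.ker.map K.subtype).subgroupOf K).Normal := by
    rw [h]; infer_instance
  refine ⟨K, f.ker.map K.subtype, hn, le_top, ⟨?_⟩⟩
  exact (QuotientGroup.quotientMulEquivOfEq h).trans
    (QuotientGroup.quotientKerEquivOfSurjective f hf)

theorem exists_pow_mem_centralizer_of_commute {G : Type*} [Group G] [Finite G] {p : ℕ}
    [Fact p.Prime] {A : Subgroup G} (hA : IsPGroup p A) {h : G}
    (h2 : ∀ a ∈ A, ⁅a, h⁆ ∈ A ∧ Commute ⁅a, h⁆ h) :
    ∃ k : ℕ, h ^ p ^ k ∈ Subgroup.centralizer (A : Set G) := by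
  obtain ⟨k, hk⟩ := IsPGroup.iff_card.mp hA
  refine ⟨k, ?_⟩
  rw [Subgroup.mem_centralizer_iff]
  intro a ha
  obtain ⟨hc, hcom⟩ := h2 a ha
  have h3 : a * h * a⁻¹ = ⁅a, h⁆ * h := by
    rw [commutatorElement_def]; group
  have h4 : ⁅a, h⁆ ^ p ^ k = 1 := by
    have := pow_card_eq_one' (G := A) (x := ⟨_, hc⟩)
    rw [hk] at this
    simpa using congrArg Subtype.val this
  have h5 : a * h ^ p ^ k * a⁻¹ = h ^ p ^ k := by
    rw [← conj_pow, h3, hcom.mul_pow, h4, one_mul]
  rw [mul_inv_eq_iff_eq_mul] at h5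
  exact h5

/-- **For odd `p`, a finite group with no section `SL(2, p)` acts `p`-stably on its normal `p`-subgroups.** -/
theorem isPStableOn_of_not_involves {G : Type u} [Group G] [Finite G] {p : ℕ} [Fact p.Prime]
    (hp : p ≠ 2) (hG : ¬ Inv G (Matrix.SpecialLinearGroup (Fin 2) (ZMod p)))
    (P : Subgroup G) [P.Normal] (hP : IsPGroup p P) : IsPStableOn p P := by
  intro a ha
  by_contra hcon
  obtain ⟨A, B, hA, hB, hBA, hAP, hchief, hx⟩ :=
    ChiefReduction.exists_chief_of_notMem_pCore P hP a hcon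
  apply hx
  -- pass to `Γ = G / B`, `V = A / B`
  let π : G →* G ⧸ B := QuotientGroup.mk' B
  have hπ : Function.Surjective π := QuotientGroup.mk'_surjective B
  let V : Subgroup (G ⧸ B) := A.map π
  have hVn : V.Normal := hA.map π hπ
  have hVp : IsPGroup p V := (hP.to_le hAP).map π
  have hmin : ∀ N : Subgroup (G ⧸ B), N.Normal → N ≤ V → N = ⊥ ∨ N = V := by
    intro N hN hNV
    have h1 : B ≤ N.comap π := by
      intro b hb
      rw [Subgroup.mem_comap]
      have : π b = 1 := (QuotientGroup.eq_one_iff b).mpr hb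
      rw [this]; exact N.one_mem
    have h2 : N.comap π ≤ A := by
      have := Subgroup.comap_mono (f := π) hNV
      rwa [Subgroup.comap_map_eq_self] at this
      rw [QuotientGroup.ker_mk']; exact hBA.le
    have h3 : (N.comap π).map π = N := Subgroup.map_comap_eq_self_of_surjective hπ N
    rcases hchief (N.comap π) (hN.comap π) h1 h2 with h | h
    · left
      rw [← h3, h, eq_bot_iff]
      rintro _ ⟨b, hb, rfl⟩
      exact (QuotientGroup.eq_one_iff b).mpr hb
    · right
      rw [← h3, h]
  have hVe := ChiefReduction.isElementaryAbelian_of_minimal hVn hVp hmin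
  let φ : (G ⧸ B) →* MulAut V := MulAut.conjNormal
  have hφ : ∀ (g : G ⧸ B) (v : V), ((φ g v : V) : G ⧸ B) = g * v * g⁻¹ := fun g v =>
    MulAut.conjNormal_apply g v
  have hker : ∀ g : G ⧸ B, φ g = 1 ↔ g ∈ Subgroup.centralizer (V : Set (G ⧸ B)) := by
    intro g
    rw [Subgroup.mem_centralizer_iff]
    constructor
    · intro h v hv
      have h1 := hφ g ⟨v, hv⟩
      rw [h] at h1
      have h2 : v = g * v * g⁻¹ := h1
      calc v * g = (g * v * g⁻¹) * g := by rw [← h2]
        _ = g * v := by group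
    · intro h
      ext v
      rw [hφ]
      have := h v v.2
      change g * v * g⁻¹ = v
      rw [← this, mul_inv_cancel_right]
  -- `O_p` of the image is trivial
  have hcore : pCore p φ.range = ⊥ := by
    have hn : (pCore p φ.range).Normal := Cfsg.pCore_normal p _
    have hR : (pCore p φ.range).comap φ.rangeRestrict ≤ Subgroup.centralizer (V : Set (G ⧸ B)) := by
      refine ChiefReduction.le_centralizer_of_minimal hVn hVp hmin (hn.comap _) ?_
      intro g hg
      obtain ⟨k, hk⟩ := Cfsg.Agent.Lib.Cores.pCore_isPGroup (G := φ.range) p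
        ⟨φ.rangeRestrict g, hg⟩
      refine ⟨k, (hker _).mp ?_⟩
      have := congrArg (fun t : ↥(pCore p φ.range) => ((t : φ.range) : MulAut V)) hk
      simpa using this
    rw [eq_bot_iff]
    intro y hy
    obtain ⟨g, rfl⟩ := φ.rangeRestrict_surjective y
    have h1 := (hker g).mpr (hR hy)
    rw [Subgroup.mem_bot]
    exact Subtype.ext h1
  have hmem : φ.rangeRestrict (π a) ∈ pCore p φ.range := by
    refine ActionStable.mem_pCore_of_faithful (p := p)
      (fun Γ _ => pCore p Γ = ⊥ ∧ ¬ Inv Γ (Matrix.SpecialLinearGroup (Fin 2) (ZMod p)))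
      ?_ ?_ ?_ φ.range ?_ _ ?_
    · intro L _ _ V H hV hHV hf hPH x hxH hq
      by_cases hx1 : x = 1
      · rw [hx1]; exact one_mem _
      exfalso
      apply hPH.2
      have hVp : IsPGroup p V := by
        rintro ⟨v, hv⟩
        exact ⟨1, Subtype.ext (by simpa using hV.2 v hv)⟩
      have hxp : ∃ k : ℕ, orderOf x = p ^ k := by
        obtain ⟨k, hk⟩ := exists_pow_mem_centralizer_of_commute hVp (h := x) (by
          intro v hv
          refine ⟨?_, ?_⟩
          · rw [commutatorElement_def, mul_assoc, mul_assoc]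
            refine mul_mem hv ?_
            rw [← mul_assoc]
            exact (Subgroup.mem_normalizer_iff.mp (hHV hxH) _).mp (inv_mem hv)
          · exact (ActionStable.commute_of_commutator_eq_bot hq v hv).symm)
        have h1 : x ^ p ^ k ∈ H ⊓ Subgroup.centralizer (V : Set L) := ⟨pow_mem hxH _, hk⟩
        rw [hf, Subgroup.mem_bot] at h1
        obtain ⟨j, -, hj⟩ := (Nat.dvd_prime_pow Fact.out).mp (orderOf_dvd_of_pow_eq_one h1)
        exact ⟨j, hj⟩
      obtain ⟨K, L', hL', hKH, he⟩ := Cfsg.Agent.S0656.result hp V H hV hHV hf hPH.1 x hxH hx1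
        hxp hq
      exact Inv.of_section hL' hKH he
    · intro x y
      exact Subtype.ext (congrArg Subtype.val (hVe.1.is_comm.comm x y))
    · intro x
      exact Subtype.ext (by simpa using hVe.2 x x.2)
    · rintro C _ ⟨e⟩
      refine ⟨?_, ?_⟩
      · rw [← Cfsg.Agent.Lib.Cores.map_equiv_pCore e p, hcore, Subgroup.map_bot]
      · intro h
        exact hG ((h.of_mulEquiv e).of_surjective (φ.rangeRestrict.comp π)
          (φ.rangeRestrict_surjective.comp hπ))
    · rintro ⟨v, x, hxA, rfl⟩
      apply Subtype.ext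
      have h1 := ActionStable.commute_of_commutator_eq_bot ha x (hAP hxA)
      have h2 : (((⟨π x, x, hxA, rfl⟩ : V) * (φ (π a) ⟨π x, x, hxA, rfl⟩)⁻¹ : V) : G ⧸ B) =
          π ⁅x, a⁆ := by
        rw [commutatorElement_def]
        push_cast
        rw [hφ]
        simp only [map_mul, map_inv]
        group
      change ((φ (π a) ((⟨π x, x, hxA, rfl⟩ : V) * (φ (π a) ⟨π x, x, hxA, rfl⟩)⁻¹) : V) : G ⧸ B)
        = (((⟨π x, x, hxA, rfl⟩ : V) * (φ (π a) ⟨π x, x, hxA, rfl⟩)⁻¹ : V) : G ⧸ B)
      rw [hφ, h2, ← map_mul, ← map_inv, ← map_mul, h1, mul_inv_cancel_right]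
  rw [hcore, Subgroup.mem_bot] at hmem
  have h1 : φ (π a) = 1 := congrArg Subtype.val hmem
  exact (hker _).mp h1

end Cfsg.Agent.PLocal.StableOfNotInvolves
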