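import Mathlib
import Cfsg.Agent.PLocal.S4FreeClosureUniq
set_option linter.all false

-- part: PLocal/S4FreeClosureDensity
section
set_option autoImplicit false

/-!
# The density trick

`W` a finite module over a `ZMod 2`-algebra `𝒜`, `N` a maximal submodule, `R` an `𝒜`-invariant
space of linear maps from `W` to a trivial module `Z` such that `|E| |C_W(E)| < |W|` for all
`0 ≠ E ≤ R`. Then `|R| |W / N| ≤ |W|`.
-/

namespace Cfsg.Agent.PLocal.S4FreeClosureDensity

open Polynomial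

universe u v w

section cyclic

theorem zmod_two_cases : ∀ c : ZMod 2, c = 0 ∨ c = 1 := by decide

/-- A finite simple module over a `ZMod 2`-algebra is generated, as a module for a field, by one
element of the algebra. -/
theorem exists_field_elt {A : Type u} [Ring A] [Algebra (ZMod 2) A] {F : Type v} [AddCommGroup F]
    [Module (ZMod 2) F] [Module A F] [IsScalarTower (ZMod 2) A F] [Finite F] [IsSimpleModule A F] :
    ∃ (a : A) (f : (ZMod 2)[X]), Irreducible f ∧ Nat.card F = 2 ^ f.natDegree ∧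
      ∀ x : F, (aeval a f) • x = 0 := by
  classical
  have hp : Fact (Nat.Prime 2) := ⟨Nat.prime_two⟩
  have hnt : Nontrivial F := IsSimpleModule.nontrivial A F
  let K := Module.End A F
  have hKfin : Finite K := Finite.of_injective (fun f : K => (f : F → F)) DFunLike.coe_injective
  let _ : Field K := littleWedderburn K
  have hchar : CharP K 2 := by
    apply (CharP.charP_iff_prime_eq_zero Nat.prime_two).2
    have h2 : ∀ x : F, (2 : ℕ) • x = 0 := by
      intro x
      have h3 : ((2 : ℕ) : ZMod 2) = 0 := ZMod.natCast_self 2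
      rw [← Nat.cast_smul_eq_nsmul (ZMod 2), h3, zero_smul]
    ext x
    have h4 : ((2 : ℕ) : K) = (2 : ℕ) • (1 : K) := by rw [nsmul_one]
    rw [h4]
    exact h2 x
  have hFK : Module.Finite K F := Module.Finite.of_finite
  let n := Module.finrank K F
  have hn : NeZero n := ⟨(Module.finrank_pos (R := K) (M := F)).ne'⟩
  let L := FiniteField.Extension K 2 n
  have hfin : Module.finrank K F = Module.finrank K L :=
    (FiniteField.finrank_extension K 2 n).symm
  let e : F ≃ₗ[K] L := LinearEquiv.ofFinrankEq F L hfin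
  obtain ⟨α, hα⟩ := Field.exists_primitive_element (ZMod 2) L
  let T : Module.End K F := e.symm.toLinearMap ∘ₗ (LinearMap.mulLeft K α) ∘ₗ e.toLinearMap
  have hT : ∀ x, T x = e.symm (α * e x) := fun _ => rfl
  cases nonempty_fintype F
  obtain ⟨a, ha⟩ := jacobson_density (R := A) (M := F) T Finset.univ
  have ha' : ∀ x : F, a • x = e.symm (α * e x) := fun x => (ha x (Finset.mem_univ x)).symm
  have key : ∀ g : (ZMod 2)[X], ∀ x : F, (aeval a g) • x = e.symm (aeval α g * e x) := by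
    intro g
    induction g using Polynomial.induction_on with
    | C c =>
      intro x
      rw [aeval_C, aeval_C, algebraMap_smul]
      rcases zmod_two_cases c with rfl | rfl
      · rw [zero_smul, map_zero, zero_mul, map_zero]
      · rw [one_smul, map_one, one_mul, LinearEquiv.symm_apply_apply]
    | add p q hp hq =>
      intro x
      rw [map_add, map_add, add_smul, add_mul, map_add, hp, hq]
    | monomial m c ih =>
      intro x
      have e1 : aeval a (C c * X ^ (m + 1)) = aeval a (C c * X ^ m) * a := by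
        rw [pow_succ, ← mul_assoc, map_mul, aeval_X]
      have e2 : aeval α (C c * X ^ (m + 1)) = aeval α (C c * X ^ m) * α := by
        rw [pow_succ, ← mul_assoc, map_mul, aeval_X]
      rw [e1, e2, mul_smul, ha', ih, LinearEquiv.apply_symm_apply, mul_assoc]
  have hint : IsIntegral (ZMod 2) α := IsIntegral.of_finite (ZMod 2) α
  refine ⟨a, minpoly (ZMod 2) α, minpoly.irreducible hint, ?_, ?_⟩
  · rw [(Field.primitive_element_iff_minpoly_natDegree_eq (ZMod 2) α).1 hα]
    have h1 : Nat.card F = Nat.card L := Nat.card_congr e.toEquiv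
    rw [h1, Module.natCard_eq_pow_finrank (K := ZMod 2) (V := L), Nat.card_zmod]
  · intro x
    rw [key, minpoly.aeval, zero_mul, map_zero]

/-- A finite module on which a power of `f(γ)` vanishes, `f` irreducible, has order a power of
`2 ^ deg f`. -/
theorem exists_card_eq_pow {W : Type v} [AddCommGroup W] [Module (ZMod 2) W] [Finite W]
    (γ : Module.End (ZMod 2) W) (f : (ZMod 2)[X]) (hf : Irreducible f) (n : ℕ)
    (hn : (aeval γ f) ^ n = 0) : ∃ i, Nat.card W = (2 ^ f.natDegree) ^ i := by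
  classical
  have hp : Fact (Nat.Prime 2) := ⟨Nat.prime_two⟩
  obtain ⟨s, hs⟩ : ∃ s, n ≤ 2 ^ s := ⟨n, Nat.lt_two_pow_self.le⟩
  have h1 : ∀ s, aeval (γ ^ 2 ^ s) f = (aeval γ f) ^ 2 ^ s := by
    intro s
    induction s with
    | zero => rw [pow_zero, pow_one, pow_one]
    | succ s ih =>
      have h2 : aeval (γ ^ 2 ^ (s + 1)) f = aeval (γ ^ 2 ^ s) (expand (ZMod 2) 2 f) := by
        rw [expand_aeval, ← pow_mul, pow_succ]
      rw [h2, ZMod.expand_card, map_pow, ih, ← pow_mul, ← pow_succ]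
  have h2 : aeval (γ ^ 2 ^ s) f = 0 := by
    rw [h1, ← Nat.sub_add_cancel hs, pow_add, hn, mul_zero]
  have hfact : Fact (Irreducible f) := ⟨hf⟩
  let K := AdjoinRoot f
  let _ : Field K := AdjoinRoot.instField
  let g : K →+* Module.End (ZMod 2) W :=
    Ideal.Quotient.lift (Ideal.span {f}) (aeval (γ ^ 2 ^ s) : (ZMod 2)[X] →ₐ[ZMod 2] _).toRingHom (by
      intro x hx
      obtain ⟨y, rfl⟩ := Ideal.mem_span_singleton'.1 hx
      show aeval (γ ^ 2 ^ s) (y * f) = 0
      rw [map_mul, h2, mul_zero])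
  let _ : Module K W := Module.compHom W g
  have hKfin : Module.Finite (ZMod 2) K := (AdjoinRoot.powerBasis hf.ne_zero).finite
  have hKfin' : Finite K := Module.finite_of_finite (ZMod 2)
  have hcard : Nat.card K = 2 ^ f.natDegree := by
    rw [Module.natCard_eq_pow_finrank (K := ZMod 2) (V := K), Nat.card_zmod,
      (AdjoinRoot.powerBasis hf.ne_zero).finrank, AdjoinRoot.powerBasis_dim]
  have hWfin : Module.Finite K W := Module.Finite.of_finite
  refine ⟨Module.finrank K W, ?_⟩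
  rw [← hcard]
  exact Module.natCard_eq_pow_finrank (K := K) (V := W)

/-- The order of `ker (f(a)^n)`. -/
theorem exists_card_ker_eq_pow {W : Type v} [AddCommGroup W] [Module (ZMod 2) W] [Finite W]
    (a : Module.End (ZMod 2) W) (f : (ZMod 2)[X]) (hf : Irreducible f) (n : ℕ) :
    ∃ i, Nat.card (LinearMap.ker ((aeval a f) ^ n)) = (2 ^ f.natDegree) ^ i := by
  set K := LinearMap.ker ((aeval a f) ^ n) with hK
  have hcomm : Commute a ((aeval a f) ^ n) := by
    have h1 : Commute (aeval a (X : (ZMod 2)[X])) (aeval a (f ^ n)) := by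
      rw [Commute, SemiconjBy, ← map_mul, ← map_mul, mul_comm]
    rwa [aeval_X, map_pow] at h1
  have hinv : ∀ w ∈ K, a w ∈ K := by
    intro w hw
    rw [hK, LinearMap.mem_ker] at hw ⊢
    have h1 : (((aeval a f) ^ n) * a) w = (a * ((aeval a f) ^ n)) w := by rw [hcomm.eq]
    rw [Module.End.mul_apply, Module.End.mul_apply, hw, map_zero] at h1
    exact h1
  let b : Module.End (ZMod 2) K := a.restrict hinv
  have hb : ∀ g : (ZMod 2)[X], ∀ w : K, ((aeval b g w : K) : W) = aeval a g w := by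
    intro g
    induction g using Polynomial.induction_on with
    | C c =>
      intro w
      rw [aeval_C, aeval_C]
      rfl
    | add p q hp hq =>
      intro w
      rw [map_add, map_add, LinearMap.add_apply, LinearMap.add_apply, Submodule.coe_add, hp, hq]
    | monomial m c ih =>
      intro w
      have e1 : aeval b (C c * X ^ (m + 1)) = aeval b (C c * X ^ m) * b := by
        rw [pow_succ, ← mul_assoc, map_mul, aeval_X]
      have e2 : aeval a (C c * X ^ (m + 1)) = aeval a (C c * X ^ m) * a := by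
        rw [pow_succ, ← mul_assoc, map_mul, aeval_X]
      rw [e1, e2, Module.End.mul_apply, Module.End.mul_apply, ih]
      rfl
  refine exists_card_eq_pow b f hf n ?_
  rw [← map_pow]
  ext w
  rw [hb, map_pow]
  exact w.2

end cyclic

section count

variable {W : Type v} [AddCommGroup W] [Module (ZMod 2) W] [Finite W]
  {Z : Type w} [AddCommGroup Z] [Module (ZMod 2) Z]

/-- The common kernel. -/
def kr (E : Submodule (ZMod 2) (W →ₗ[ZMod 2] Z)) : Submodule (ZMod 2) W where
  carrier := {x | ∀ r ∈ E, r x = 0}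
  add_mem' := by
    intro x y hx hy r hr
    rw [map_add, hx r hr, hy r hr, add_zero]
  zero_mem' := fun r _ => map_zero r
  smul_mem' := by
    intro c x hx r hr
    rw [map_smul, hx r hr, smul_zero]

theorem card_isCompl {M : Type*} [AddCommGroup M] [Module (ZMod 2) M] [Finite M]
    {A B : Submodule (ZMod 2) M} (h : IsCompl A B) : Nat.card M = Nat.card A * Nat.card B := by
  rw [← Nat.card_prod]
  exact (Nat.card_congr (Submodule.prodEquivOfIsCompl A B h).toEquiv).symm

theorem card_mul_le [Finite Z] (R : Submodule (ZMod 2) (W →ₗ[ZMod 2] Z))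
    (a : Module.End (ZMod 2) W) (hR : ∀ r ∈ R, r ∘ₗ a ∈ R)
    (hoff : ∀ E ≤ R, E ≠ ⊥ → Nat.card E * Nat.card (kr E) < Nat.card W)
    (f : (ZMod 2)[X]) (hf : Irreducible f) (hns : ¬ Function.Surjective (aeval a f)) :
    2 ^ f.natDegree * Nat.card R ≤ Nat.card W := by
  classical
  have hHom : Finite (W →ₗ[ZMod 2] Z) := Finite.of_injective _ DFunLike.coe_injective
  let α : Module.End (ZMod 2) R :=
    { toFun := fun r => ⟨(r : W →ₗ[ZMod 2] Z) ∘ₗ a, hR r r.2⟩
      map_add' := fun r s => rfl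
      map_smul' := fun c r => rfl }
  have hα : ∀ g : (ZMod 2)[X], ∀ r : R, ((aeval α g r : R) : W →ₗ[ZMod 2] Z) =
      (r : W →ₗ[ZMod 2] Z) ∘ₗ aeval a g := by
    intro g
    induction g using Polynomial.induction_on with
    | C c =>
      intro r
      rw [aeval_C, aeval_C]
      ext w
      show (c • (r : W →ₗ[ZMod 2] Z)) w = (r : W →ₗ[ZMod 2] Z) (c • w)
      rw [map_smul]
      rfl
    | add p q hp hq =>
      intro r
      rw [map_add, map_add, LinearMap.add_apply, Submodule.coe_add, hp, hq, LinearMap.comp_add]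
    | monomial m c ih =>
      intro r
      have e1 : aeval α (C c * X ^ (m + 1)) = α * aeval α (C c * X ^ m) := by
        rw [pow_succ', mul_left_comm, map_mul, aeval_X]
      have e2 : aeval a (C c * X ^ (m + 1)) = aeval a (C c * X ^ m) * a := by
        rw [pow_succ, ← mul_assoc, map_mul, aeval_X]
      rw [e1, e2, Module.End.mul_apply]
      show ((aeval α (C c * X ^ m) r : R) : W →ₗ[ZMod 2] Z) ∘ₗ a = _
      rw [ih]
      rfl
  set γ := aeval a f with hγ
  set δ := aeval α f with hδ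
  obtain ⟨n, hn⟩ := (γ.eventually_isCompl_ker_pow_range_pow.and
    (δ.eventually_isCompl_ker_pow_range_pow.and (Filter.eventually_ge_atTop 1))).exists
  obtain ⟨hn1, hn2, hn3⟩ := hn
  have hδn : ∀ r : R, ((δ ^ n) r : W →ₗ[ZMod 2] Z) = (r : W →ₗ[ZMod 2] Z) ∘ₗ (γ ^ n) := by
    intro r
    have := hα (f ^ n) r
    rwa [map_pow, map_pow] at this
  set Wf := LinearMap.ker (γ ^ n) with hWf
  set W' := LinearMap.range (γ ^ n) with hW'
  have hcW := card_isCompl hn1
  have hcR := card_isCompl hn2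
  let E₁ : Submodule (ZMod 2) (W →ₗ[ZMod 2] Z) := (LinearMap.ker (δ ^ n)).map R.subtype
  let E₂ : Submodule (ZMod 2) (W →ₗ[ZMod 2] Z) := (LinearMap.range (δ ^ n)).map R.subtype
  have hE₁R : E₁ ≤ R := Submodule.map_subtype_le _ _
  have hE₂R : E₂ ≤ R := Submodule.map_subtype_le _ _
  have hcE₁ : Nat.card E₁ = Nat.card (LinearMap.ker (δ ^ n)) :=
    (Nat.card_congr (Submodule.equivMapOfInjective _ R.subtype_injective _).toEquiv).symm
  have hcE₂ : Nat.card E₂ = Nat.card (LinearMap.range (δ ^ n)) :=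
    (Nat.card_congr (Submodule.equivMapOfInjective _ R.subtype_injective _).toEquiv).symm
  have hk₁ : W' ≤ kr E₁ := by
    rintro _ ⟨w, rfl⟩ r ⟨⟨s, hs⟩, hs', rfl⟩
    have h1 := hδn ⟨s, hs⟩
    rw [LinearMap.mem_ker.1 hs'] at h1
    exact (congrArg (fun t : W →ₗ[ZMod 2] Z => t w) h1).symm
  have hk₂ : Wf ≤ kr E₂ := by
    rintro w hw _ ⟨_, ⟨s, rfl⟩, rfl⟩
    have h1 := hδn s
    show ((δ ^ n) s : W →ₗ[ZMod 2] Z) w = 0
    rw [h1, LinearMap.comp_apply, LinearMap.mem_ker.1 hw, map_zero]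
  have hWfpos : 0 < Nat.card Wf := Nat.card_pos
  have hW'pos : 0 < Nat.card W' := Nat.card_pos
  have hcard_le : ∀ {A B : Submodule (ZMod 2) W}, A ≤ B → Nat.card A ≤ Nat.card B := fun {A B} h =>
    Nat.card_le_card_of_injective (Submodule.inclusion h) (Submodule.inclusion_injective h)
  have hbot : ∀ {E : Submodule (ZMod 2) (W →ₗ[ZMod 2] Z)}, E = ⊥ → Nat.card E = 1 := by
    rintro E rfl
    exact Nat.card_unique
  obtain ⟨i, hi⟩ := exists_card_ker_eq_pow a f hf n
  obtain ⟨j, hj⟩ := exists_card_ker_eq_pow α f hf n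
  have hd : 1 < 2 ^ f.natDegree := Nat.one_lt_two_pow hf.natDegree_pos.ne'
  have hWfne : 1 < Nat.card Wf := by
    by_contra hcon
    have h1 : Nat.card Wf = 1 := by omega
    have h2 : Function.Injective (γ ^ n) := by
      rw [← LinearMap.ker_eq_bot, Submodule.eq_bot_iff]
      intro x hx
      have h3 := (Nat.card_eq_one_iff_unique.1 h1).1
      exact congrArg Subtype.val (Subsingleton.elim (⟨x, hx⟩ : Wf) 0)
    have h3 : Function.Injective γ := by
      obtain ⟨m, rfl⟩ : ∃ m, n = m + 1 := ⟨n - 1, by omega⟩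
      intro x y hxy
      apply h2
      rw [pow_succ, Module.End.mul_apply, Module.End.mul_apply, hxy]
    exact hns (Finite.surjective_of_injective h3)
  have h1 : 2 ^ f.natDegree * Nat.card E₁ ≤ Nat.card Wf := by
    rw [hWf, hi] at hWfne ⊢
    rw [hcE₁, hj]
    rw [← pow_succ']
    apply Nat.pow_le_pow_right (by omega)
    by_cases hE : E₁ = ⊥
    · have h2 := hbot hE
      rw [hcE₁, hj] at h2
      have h3 : j = 0 := by
        by_contra hj0
        have := Nat.one_lt_pow hj0 hd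
        omega
      have h4 : i ≠ 0 := by
        rintro rfl
        rw [pow_zero] at hWfne
        omega
      omega
    · have h2 := hoff E₁ hE₁R hE
      have h3 : Nat.card E₁ * Nat.card W' < Nat.card Wf * Nat.card W' :=
        lt_of_le_of_lt (Nat.mul_le_mul_left _ (hcard_le hk₁)) (by rwa [hcW] at h2)
      have h4 := Nat.lt_of_mul_lt_mul_right h3
      rw [hcE₁, hj, hWf, hi] at h4
      exact (Nat.pow_lt_pow_iff_right hd).1 h4
  have h2 : Nat.card E₂ ≤ Nat.card W' := by
    by_cases hE : E₂ = ⊥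
    · rw [hbot hE]
      exact hW'pos
    · have h2 := hoff E₂ hE₂R hE
      have h3 : Nat.card E₂ * Nat.card Wf < Nat.card W' * Nat.card Wf :=
        lt_of_le_of_lt (Nat.mul_le_mul_left _ (hcard_le hk₂)) (by
          rwa [hcW, mul_comm (Nat.card Wf)] at h2)
      exact (Nat.lt_of_mul_lt_mul_right h3).le
  calc 2 ^ f.natDegree * Nat.card R = (2 ^ f.natDegree * Nat.card E₁) * Nat.card E₂ := by
        rw [hcR, hcE₁, hcE₂]
        ring
    _ ≤ Nat.card Wf * Nat.card W' := Nat.mul_le_mul h1 h2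
    _ = Nat.card W := hcW.symm

omit [Finite W] in
theorem restrict_card (A : Subalgebra (ZMod 2) (Module.End (ZMod 2) W)) (N : Submodule (ZMod 2) W)
    (N' : Submodule A W) (h : ∀ w, w ∈ N' ↔ w ∈ N) : Nat.card (W ⧸ N) = Nat.card (W ⧸ N') := by
  refine Nat.card_congr (Quotient.congr (Equiv.refl W) ?_)
  intro x y
  rw [Submodule.quotientRel_def, Submodule.quotientRel_def, Equiv.refl_apply, Equiv.refl_apply]
  exact (h _).symm

omit [Finite W] in
theorem smul_eq_aeval (A : Subalgebra (ZMod 2) (Module.End (ZMod 2) W)) (a : A)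
    (f : (ZMod 2)[X]) (w : W) : (aeval a f) • w = aeval (a : Module.End (ZMod 2) W) f w := by
  have h1 : aeval (A.val a) f = A.val (aeval a f) := aeval_algHom_apply A.val a f
  have h2 : A.val a = (a : Module.End (ZMod 2) W) := rfl
  rw [h2] at h1
  rw [h1]
  rfl

theorem exists_elt (A : Subalgebra (ZMod 2) (Module.End (ZMod 2) W))
    (N' : Submodule A W) (hcoatom : IsCoatom N') :
    ∃ (a : Module.End (ZMod 2) W) (f : (ZMod 2)[X]), a ∈ A ∧ Irreducible f ∧
      Nat.card (W ⧸ N') = 2 ^ f.natDegree ∧ ∀ w : W, aeval a f w ∈ N' := by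
  have hfinq : Finite (W ⧸ N') := Finite.of_surjective _ (Submodule.Quotient.mk_surjective N')
  have hsimple : IsSimpleModule A (W ⧸ N') := isSimpleModule_iff_isCoatom.2 hcoatom
  obtain ⟨a, f, hf, hcard, hzero⟩ := exists_field_elt (A := A) (F := W ⧸ N')
  refine ⟨a, f, a.2, hf, hcard, fun w => ?_⟩
  have h1 := hzero (N'.mkQ w)
  have h2 : N'.mkQ ((aeval a f) • w) = 0 := by
    rw [map_smul]
    exact h1
  rw [← smul_eq_aeval]
  exact (Submodule.Quotient.mk_eq_zero N').1 h2

/-- The density lemma. -/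
theorem card_quot_mul_le [Finite Z] (R : Submodule (ZMod 2) (W →ₗ[ZMod 2] Z))
    (G : Set (Module.End (ZMod 2) W)) (hR : ∀ g ∈ G, ∀ r ∈ R, r ∘ₗ g ∈ R)
    (hoff : ∀ E ≤ R, E ≠ ⊥ → Nat.card E * Nat.card (kr E) < Nat.card W)
    (N : Submodule (ZMod 2) W) (hN : N ≠ ⊤) (hNG : ∀ g ∈ G, ∀ w ∈ N, g w ∈ N)
    (hNmax : ∀ N' : Submodule (ZMod 2) W, N < N' → (∀ g ∈ G, ∀ w ∈ N', g w ∈ N') → N' = ⊤) :
    Nat.card (W ⧸ N) * Nat.card R ≤ Nat.card W := by
  classical
  let A : Subalgebra (ZMod 2) (Module.End (ZMod 2) W) := Algebra.adjoin (ZMod 2) G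
  have hNA : ∀ (N : Submodule (ZMod 2) W), (∀ g ∈ G, ∀ w ∈ N, g w ∈ N) →
      ∀ a ∈ A, ∀ w ∈ N, a w ∈ N := by
    intro N hNG a ha
    induction ha using Algebra.adjoin_induction with
    | mem g hg => exact hNG g hg
    | algebraMap c =>
      intro w hw
      exact N.smul_mem c hw
    | add x y _ _ hx hy =>
      intro w hw
      exact N.add_mem (hx w hw) (hy w hw)
    | mul x y _ _ hx hy =>
      intro w hw
      exact hx _ (hy w hw)
  have hRA : ∀ a ∈ A, ∀ r ∈ R, r ∘ₗ a ∈ R := by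
    intro a ha
    induction ha using Algebra.adjoin_induction with
    | mem g hg => exact hR g hg
    | algebraMap c =>
      intro r hr
      have : r ∘ₗ (algebraMap (ZMod 2) (Module.End (ZMod 2) W) c) = c • r := by
        ext w
        exact map_smul r c w
      rw [this]
      exact R.smul_mem c hr
    | add x y _ _ hx hy =>
      intro r hr
      rw [LinearMap.comp_add]
      exact R.add_mem (hx r hr) (hy r hr)
    | mul x y _ _ hx hy =>
      intro r hr
      exact hy _ (hx r hr)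
  let N' : Submodule A W :=
    { carrier := N
      add_mem' := fun h h' => N.add_mem h h'
      zero_mem' := N.zero_mem
      smul_mem' := fun a w hw => hNA N hNG a a.2 w hw }
  have hcoatom : IsCoatom N' := by
    constructor
    · intro h
      apply hN
      rw [Submodule.eq_top_iff']
      intro w
      have : w ∈ N' := h ▸ Submodule.mem_top
      exact this
    · intro Y hY
      have h1 : N < Y.restrictScalars (ZMod 2) := by
        refine lt_of_le_of_ne (fun w hw => hY.le hw) ?_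
        intro h
        apply hY.ne
        ext w
        constructor
        · intro hw
          exact hY.le hw
        · intro hw
          have : w ∈ Y.restrictScalars (ZMod 2) := hw
          rw [← h] at this
          exact this
      have h2 := hNmax _ h1 (fun g hg w hw => Y.smul_mem (⟨g, Algebra.subset_adjoin hg⟩ : A) hw)
      rw [Submodule.eq_top_iff']
      intro w
      have : w ∈ Y.restrictScalars (ZMod 2) := h2 ▸ Submodule.mem_top
      exact this
  obtain ⟨a, f, haA, hf, hcard, hzero⟩ := exists_elt A N' hcoatom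
  have hcardF : Nat.card (W ⧸ N) = 2 ^ f.natDegree := by
    rw [← hcard]
    exact restrict_card A N N' fun _ => Iff.rfl
  rw [hcardF]
  refine card_mul_le R a (hRA a haA) hoff f hf ?_
  intro hsurj
  apply hN
  rw [Submodule.eq_top_iff']
  intro w
  obtain ⟨x, rfl⟩ := hsurj w
  exact hzero x

end count

end Cfsg.Agent.PLocal.S4FreeClosureDensity
end

-- part: PLocal/S4FreeClosureLinear
section
set_option autoImplicit false

/-!
# The density lemma for groups
-/

namespace Cfsg.Agent.PLocal.S4FreeClosureLinear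

open Cfsg.Agent.PLocal.SFourBasic Cfsg.Agent.PLocal.SFourOffender
open Cfsg.Agent.PLocal.S4FreeClosureBasic Cfsg.Agent.PLocal.S4FreeClosureUniq
open Cfsg.Agent.PLocal.S4FreeClosureDensity

universe u v

variable {H : Type u} [Group H] {V : Type v} [CommGroup V]

/-- `v ↦ [v, r]` -/
def lam (φ : H →* MulAut V) (V₀ : Subgroup V) (r : H) (hr : ∀ v, φ r v * v⁻¹ ∈ V₀)
    (h0 : ∀ v ∈ V₀, φ r v = v) : V ⧸ V₀ →* V₀ :=
  QuotientGroup.lift V₀
    { toFun := fun v => ⟨φ r v * v⁻¹, hr v⟩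
      map_one' := Subtype.ext (by
        show φ r 1 * (1 : V)⁻¹ = 1
        rw [map_one, inv_one, mul_one])
      map_mul' := fun v w => Subtype.ext (by
        show φ r (v * w) * (v * w)⁻¹ = (φ r v * v⁻¹) * (φ r w * w⁻¹)
        rw [map_mul, mul_inv, mul_mul_mul_comm]) }
    (fun v hv => Subtype.ext (by
      show φ r v * v⁻¹ = 1
      rw [h0 v hv, mul_inv_cancel]))

theorem lam_mk (φ : H →* MulAut V) (V₀ : Subgroup V) (r : H) (hr : ∀ v, φ r v * v⁻¹ ∈ V₀)
    (h0 : ∀ v ∈ V₀, φ r v = v) (v : V) :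
    ((lam φ V₀ r hr h0 (QuotientGroup.mk v) : V₀) : V) = φ r v * v⁻¹ := rfl

/-- The density lemma, group version. -/
theorem card_quot_mul_card_le [Finite H] [Finite V] {φ : H →* MulAut V}
    (hinj : Function.Injective φ) (hexp : ∀ v : V, v * v = 1) (V₀ V₂ : Subgroup V)
    (hV₀ : ∀ h, ∀ v ∈ V₀, φ h v = v) (hV₀₂ : V₀ ≤ V₂) (hV₂ : V₂ ≠ ⊤)
    (hinv : ∀ h, ∀ w ∈ V₂, φ h w ∈ V₂)
    (hmax : ∀ Y : Subgroup V, V₂ < Y → (∀ h, ∀ w ∈ Y, φ h w ∈ Y) → Y = ⊤)
    (R : Subgroup H) (hRn : ∀ h, ∀ r ∈ R, h * r * h⁻¹ ∈ R)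
    (hR₀ : ∀ r ∈ R, ∀ v, φ r v * v⁻¹ ∈ V₀)
    (hoff : ∀ E ≤ R, E ≠ ⊥ → Nat.card E * Nat.card (fx φ E) < Nat.card V) :
    Nat.card (V ⧸ V₂) * Nat.card R * Nat.card V₀ ≤ Nat.card V := by
  classical
  let _ : Module (ZMod 2) (Additive (V ⧸ V₀)) := AddCommGroup.zmodModule (n := 2) (by
    intro x
    obtain ⟨v, hv⟩ := QuotientGroup.mk_surjective (Additive.toMul x)
    have h1 : x = Additive.ofMul (QuotientGroup.mk v) := hv.symm
    rw [h1, two_nsmul, ← ofMul_mul, ← QuotientGroup.mk_mul, hexp]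
    rfl)
  let _ : Module (ZMod 2) (Additive V₀) := AddCommGroup.zmodModule (n := 2) (by
    intro x
    have h1 : x = Additive.ofMul (Additive.toMul x) := rfl
    rw [h1, two_nsmul, ← ofMul_mul]
    have h2 : Additive.toMul x * Additive.toMul x = 1 := Subtype.ext (hexp _)
    rw [h2]
    rfl)
  let W := Additive (V ⧸ V₀)
  let Z := Additive V₀
  let mk : V → W := fun v => Additive.ofMul (QuotientGroup.mk v)
  have hmk : Function.Surjective mk := fun x => by
    obtain ⟨v, hv⟩ := QuotientGroup.mk_surjective (Additive.toMul x)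
    exact ⟨v, hv⟩
  have mk_mul : ∀ v w, mk (v * w) = mk v + mk w := fun v w => rfl
  have mk_eq_zero : ∀ v, mk v = 0 ↔ v ∈ V₀ := fun v => QuotientGroup.eq_one_iff v
  let L : R → (W →ₗ[ZMod 2] Z) := fun r =>
    (MonoidHom.toAdditive (lam φ V₀ r (hR₀ r r.2) (hV₀ r))).toZModLinearMap 2
  have hL : ∀ (r : R) (v : V), (((Additive.toMul (L r (mk v)) : V₀)) : V) = φ r v * v⁻¹ :=
    fun r v => rfl
  have extL : ∀ (f g : W →ₗ[ZMod 2] Z), (∀ v : V, ((Additive.toMul (f (mk v)) : V₀) : V) =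
      ((Additive.toMul (g (mk v)) : V₀) : V)) → f = g := by
    intro f g h
    ext x
    obtain ⟨v, rfl⟩ := hmk x
    exact h v
  have hLmul : ∀ r s : R, L (r * s) = L r + L s := by
    intro r s
    apply extL
    intro v
    show φ (r * s) v * v⁻¹ = (φ r v * v⁻¹) * (φ s v * v⁻¹)
    have h1 : φ s v = v * (φ s v * v⁻¹) := by rw [mul_comm, inv_mul_cancel_right]
    have h2 : φ r (φ s v) = φ r v * (φ s v * v⁻¹) := by
      conv_lhs => rw [h1]
      rw [map_mul, hV₀ r _ (hR₀ s s.2 v)]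
    rw [map_mul, MulAut.mul_apply, h2, mul_right_comm]
  have hLone : L 1 = 0 := by
    have h1 := hLmul 1 1
    rw [one_mul] at h1
    exact (left_eq_add.1 h1)
  have hLinj : Function.Injective L := by
    intro r s hrs
    apply Subtype.ext
    apply hinj
    ext v
    have h1 := hL r v
    rw [hrs, hL s v] at h1
    exact (mul_right_cancel h1).symm
  let 𝓡 : Submodule (ZMod 2) (W →ₗ[ZMod 2] Z) :=
    { carrier := Set.range L
      add_mem' := by
        rintro _ _ ⟨r, rfl⟩ ⟨s, rfl⟩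
        exact ⟨r * s, hLmul r s⟩
      zero_mem' := ⟨1, hLone⟩
      smul_mem' := by
        rintro c _ ⟨r, rfl⟩
        rcases zmod_two_cases c with rfl | rfl
        · exact ⟨1, by rw [hLone, zero_smul]⟩
        · exact ⟨r, by rw [one_smul]⟩ }
  have hc𝓡 : Nat.card 𝓡 = Nat.card R := (Nat.card_congr (Equiv.ofInjective L hLinj)).symm
  let ρ : H → Module.End (ZMod 2) W := fun h =>
    (MonoidHom.toAdditive (quotHom φ V₀ (fun h v hv => by rw [hV₀ h v hv]; exact hv)
      h).toMonoidHom).toZModLinearMap 2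
  have hρ : ∀ h v, ρ h (mk v) = mk (φ h v) := fun h v => rfl
  let N : Submodule (ZMod 2) W :=
    { carrier := mk '' V₂
      add_mem' := by
        rintro _ _ ⟨v, hv, rfl⟩ ⟨w, hw, rfl⟩
        exact ⟨v * w, V₂.mul_mem hv hw, rfl⟩
      zero_mem' := ⟨1, V₂.one_mem, rfl⟩
      smul_mem' := by
        rintro c _ ⟨v, hv, rfl⟩
        rcases zmod_two_cases c with rfl | rfl
        · exact ⟨1, V₂.one_mem, by rw [zero_smul]; rfl⟩
        · exact ⟨v, hv, by rw [one_smul]⟩ }
  have hmkN : ∀ v, mk v ∈ N ↔ v ∈ V₂ := by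
    intro v
    constructor
    · rintro ⟨w, hw, hvw⟩
      have h1 : mk (w⁻¹ * v) = 0 := by
        have h2 : mk w = mk w + mk (w⁻¹ * v) := by
          rw [← mk_mul, mul_inv_cancel_left]
          exact hvw
        exact (left_eq_add.1 h2)
      have h2 := V₂.mul_mem hw (hV₀₂ ((mk_eq_zero _).1 h1))
      rwa [mul_inv_cancel_left] at h2
    · intro hv
      exact ⟨v, hv, rfl⟩
  have hcW : Nat.card V = Nat.card W * Nat.card V₀ :=
    Subgroup.card_eq_card_quotient_mul_card_subgroup V₀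
  have hcP : ∀ (Y : Subgroup V), V₀ ≤ Y → ∀ (X : Submodule (ZMod 2) W), (∀ v, mk v ∈ X ↔ v ∈ Y) →
      Nat.card Y = Nat.card X * Nat.card V₀ := by
    intro Y hY X hX
    have h1 := Subgroup.card_eq_card_quotient_mul_card_subgroup (V₀.subgroupOf Y)
    rw [Nat.card_congr (Subgroup.subgroupOfEquivOfLe hY).toEquiv] at h1
    rw [h1]
    congr 1
    have h2 : Nat.card (Y ⧸ V₀.subgroupOf Y) = Nat.card (Y.map (QuotientGroup.mk' V₀)) := by
      rw [← Subgroup.relIndex_ker, QuotientGroup.ker_mk']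
      rfl
    rw [h2]
    refine Nat.card_congr (Equiv.subtypeEquiv (Equiv.refl _) ?_)
    intro q
    obtain ⟨v, rfl⟩ := QuotientGroup.mk_surjective q
    constructor
    · rintro ⟨w, hw, hwv⟩
      have : mk v = mk w := hwv.symm
      show mk v ∈ X
      rw [this]
      exact (hX w).2 hw
    · intro hv
      exact ⟨v, (hX v).1 hv, rfl⟩
  have key := card_quot_mul_le (W := W) (Z := Z) 𝓡 (Set.range ρ) (by
      rintro _ ⟨h, rfl⟩ _ ⟨r, rfl⟩
      refine ⟨⟨h⁻¹ * r * h, by
        have := hRn h⁻¹ r r.2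
        rwa [inv_inv] at this⟩, ?_⟩
      apply extL
      intro v
      show φ (h⁻¹ * r * h) v * v⁻¹ = φ r (φ h v) * (φ h v)⁻¹
      have h1 : φ r (φ h v) = φ h v * (φ r (φ h v) * (φ h v)⁻¹) := by
        rw [mul_comm, inv_mul_cancel_right]
      rw [map_mul, map_mul, MulAut.mul_apply, MulAut.mul_apply]
      conv_lhs => rw [h1]
      rw [map_mul, inv_apply_cancel, hV₀ _ _ (hR₀ r r.2 _), mul_comm v, mul_inv_cancel_right]) (by
      intro E hE hEne
      let E' : Subgroup H :=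
        { carrier := {r | ∃ h : r ∈ R, L ⟨r, h⟩ ∈ E}
          one_mem' := ⟨R.one_mem, by
            have : L ⟨1, R.one_mem⟩ = 0 := hLone
            rw [this]
            exact E.zero_mem⟩
          mul_mem' := by
            rintro r s ⟨hr, hr'⟩ ⟨hs, hs'⟩
            refine ⟨R.mul_mem hr hs, ?_⟩
            have h1 := hLmul ⟨r, hr⟩ ⟨s, hs⟩
            have h2 : (⟨r, hr⟩ * ⟨s, hs⟩ : R) = ⟨r * s, R.mul_mem hr hs⟩ := rfl
            rw [h2] at h1
            rw [h1]
            exact E.add_mem hr' hs'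
          inv_mem' := by
            rintro r ⟨hr, hr'⟩
            refine ⟨R.inv_mem hr, ?_⟩
            have h1 := hLmul ⟨r, hr⟩ ⟨r⁻¹, R.inv_mem hr⟩
            have h2 : (⟨r, hr⟩ * ⟨r⁻¹, R.inv_mem hr⟩ : R) = 1 := Subtype.ext (mul_inv_cancel r)
            rw [h2, hLone] at h1
            have h3 : L ⟨r⁻¹, R.inv_mem hr⟩ = - L ⟨r, hr⟩ := (neg_eq_of_add_eq_zero_right h1.symm).symm
            rw [h3]
            exact E.neg_mem hr' }
      have hE'R : E' ≤ R := fun r hr => hr.1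
      have hcE : Nat.card E' = Nat.card E := by
        refine Nat.card_congr (Equiv.ofBijective
          (fun r : E' => (⟨L ⟨r, r.2.1⟩, r.2.2⟩ : E)) ⟨?_, ?_⟩)
        · intro r s hrs
          have h1 := hLinj (congrArg Subtype.val hrs)
          exact Subtype.ext (congrArg (fun z : R => (z : H)) h1)
        · rintro ⟨e, he⟩
          obtain ⟨r, rfl⟩ := hE he
          exact ⟨⟨r, r.2, he⟩, rfl⟩
      have hE'ne : E' ≠ ⊥ := by
        intro h
        apply hEne
        have h1 : Nat.card E = 1 := by rw [← hcE, h, Subgroup.card_bot]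
        rw [Submodule.eq_bot_iff]
        intro x hx
        have h3 := (Nat.card_eq_one_iff_unique.1 h1).1
        exact congrArg Subtype.val (Subsingleton.elim (⟨x, hx⟩ : E) 0)
      have h1 := hoff E' hE'R hE'ne
      have hfx : Nat.card (fx φ E') = Nat.card (kr E) * Nat.card V₀ := by
        apply hcP
        · intro v hv r hr
          exact hV₀ r v hv
        · intro v
          constructor
          · intro hv r hr
            have h2 : L ⟨r, hr.1⟩ (mk v) = 0 := hv _ hr.2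
            have h3 := hL ⟨r, hr.1⟩ v
            rw [h2] at h3
            exact (mul_inv_eq_one.1 h3.symm)
          · intro hv e he
            obtain ⟨r, rfl⟩ := hE he
            have h2 : φ r v = v := hv r ⟨r.2, he⟩
            apply Additive.toMul.injective
            apply Subtype.ext
            rw [hL, h2, mul_inv_cancel]
            rfl
      rw [hfx, hcE, hcW, ← mul_assoc] at h1
      exact Nat.lt_of_mul_lt_mul_right h1) N (by
      intro h
      apply hV₂
      rw [eq_top_iff]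
      intro v _
      rw [← hmkN, h]
      exact Submodule.mem_top) (by
      rintro _ ⟨h, rfl⟩ _ ⟨v, hv, rfl⟩
      exact ⟨φ h v, hinv h v hv, rfl⟩) (by
      intro N' hN' hinv'
      let Y : Subgroup V :=
        { carrier := {v | mk v ∈ N'}
          one_mem' := N'.zero_mem
          mul_mem' := fun {a b} ha hb => by
            show mk (a * b) ∈ N'
            rw [mk_mul]
            exact N'.add_mem ha hb
          inv_mem' := fun {a} ha => N'.neg_mem ha }
      have hY : V₂ < Y := by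
        refine lt_of_le_of_ne (fun v hv => hN'.le ((hmkN v).2 hv)) ?_
        intro h
        apply hN'.ne
        ext x
        obtain ⟨v, rfl⟩ := hmk x
        rw [hmkN, h]
        rfl
      have h1 := hmax Y hY (fun h w hw => hinv' _ ⟨h, rfl⟩ _ hw)
      rw [Submodule.eq_top_iff']
      intro x
      obtain ⟨v, rfl⟩ := hmk x
      have : v ∈ Y := h1 ▸ Subgroup.mem_top v
      exact this)
  have hcV₂ := hcP V₂ hV₀₂ N hmkN
  have h1 : Nat.card (W ⧸ N) * Nat.card N = Nat.card W := by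
    have h2 : Nat.card W = Nat.card N * Nat.card (W ⧸ N) :=
      Submodule.card_eq_card_quotient_mul_card N
    rw [h2, mul_comm]
  have h2 : Nat.card V = Nat.card (V ⧸ V₂) * Nat.card V₂ :=
    Subgroup.card_eq_card_quotient_mul_card_subgroup V₂
  have h3 : Nat.card (W ⧸ N) = Nat.card (V ⧸ V₂) := by
    have h4 : Nat.card (W ⧸ N) * Nat.card V₂ = Nat.card (V ⧸ V₂) * Nat.card V₂ := by
      rw [← h2, hcV₂, ← mul_assoc, h1, hcW]
    exact Nat.eq_of_mul_eq_mul_right Nat.card_pos h4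
  rw [← h3, ← hc𝓡, hcW]
  exact Nat.mul_le_mul_right _ key

end Cfsg.Agent.PLocal.S4FreeClosureLinear
end

-- part: PLocal/S4FreeClosure
section
set_option autoImplicit false

/-!
# The closure theorem for `S₃`-free groups (Theorem A of helper386 for S0665)

`X` a finite group acting on an elementary abelian `2`-group `V` without sections `S₃`, `T` a Sylow
`2`-subgroup, `U ≤ V` a `T`-invariant, `T`-unoffended subgroup with `V = ⟨U^X⟩`. Then `V` is
`T`-unoffended.
-/

namespace Cfsg.Agent.PLocal.S4FreeClosure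

open Cfsg Cfsg.Agent.Lib
open Cfsg.Agent.PLocal.SFourBasic Cfsg.Agent.PLocal.SFourOffender
open Cfsg.Agent.PLocal.S4FreeClosureBasic Cfsg.Agent.PLocal.S4FreeClosureUniq
open Cfsg.Agent.PLocal.S4FreeClosureLinear

universe u v

section main

variable {H : Type u} [Group H] {V : Type v} [CommGroup V]

/-- `[V, A]` -/
def cm (φ : H →* MulAut V) (A : Subgroup H) : Subgroup V :=
  Subgroup.closure {w | ∃ a ∈ A, ∃ v, φ a v * v⁻¹ = w}

theorem mem_cm {φ : H →* MulAut V} {A : Subgroup H} {a : H} (ha : a ∈ A) (v : V) :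
    φ a v * v⁻¹ ∈ cm φ A := Subgroup.subset_closure ⟨a, ha, v, rfl⟩

theorem cm_le {φ : H →* MulAut V} {A : Subgroup H} {W : Subgroup V} :
    cm φ A ≤ W ↔ ∀ a ∈ A, ∀ v, φ a v * v⁻¹ ∈ W := by
  constructor
  · intro h a ha v
    exact h (mem_cm ha v)
  · intro h
    refine (Subgroup.closure_le _).2 ?_
    rintro _ ⟨a, ha, v, rfl⟩
    exact h a ha v

theorem Quad.cj {φ : H →* MulAut V} {A : Subgroup H} (h : Quad φ A) (x : H) :
    Quad φ (S4FreeClosureBasic.cj x A) := by
  rintro _ ⟨a, ha, rfl⟩ _ ⟨b, hb, rfl⟩ v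
  have h1 := h a ha b hb (φ x⁻¹ v)
  show φ (x * a * x⁻¹) (φ (x * b * x⁻¹) v * v⁻¹) = φ (x * b * x⁻¹) v * v⁻¹
  have h2 : φ (x * b * x⁻¹) v * v⁻¹ = φ x (φ b (φ x⁻¹ v) * (φ x⁻¹ v)⁻¹) := by
    rw [map_mul (φ x), map_inv (φ x), apply_inv_cancel, map_mul φ, map_mul φ, MulAut.mul_apply,
      MulAut.mul_apply]
  rw [h2, map_mul φ, map_mul φ, MulAut.mul_apply, MulAut.mul_apply, inv_apply_cancel, h1]

theorem Quad.cm_le_fx {φ : H →* MulAut V} {A : Subgroup H} (h : Quad φ A) :
    cm φ A ≤ fx φ A := cm_le.2 fun b hb v a ha => h a ha b hb v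

variable [Finite H] [Finite V] {φ : H →* MulAut V} {T : Sylow 2 H} {U : Subgroup V}

omit [Finite H] [Finite V] in
theorem gen_le (h : Hyp φ T U) {W : Subgroup V} (hW : ∀ x : H, im φ x U ≤ W) : W = ⊤ := by
  have hY : (⨆ x : H, im φ x U) = ⊤ := by
    apply h.gen
    · refine le_trans ?_ (le_iSup (fun x : H => im φ x U) 1)
      intro u hu
      rw [mem_im]
      simpa using hu
    · intro g w hw
      have h1 : (⨆ x : H, im φ x U) ≤ (⨆ x : H, im φ x U).comap (φ g).toMonoidHom := by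
        refine iSup_le fun x => ?_
        rintro _ ⟨u, hu, rfl⟩
        refine (le_iSup (fun x : H => im φ x U) (g * x)) ⟨u, hu, ?_⟩
        show φ (g * x) u = φ g (φ x u)
        rw [map_mul, MulAut.mul_apply]
      exact h1 hw
  rw [eq_top_iff, ← hY]
  exact iSup_le hW

omit [Finite H] [Finite V] in
theorem core_le_cj (x : H) : pCore 2 H ≤ cj x (T : Subgroup H) := by
  have : (pCore 2 H).Normal := Cores.pCore_normal 2
  rw [← cj_eq_of_normal x (pCore 2 H)]
  exact cj_mono x (Cores.pCore_le_sylow T)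

theorem not_le_core (h : Hyp φ T U) {A : Subgroup H} (hA : Mx φ A) : ¬ A ≤ pCore 2 H := by
  intro hle
  have h1 : fx φ A = ⊤ := gen_le h fun x =>
    le_fx_iff.2 (hA.le_cn h.inj (hle.trans (core_le_cj x)) (h.unoff.cj x))
  have h2 : A ≤ cn φ ⊤ := le_fx_iff.1 (h1 ▸ le_rfl)
  rw [cn_top_of_inj h.inj] at h2
  exact hA.ne (le_bot_iff.1 h2)

omit [Finite V] in
theorem cj_ne_top (x : H) {X : Subgroup H} (hX : X ≠ ⊤) : cj x X ≠ ⊤ := by
  intro h1
  apply hX
  apply Subgroup.eq_top_of_card_eq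
  rw [← card_cj x X, h1, Subgroup.card_top]

theorem cj_not_le (h : Hyp φ T U) (hIH : S4FreeClosureUniq.IHyp.{u, v} (Nat.card H)) {A : Subgroup H}
    (hA : Mx φ A) (hAM : A ≤ stb φ (wst φ T)) {x : H} (hx : x ∉ stb φ (wst φ T)) :
    ¬ cj x A ≤ stb φ (wst φ T) := by
  intro hle
  have h1 := h.uniq hIH (hA.cj x) hle (cj_mono x hAM) (cj_ne_top x h.M_ne)
  have h2 : cj x (stb φ (wst φ T)) = stb φ (wst φ T) :=
    Subgroup.eq_of_le_of_card_ge h1 (card_cj x _).ge
  rw [cj_eq_iff] at h2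
  by_cases h3 : Subgroup.normalizer (stb φ (wst φ T) : Set H) = ⊤
  · have h4 : (stb φ (wst φ T)).Normal := Subgroup.normalizer_eq_top_iff.1 h3
    have h5 := inf_le_pCore T h.M_ne (h.max hIH) _ le_rfl
    rw [inf_eq_left.2 h.le_M] at h5
    obtain ⟨m, -, hm⟩ := exists_cj_le h.le_M hA.two hAM
    have : (pCore 2 H).Normal := Cores.pCore_normal 2
    apply not_le_core h (hA.cj m) (hm.trans h5)
  · exact hx (h.max hIH _ (h.le_M.trans Subgroup.le_normalizer) h3 h2)

theorem sup_eq_top (h : Hyp φ T U) (hIH : S4FreeClosureUniq.IHyp.{u, v} (Nat.card H)) {A : Subgroup H}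
    (hA : Mx φ A) (hAM : A ≤ stb φ (wst φ T)) {x : H} (hx : x ∉ stb φ (wst φ T)) :
    A ⊔ cj x A = ⊤ := by
  by_contra hne
  exact cj_not_le h hIH hA hAM hx (le_sup_right.trans (h.uniq hIH hA hAM le_sup_left hne))

omit [Finite H] [Finite V] in
theorem sup_cm_eq_top (h : Hyp φ T U) {A B : Subgroup H} (hAB : A ⊔ B = ⊤) (y : H) :
    im φ y U ⊔ (cm φ A ⊔ cm φ B) = ⊤ := by
  set C := cm φ A ⊔ cm φ B with hC
  let S : Subgroup H :=
    { carrier := {h | ∀ v, φ h v * v⁻¹ ∈ C}
      one_mem' := fun v => by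
        rw [map_one, MulAut.one_apply, mul_inv_cancel]
        exact one_mem _
      mul_mem' := fun {a b} ha hb v => by
        have h1 := mul_mem (ha (φ b v)) (hb v)
        rw [← mul_assoc, inv_mul_cancel_right] at h1
        rw [map_mul, MulAut.mul_apply]
        exact h1
      inv_mem' := fun {a} ha v => by
        have h1 := inv_mem (ha (φ a⁻¹ v))
        rw [apply_inv_cancel, mul_inv_rev, inv_inv] at h1
        exact h1 }
  have hS : S = ⊤ := by
    rw [eq_top_iff, ← hAB]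
    exact sup_le (fun a ha v => (le_sup_left : cm φ A ≤ C) (mem_cm ha v))
      (fun a ha v => (le_sup_right : cm φ B ≤ C) (mem_cm ha v))
  apply gen_le h
  rintro x _ ⟨u, hu, rfl⟩
  show φ x u ∈ _
  have h1 : (x * y⁻¹) ∈ S := hS ▸ Subgroup.mem_top _
  have h2 := h1 (φ y u)
  have h3 : φ (x * y⁻¹) (φ y u) = φ x u := by
    rw [map_mul, MulAut.mul_apply, inv_apply_cancel]
  rw [h3] at h2
  have h4 : φ x u = φ y u * (φ x u * (φ y u)⁻¹) := by
    rw [mul_comm, inv_mul_cancel_right]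
  rw [h4]
  exact Subgroup.mul_mem_sup ⟨u, hu, rfl⟩ h2

theorem hyp_false (h : Hyp φ T U) (hIH : S4FreeClosureUniq.IHyp.{u, v} (Nat.card H)) : False := by
  classical
  have hcoreN : (pCore 2 H).Normal := Cores.pCore_normal 2
  set M := stb φ (wst φ T) with hM
  set R₀ := pCore 2 H with hR₀
  have hR₀T : R₀ ≤ (T : Subgroup H) := Cores.pCore_le_sylow T
  obtain ⟨A₀, hA₀⟩ := h.exists_mx
  obtain ⟨A₁, -, hA₁, hq₁⟩ := hA₀.exists_quad h.inj h.exp
  obtain ⟨m, -, hm⟩ := exists_cj_le (T := T) (M := ⊤) le_top hA₁.two le_top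
  obtain ⟨A, hA, hq, hAT⟩ : ∃ A : Subgroup H, Mx φ A ∧ Quad φ A ∧ A ≤ (T : Subgroup H) :=
    ⟨cj m A₁, hA₁.cj m, Quad.cj hq₁ m, hm⟩
  clear hA₁ hq₁ hm hA₀
  have hAM : A ≤ M := hAT.trans h.le_M
  obtain ⟨g, hg⟩ : ∃ g, g ∉ M := by
    by_contra hcon
    push Not at hcon
    exact h.M_ne (eq_top_iff.2 fun x _ => hcon x)
  have hg' : g⁻¹ ∉ M := fun h' => hg (by rw [← inv_inv g]; exact inv_mem h')
  -- basic facts
  have hcmA : cm φ A ≤ fx φ A := Quad.cm_le_fx hq
  have hcmx : ∀ x, cm φ (cj x A) ≤ fx φ (cj x A) := fun x => Quad.cm_le_fx (Quad.cj hq x)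
  have hUA : U ≤ fx φ A := le_fx_iff.2 (hA.le_cn h.inj hAT h.unoff)
  have hUx : ∀ x, im φ x U ≤ fx φ (cj x A) := by
    intro x
    rw [fx_cj]
    exact Subgroup.map_mono hUA
  have htop : ∀ x, x ∉ M → A ⊔ cj x A = ⊤ := fun x hx => sup_eq_top h hIH hA hAM hx
  have him1 : im φ 1 U = U := by
    ext u
    rw [mem_im]
    simp
  have hsupfx : ∀ x, x ∉ M → fx φ A ⊔ fx φ (cj x A) = ⊤ := by
    intro x hx
    have h1 := sup_cm_eq_top h (htop x hx) 1
    rw [him1] at h1
    rw [eq_top_iff, ← h1]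
    exact sup_le (hUA.trans le_sup_left) (sup_le_sup hcmA (hcmx x))
  set V₀ := fx φ ⊤ with hV₀def
  have hV₀ : ∀ h, ∀ v ∈ V₀, φ h v = v := fun h v hv => hv h (Subgroup.mem_top h)
  have hinffx : ∀ x, x ∉ M → fx φ A ⊓ fx φ (cj x A) = V₀ := by
    intro x hx
    rw [← fx_sup, htop x hx]
  have hfxcm : fx φ A ≤ cm φ A ⊔ V₀ := by
    intro v hv
    have h1 := sup_cm_eq_top h (htop g hg) g
    have h2 : v ∈ im φ g U ⊔ (cm φ A ⊔ cm φ (cj g A)) := h1 ▸ Subgroup.mem_top v
    obtain ⟨u, hu, w, hw, rfl⟩ := Subgroup.mem_sup.1 h2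
    obtain ⟨c, hc, d, hd, rfl⟩ := Subgroup.mem_sup.1 hw
    have h3 : u * d ∈ V₀ := by
      rw [← hinffx g hg]
      refine ⟨?_, mul_mem (hUx g hu) (hcmx g hd)⟩
      have h4 : u * d = (u * (c * d)) * c⁻¹ := by
        rw [mul_comm c d, mul_assoc, mul_assoc, mul_inv_cancel, mul_one]
      rw [h4]
      exact Subgroup.mul_mem _ hv (Subgroup.inv_mem _ (hcmA hc))
    have h5 : u * (c * d) = c * (u * d) := mul_left_comm u c d
    rw [h5]
    exact Subgroup.mul_mem_sup hc h3
  have hV₀ne : V₀ ≠ ⊤ := by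
    intro h1
    have h2 : A ≤ cn φ ⊤ := fun a _ v _ => hV₀ a v (h1 ▸ Subgroup.mem_top v)
    rw [cn_top_of_inj h.inj] at h2
    exact hA.ne (le_bot_iff.1 h2)
  -- a maximal submodule
  let S : Set (Subgroup V) := {Y | Y ≠ ⊤ ∧ V₀ ≤ Y ∧ ∀ h : H, ∀ w ∈ Y, φ h w ∈ Y}
  obtain ⟨V₂, hV₂max⟩ := S.toFinite.exists_maximal ⟨V₀, hV₀ne, le_rfl, fun h w hw => by
    rw [hV₀ h w hw]; exact hw⟩
  obtain ⟨hV₂ne, hV₀₂, hV₂inv⟩ := hV₂max.prop
  have hmax : ∀ Y : Subgroup V, V₂ < Y → (∀ h, ∀ w ∈ Y, φ h w ∈ Y) → Y = ⊤ := by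
    intro Y hY hinv
    by_contra hne
    exact hY.not_ge (hV₂max.le_of_ge (⟨hne, hV₀₂.trans hY.le, hinv⟩ : Y ∈ S) hY.le)
  let ρ : H →* MulAut (V ⧸ V₂) := quotHom φ V₂ hV₂inv
  have hρ : ∀ (h : H) (v : V), ρ h (QuotientGroup.mk v) = QuotientGroup.mk (φ h v) :=
    fun h v => rfl
  have hρmk : ∀ (h : H) (v : V), ρ h (QuotientGroup.mk v) = QuotientGroup.mk v ↔
      φ h v * v⁻¹ ∈ V₂ := by
    intro h v
    rw [hρ, eq_comm, QuotientGroup.eq, mul_comm]
  -- fixed points on the quotient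
  have hρfix : ∀ q : V ⧸ V₂, (∀ h, ρ h q = q) → q = 1 := by
    let Y : Subgroup V := (fx ρ ⊤).comap (QuotientGroup.mk' V₂)
    have hYmem : ∀ v, v ∈ Y ↔ ∀ h, φ h v * v⁻¹ ∈ V₂ := by
      intro v
      constructor
      · intro hv h
        exact (hρmk h v).1 (hv h (Subgroup.mem_top h))
      · intro hv h _
        exact (hρmk h v).2 (hv h)
    have hVY : V₂ ≤ Y := by
      intro v hv
      rw [hYmem]
      intro h
      exact mul_mem (hV₂inv h v hv) (inv_mem hv)
    have hYinv : ∀ h, ∀ w ∈ Y, φ h w ∈ Y := by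
      intro h w hw
      rw [hYmem] at hw ⊢
      intro k
      have h1 := hw (k * h)
      have h2 := hw h
      have h3 : φ k (φ h w) * (φ h w)⁻¹ = (φ (k * h) w * w⁻¹) * (φ h w * w⁻¹)⁻¹ := by
        rw [map_mul φ, MulAut.mul_apply, mul_inv, inv_inv, mul_assoc, mul_left_comm w⁻¹,
          inv_mul_cancel, mul_one]
      rw [h3]
      exact mul_mem h1 (inv_mem h2)
    have hYV : Y = V₂ := by
      by_contra hne
      have h1 := hmax Y (lt_of_le_of_ne hVY (Ne.symm hne)) hYinv
      have h2 : ∀ v h, φ h v * v⁻¹ ∈ V₂ := fun v => (hYmem v).1 (h1 ▸ Subgroup.mem_top v)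
      have h3 : fx φ A ≤ V₂ := by
        refine hfxcm.trans (sup_le (cm_le.2 fun a _ v => h2 v a) hV₀₂)
      apply hV₂ne
      rw [eq_top_iff, ← hsupfx g hg]
      refine sup_le h3 ?_
      rw [fx_cj]
      rintro _ ⟨v, hv, rfl⟩
      exact hV₂inv g v (h3 hv)
    intro q
    obtain ⟨v, rfl⟩ := QuotientGroup.mk_surjective q
    intro hq
    have h1 : v ∈ Y := (hYmem v).2 fun h => (hρmk h v).1 (hq h)
    rw [hYV] at h1
    exact (QuotientGroup.eq_one_iff v).2 h1
  have hρtop : fx ρ ⊤ = ⊥ := by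
    rw [eq_bot_iff]
    intro q hq
    exact hρfix q fun h => hq h (Subgroup.mem_top h)
  have hρA : ∀ (B : Subgroup H) (v : V), v ∈ fx φ B → (QuotientGroup.mk v : V ⧸ V₂) ∈ fx ρ B := by
    intro B v hv b hb
    rw [hρ, hv b hb]
  have hρsup : ∀ x, x ∉ M → fx ρ A ⊔ fx ρ (cj x A) = ⊤ := by
    intro x hx
    rw [eq_top_iff]
    intro q _
    obtain ⟨v, rfl⟩ := QuotientGroup.mk_surjective q
    have h1 : v ∈ fx φ A ⊔ fx φ (cj x A) := hsupfx x hx ▸ Subgroup.mem_top v
    obtain ⟨a, ha, b, hb, rfl⟩ := Subgroup.mem_sup.1 h1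
    rw [QuotientGroup.mk_mul]
    exact Subgroup.mul_mem_sup (hρA A a ha) (hρA _ b hb)
  have hρinf : ∀ x, x ∉ M → fx ρ A ⊓ fx ρ (cj x A) = ⊥ := by
    intro x hx
    rw [← fx_sup, htop x hx, hρtop]
  -- elements of `A` outside `O₂(H)`
  have hd1 : ∀ a ∈ A, ∀ f : V ⧸ V₂, f ∉ fx ρ A → ρ a f = f → a ∈ R₀ := by
    intro a ha f hf haf
    have h1 : a ∈ M.normalCore := by
      intro b
      by_cases hb : b⁻¹ ∈ M
      · have hb' : b ∈ M := by
          rw [← inv_inv b]
          exact inv_mem hb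
        exact M.mul_mem (M.mul_mem hb' (hAM ha)) (M.inv_mem hb')
      · have h2 : f ∈ fx ρ A ⊔ fx ρ (cj b⁻¹ A) := hρsup _ hb ▸ Subgroup.mem_top f
        obtain ⟨f₁, hf₁, f₂, hf₂, rfl⟩ := Subgroup.mem_sup.1 h2
        have h3 : ρ a f₂ = f₂ := by
          rw [map_mul, hf₁ a ha] at haf
          exact mul_left_cancel haf
        have h4 : f₂ ≠ 1 := by
          rintro rfl
          rw [mul_one] at hf
          exact hf hf₁
        let S₂ : Subgroup H := (MulAction.stabilizer (MulAut (V ⧸ V₂)) f₂).comap ρ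
        have hS₂ : ∀ x, x ∈ S₂ ↔ ρ x f₂ = f₂ := fun x => Iff.rfl
        have h5 : S₂ ≠ ⊤ := by
          intro h6
          exact h4 (hρfix f₂ fun x => (hS₂ x).1 (h6 ▸ Subgroup.mem_top x))
        have h6 : cj b⁻¹ A ≤ S₂ := fun x hx => (hS₂ x).2 (hf₂ x hx)
        rw [cj_le_iff, inv_inv] at h6
        have h7 := h.uniq hIH hA hAM h6 (cj_ne_top b h5)
        apply h7
        rw [mem_cj, hS₂]
        have h8 : b⁻¹ * (b * a * b⁻¹) * b = a := by group
        rw [h8]
        exact h3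
    exact inf_le_pCore T h.M_ne (h.max hIH) M.normalCore M.normalCore_le ⟨hAT ha, h1⟩
  -- `[V, A ∩ O₂(H)] ≤ V₀`
  have hA1 : ∀ a ∈ A ⊓ R₀, ∀ v, φ a v * v⁻¹ ∈ V₀ := by
    rintro a ⟨ha, haR⟩ v
    let D : Subgroup V :=
      { carrier := {v | φ a v * v⁻¹ ∈ V₀}
        one_mem' := by
          show φ a 1 * (1 : V)⁻¹ ∈ V₀
          rw [map_one, inv_one, mul_one]
          exact one_mem _
        mul_mem' := by
          intro x y hx hy
          show φ a (x * y) * (x * y)⁻¹ ∈ V₀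
          rw [map_mul, mul_inv, mul_mul_mul_comm]
          exact mul_mem hx hy
        inv_mem' := by
          intro x hx
          show φ a x⁻¹ * x⁻¹⁻¹ ∈ V₀
          rw [map_inv, ← mul_inv]
          exact inv_mem hx }
    have hD : D = ⊤ := by
      apply gen_le h
      rintro x _ ⟨u, hu, rfl⟩
      show φ a (φ x u) * (φ x u)⁻¹ ∈ V₀
      by_cases hx : x ∈ M
      · have h1 : φ x u ∈ wst φ (T : Subgroup H) := (hx u).2 (le_wst h.unoff hu)
        have h2 := hA.le_cn h.inj hAT (unoff_wst (φ := φ) h.exp T.isPGroup')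
        rw [h2 ha _ h1, mul_inv_cancel]
        exact one_mem _
      · rw [← hinffx x hx]
        refine ⟨hcmA (mem_cm ha _), ?_⟩
        have h1 : φ a (φ x u) ∈ im φ x U :=
          (h.unoff.cj x).inv a (core_le_cj x haR) _ ⟨u, hu, rfl⟩
        exact Subgroup.mul_mem _ (hUx x h1) (Subgroup.inv_mem _ (hUx x ⟨u, hu, rfl⟩))
    have : v ∈ D := hD ▸ Subgroup.mem_top v
    exact this
  -- counting on the quotient
  set q := R₀.relIndex A with hqdef
  set mm := Nat.card (fx ρ A) with hmdef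
  have hd3 : ∀ x, x ∉ M → ∀ f ∈ fx ρ (cj x A), f ≠ 1 → q ≤ mm ∧
      (mm ≤ q → ∀ w ∈ fx ρ A, ∃ a ∈ A, ρ a f = f * w) := by
    intro x hx f hf hf1
    have hfA : f ∉ fx ρ A := by
      intro h1
      have h2 : f ∈ fx ρ A ⊓ fx ρ (cj x A) := ⟨h1, hf⟩
      rw [hρinf x hx] at h2
      exact hf1 h2
    have hmem : ∀ a : A, ρ a f * f⁻¹ ∈ fx ρ A := by
      obtain ⟨v, rfl⟩ := QuotientGroup.mk_surjective f
      intro a b hb
      have h1 : ρ a (QuotientGroup.mk v) * (QuotientGroup.mk v)⁻¹ =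
        (QuotientGroup.mk (φ a v * v⁻¹) : V ⧸ V₂) := rfl
      rw [h1, hρ, hq b hb a a.2 v]
    let F : A → fx ρ A := fun a => ⟨ρ a f * f⁻¹, hmem a⟩
    have hF : ∀ a b : A, F a = F b ↔ (a : H)⁻¹ * b ∈ R₀ := by
      intro a b
      have h1 : F a = F b ↔ ρ ((a : H)⁻¹ * b) f = f := by
        rw [Subtype.ext_iff]
        show ρ a f * f⁻¹ = ρ b f * f⁻¹ ↔ _
        rw [mul_left_inj, map_mul ρ, MulAut.mul_apply]
        constructor
        · intro h2
          rw [← h2, inv_apply_cancel]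
        · intro h2
          have h3 := congrArg (ρ a) h2
          rw [apply_inv_cancel] at h3
          exact h3.symm
      rw [h1]
      constructor
      · intro h2
        exact hd1 _ (A.mul_mem (A.inv_mem a.2) b.2) f hfA h2
      · intro h2
        obtain ⟨v, rfl⟩ := QuotientGroup.mk_surjective f
        rw [hρmk]
        exact hV₀₂ (hA1 _ ⟨A.mul_mem (A.inv_mem a.2) b.2, h2⟩ v)
    let θ : A ⧸ (R₀.subgroupOf A) → fx ρ A := fun z => Quotient.liftOn' z F (by
      intro a b hab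
      rw [QuotientGroup.leftRel_apply] at hab
      exact (hF a b).2 hab)
    have hθ : ∀ a : A, θ (QuotientGroup.mk a) = F a := fun a => rfl
    have hθinj : Function.Injective θ := by
      intro y z hyz
      obtain ⟨a, rfl⟩ := QuotientGroup.mk_surjective y
      obtain ⟨b, rfl⟩ := QuotientGroup.mk_surjective z
      rw [hθ, hθ, hF] at hyz
      exact QuotientGroup.eq.2 hyz
    have hle : q ≤ mm := Nat.card_le_card_of_injective θ hθinj
    refine ⟨hle, fun hge w hw => ?_⟩
    have hbij : Function.Bijective θ :=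
      (Nat.bijective_iff_injective_and_card θ).2 ⟨hθinj, le_antisymm hle hge⟩
    obtain ⟨z, hz⟩ := hbij.2 ⟨w, hw⟩
    obtain ⟨a, rfl⟩ := QuotientGroup.mk_surjective z
    refine ⟨a, a.2, ?_⟩
    have h1 : ρ a f * f⁻¹ = w := congrArg Subtype.val hz
    rw [← h1, mul_comm f, inv_mul_cancel_right]
  have hcardB : Nat.card (fx ρ (cj g A)) = mm := by
    rw [fx_cj, card_im]
  have hρne : fx ρ A ≠ ⊥ := by
    intro h1
    have h2 : fx ρ (cj g A) = ⊥ := by
      apply Subgroup.card_eq_one.1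
      rw [hcardB, hmdef, h1, Subgroup.card_bot]
    have h3 := hρsup g hg
    rw [h1, h2, bot_sup_eq] at h3
    apply hV₂ne
    rw [eq_top_iff]
    intro v _
    have h4 : (QuotientGroup.mk v : V ⧸ V₂) ∈ (⊥ : Subgroup (V ⧸ V₂)) := h3 ▸ Subgroup.mem_top _
    exact (QuotientGroup.eq_one_iff v).1 (Subgroup.mem_bot.1 h4)
  have hlt : q < mm := by
    by_contra hcon
    push Not at hcon
    obtain ⟨⟨w, hw⟩, hw1'⟩ := Subgroup.ne_bot_iff_exists_ne_one.1 hρne
    have hw1 : w ≠ 1 := fun h => hw1' (Subtype.ext h)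
    have hf : ρ g w ∈ fx ρ (cj g A) := by
      rw [fx_cj]
      exact ⟨w, hw, rfl⟩
    have hf1 : ρ g w ≠ 1 := fun h1 => hw1 ((ρ g).injective (by rw [h1, map_one]))
    obtain ⟨a, ha, hav⟩ := (hd3 g hg _ hf hf1).2 hcon w hw
    have hw2 : ρ g⁻¹ w ∈ fx ρ (cj g⁻¹ A) := by
      rw [fx_cj]
      exact ⟨w, hw, rfl⟩
    have hw3 : ρ g⁻¹ w ≠ 1 := fun h1 => hw1 ((ρ g⁻¹).injective (by rw [h1, map_one]))
    obtain ⟨b, hb, hbv⟩ := (hd3 g⁻¹ hg' _ hw2 hw3).2 hcon w hw
    have hbw : ρ (g * b * g⁻¹) w = w * ρ g w := by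
      rw [map_mul, map_mul, MulAut.mul_apply, MulAut.mul_apply, hbv, map_mul, apply_inv_cancel]
    refine not_noS3 (φ := ρ) (v := ρ g w) (w := w) (a := a) (b := g * b * g⁻¹) ?_ ?_ hf1 hw1 ?_ hav
      (hw a ha) hbw (hf _ (conj_mem_cj hb)) (noS3_quot h.noS3 V₂ hV₂inv)
    · obtain ⟨v, hv⟩ := QuotientGroup.mk_surjective (ρ g w)
      rw [← hv, ← QuotientGroup.mk_mul, h.exp]
      rfl
    · obtain ⟨v, hv⟩ := QuotientGroup.mk_surjective w
      rw [← hv, ← QuotientGroup.mk_mul, h.exp]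
      rfl
    · intro h1
      have h2 : w ∈ fx ρ A ⊓ fx ρ (cj g A) := ⟨hw, h1 ▸ hf⟩
      rw [hρinf g hg] at h2
      exact hw1 h2
  have hcardF : mm * mm ≤ Nat.card (V ⧸ V₂) := by
    have h1 := Timmesfeld.card_mul_card_le (B₁ := fx ρ A) (B₂ := fx ρ (cj g A)) (B₃ := ⊤)
      le_top le_top
    rwa [hρinf g hg, Subgroup.card_bot, one_mul, hcardB, Subgroup.card_top] at h1
  have hqq : q * q < Nat.card (V ⧸ V₂) := lt_of_lt_of_le (Nat.mul_self_lt_mul_self hlt) hcardF
  -- the normal subgroup `R`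
  set A₁ := A ⊓ R₀ with hA₁def
  set B₁ := cj g A₁ with hB₁def
  set R := A₁ ⊔ B₁ with hRdef
  have hR₀cj : ∀ x b : H, b ∈ R₀ → x * b * x⁻¹ ∈ R₀ := fun x b hb => hcoreN.conj_mem b hb x
  have hA₁R₀ : A₁ ≤ R₀ := inf_le_right
  have hB₁R₀ : B₁ ≤ R₀ := by
    rintro _ ⟨b, hb, rfl⟩
    exact hR₀cj g b hb.2
  have hRR₀ : R ≤ R₀ := sup_le hA₁R₀ hB₁R₀
  have hV₀cj : ∀ (x r : H), (∀ v, φ r v * v⁻¹ ∈ V₀) → ∀ v, φ (x * r * x⁻¹) v * v⁻¹ ∈ V₀ := by
    intro x r hr v
    have h1 := hr (φ x⁻¹ v)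
    have h2 : φ (x * r * x⁻¹) v * v⁻¹ = φ x (φ r (φ x⁻¹ v) * (φ x⁻¹ v)⁻¹) := by
      rw [map_mul (φ x), map_inv (φ x), apply_inv_cancel, map_mul φ, map_mul φ, MulAut.mul_apply,
        MulAut.mul_apply]
    rw [h2, hV₀ x _ h1]
    exact h1
  have hB1 : ∀ b ∈ B₁, ∀ v, φ b v * v⁻¹ ∈ V₀ := by
    rintro _ ⟨b, hb, rfl⟩
    exact hV₀cj g b (hA1 b hb)
  have hn1 : ∀ r ∈ R₀, (∀ v, φ r v * v⁻¹ ∈ V₀) → ∀ a ∈ A, a * r * a⁻¹ * r⁻¹ ∈ A₁ := by
    intro r hr hrv a ha
    set c := a * r * a⁻¹ * r⁻¹ with hc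
    have hcR₀ : c ∈ R₀ := R₀.mul_mem (hR₀cj a r hr) (R₀.inv_mem hr)
    let l : V →* V :=
      { toFun := fun v => φ r v * v⁻¹
        map_one' := by rw [map_one, inv_one, mul_one]
        map_mul' := fun v w => by rw [map_mul, mul_inv, mul_mul_mul_comm] }
    have hlV₀ : ∀ v, l v ∈ V₀ := hrv
    have hrl : ∀ v, φ r v = l v * v := fun v => by
      show φ r v = φ r v * v⁻¹ * v
      rw [inv_mul_cancel_right]
    have hrl' : ∀ v, φ r⁻¹ v = (l v)⁻¹ * v := by
      intro v
      apply (φ r).injective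
      rw [apply_inv_cancel, map_mul, hV₀ r _ (inv_mem (hlV₀ v)), hrl, inv_mul_cancel_left]
    have hcv : ∀ v, φ c v = l (φ a⁻¹ v * v⁻¹) * v := by
      intro v
      have h1 : φ c v = φ a (φ r (φ a⁻¹ (φ r⁻¹ v))) := by
        rw [hc, map_mul φ, map_mul φ, map_mul φ]
        rfl
      rw [h1, hrl', map_mul (φ a⁻¹), hV₀ a⁻¹ _ (inv_mem (hlV₀ v)), map_mul (φ r),
        hV₀ r _ (inv_mem (hlV₀ v)), hrl, map_mul (φ a), map_mul (φ a), hV₀ a _ (inv_mem (hlV₀ v)),
        hV₀ a _ (hlV₀ _), apply_inv_cancel, map_mul l, map_inv l, mul_comm (l (φ a⁻¹ v)) (l v)⁻¹,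
        mul_assoc]
    have hcfx : ∀ v ∈ fx φ A, φ c v = v := by
      intro v hv
      rw [hcv, hv _ (A.inv_mem ha), mul_inv_cancel, map_one, one_mul]
    have hccomm : ∀ b ∈ A, b * c = c * b := by
      intro b hb
      apply h.inj
      ext v
      rw [map_mul φ b c, map_mul φ c b, MulAut.mul_apply, MulAut.mul_apply, hcv, hcv (φ b v),
        map_mul (φ b), hV₀ b _ (hlV₀ _)]
      congr 2
      have h1 : φ a⁻¹ (φ b v) = φ b (φ a⁻¹ v) := by
        rw [← MulAut.mul_apply, ← MulAut.mul_apply, ← map_mul, ← map_mul,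
          hA.ab _ (A.inv_mem ha) b hb]
      rw [h1, ← map_inv, ← map_mul, hq b hb _ (A.inv_mem ha)]
    have hcA : c ∈ A := by
      set P := A ⊔ Subgroup.zpowers c with hP
      have hAcA : A ≤ Subgroup.centralizer (A : Set H) := by
        intro a ha
        rw [Subgroup.mem_centralizer_iff]
        intro b hb
        exact hA.ab b hb a ha
      have hcc : Subgroup.zpowers c ≤ Subgroup.centralizer (A : Set H) := by
        rw [Subgroup.zpowers_le, Subgroup.mem_centralizer_iff]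
        exact hccomm
      have h1 : A ≤ Subgroup.centralizer (P : Set H) := by
        rw [Subgroup.le_centralizer_iff]
        exact sup_le hAcA hcc
      have h2 : Subgroup.zpowers c ≤ Subgroup.centralizer (P : Set H) := by
        rw [Subgroup.zpowers_le, Subgroup.mem_centralizer_iff]
        have h3 : P ≤ Subgroup.centralizer ({c} : Set H) := by
          refine sup_le ?_ ?_
          · intro b hb
            rw [Subgroup.mem_centralizer_singleton_iff]
            exact hccomm b hb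
          · rw [Subgroup.zpowers_le, Subgroup.mem_centralizer_singleton_iff]
        intro b hb
        exact Subgroup.mem_centralizer_singleton_iff.1 (h3 hb)
      have h3 : P ≤ Subgroup.centralizer (P : Set H) := sup_le h1 h2
      have hPT : P ≤ (T : Subgroup H) := sup_le hAT (by
        rw [Subgroup.zpowers_le]
        exact hR₀T hcR₀)
      have h4 := hA.max P (T.isPGroup'.to_le hPT) (fun x hx y hy =>
        (Subgroup.mem_centralizer_iff.1 (h3 hy)) x hx)
      have h5 : fx φ P = fx φ A := by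
        rw [hP, fx_sup, inf_eq_left, le_fx_iff, Subgroup.zpowers_le]
        exact hcfx
      rw [h5] at h4
      have h6 := Nat.le_of_mul_le_mul_right h4 Nat.card_pos
      have h7 : A = P := Subgroup.eq_of_le_of_card_ge le_sup_left h6
      rw [h7]
      exact (le_sup_right : Subgroup.zpowers c ≤ P) (Subgroup.mem_zpowers c)
    exact ⟨hcA, hcR₀⟩
  have hRnorm : R.Normal := by
    rw [← Subgroup.normalizer_eq_top_iff, eq_top_iff, ← htop g hg]
    have hcjR : ∀ x, cj x R ≤ R → x ∈ Subgroup.normalizer (R : Set H) := by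
      intro x hx
      rw [← cj_eq_iff]
      exact Subgroup.eq_of_le_of_card_ge hx (card_cj x R).ge
    refine sup_le ?_ ?_
    · intro a ha
      apply hcjR
      rw [cj_le_iff]
      refine sup_le ?_ ?_
      · rw [← cj_le_iff]
        rintro _ ⟨b, hb, rfl⟩
        have h1 : (MulAut.conj a).toMonoidHom b = b := by
          show a * b * a⁻¹ = b
          rw [hA.ab a ha b hb.1, mul_inv_cancel_right]
        rw [h1]
        exact (le_sup_left : A₁ ≤ R) hb
      · rw [← cj_le_iff]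
        rintro _ ⟨b, hb, rfl⟩
        show a * b * a⁻¹ ∈ R
        have h1 := hn1 b (hB₁R₀ hb) (hB1 b hb) a ha
        have h2 : a * b * a⁻¹ = (a * b * a⁻¹ * b⁻¹) * b := by group
        rw [h2]
        exact Subgroup.mul_mem_sup h1 hb
    · rintro _ ⟨a, ha, rfl⟩
      apply hcjR
      show cj (g * a * g⁻¹) R ≤ R
      rw [cj_le_iff]
      refine sup_le ?_ ?_
      · rw [← cj_le_iff]
        rintro _ ⟨b, hb, rfl⟩
        show (g * a * g⁻¹) * b * (g * a * g⁻¹)⁻¹ ∈ R
        have hb' : g⁻¹ * b * g ∈ R₀ := by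
          have := hR₀cj g⁻¹ b hb.2
          rwa [inv_inv] at this
        have h1 := hn1 (g⁻¹ * b * g) hb' (by
          have := hV₀cj g⁻¹ b (hA1 b hb)
          rwa [inv_inv] at this) a ha
        have h2 : (g * a * g⁻¹) * b * (g * a * g⁻¹)⁻¹ =
            (g * (a * (g⁻¹ * b * g) * a⁻¹ * (g⁻¹ * b * g)⁻¹) * g⁻¹) * b := by group
        rw [h2]
        exact R.mul_mem ((le_sup_right : B₁ ≤ R) (conj_mem_cj h1)) ((le_sup_left : A₁ ≤ R) hb)
      · rw [← cj_le_iff]
        rintro _ ⟨_, ⟨b, hb, rfl⟩, rfl⟩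
        show (g * a * g⁻¹) * (g * b * g⁻¹) * (g * a * g⁻¹)⁻¹ ∈ R
        have h1 : (g * a * g⁻¹) * (g * b * g⁻¹) * (g * a * g⁻¹)⁻¹ = g * (a * b * a⁻¹) * g⁻¹ := by
          group
        rw [h1, hA.ab a ha b hb.1, mul_inv_cancel_right]
        exact (le_sup_right : B₁ ≤ R) (conj_mem_cj hb)
  have hR₀' : ∀ r ∈ R, ∀ v, φ r v * v⁻¹ ∈ V₀ := by
    let Q : Subgroup H :=
      { carrier := {h | ∀ v, φ h v * v⁻¹ ∈ V₀}
        one_mem' := fun v => by
          rw [map_one, MulAut.one_apply, mul_inv_cancel]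
          exact one_mem _
        mul_mem' := fun {a b} ha hb v => by
          have h1 := mul_mem (ha (φ b v)) (hb v)
          rw [← mul_assoc, inv_mul_cancel_right] at h1
          rw [map_mul, MulAut.mul_apply]
          exact h1
        inv_mem' := fun {a} ha v => by
          have h1 := inv_mem (ha (φ a⁻¹ v))
          rw [apply_inv_cancel, mul_inv_rev, inv_inv] at h1
          exact h1 }
    have h1 : R ≤ Q := sup_le hA1 hB1
    exact fun r hr => h1 hr
  have hcardR : Nat.card A₁ * Nat.card A₁ ≤ Nat.card R := by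
    have h1 := Timmesfeld.card_mul_card_le (B₁ := A₁) (B₂ := B₁) (B₃ := R) le_sup_left le_sup_right
    have h2 : A₁ ⊓ B₁ = ⊥ := by
      rw [eq_bot_iff]
      rintro x ⟨hx1, hx2⟩
      have h3 : x ∈ cj g A := cj_mono g inf_le_left hx2
      have h4 : x ∈ cn φ ⊤ := by
        rw [← hsupfx g hg, cn_sup]
        exact ⟨fun v hv => hv x hx1.1, fun v hv => hv x h3⟩
      rwa [cn_top_of_inj h.inj] at h4
    rwa [h2, Subgroup.card_bot, one_mul, hB₁def, card_cj] at h1
  have hunoff : Unoff φ R₀ ⊤ := by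
    have h1 : wst φ R₀ = ⊤ := gen_le h fun x =>
      le_wst ((h.unoff.cj x).mono (core_le_cj x))
    rw [← h1]
    exact unoff_wst h.exp (T.isPGroup'.to_le hR₀T)
  have hoff : ∀ E ≤ R, E ≠ ⊥ → Nat.card E * Nat.card (fx φ E) < Nat.card V := by
    intro E hE hEne
    by_contra hcon
    push Not at hcon
    apply hEne
    have h1 := hunoff.off E (hE.trans hRR₀) (by
      intro a ha b hb v _
      have h2 : ∀ r, (∀ w, φ r w * w⁻¹ ∈ V₀) → ∀ w, ∃ z ∈ V₀, φ r w = z * w := fun r hr w =>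
        ⟨_, hr w, by rw [inv_mul_cancel_right]⟩
      obtain ⟨z, hz, hz'⟩ := h2 a (hR₀' a (hE ha)) v
      obtain ⟨y, hy, hy'⟩ := h2 b (hR₀' b (hE hb)) v
      rw [hy', hz', map_mul, map_mul, hV₀ a y hy, hV₀ b z hz, hy', hz', mul_left_comm]) (by
      rw [ms_top_of_inj h.inj, Subgroup.card_top]
      exact hcon)
    rw [cn_top_of_inj h.inj] at h1
    exact le_bot_iff.1 h1
  have key := card_quot_mul_card_le h.inj h.exp V₀ V₂ hV₀ hV₀₂ hV₂ne hV₂inv hmax R
    (fun x r hr => hRnorm.conj_mem r hr x) hR₀' hoff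
  have hcardA : Nat.card A = q * Nat.card A₁ := by
    have h1 := Subgroup.card_eq_card_quotient_mul_card_subgroup (R₀.subgroupOf A)
    rw [h1, hqdef, hA₁def]
    congr 1
    rw [← Subgroup.inf_subgroupOf_left]
    exact Nat.card_congr (Subgroup.subgroupOfEquivOfLe inf_le_left).toEquiv
  have hV1 := hA.card
  have hV2 : Nat.card (fx φ A) * Nat.card (fx φ A) ≤ Nat.card V₀ * Nat.card V := by
    have h1 := Timmesfeld.card_mul_card_le (B₁ := fx φ A) (B₂ := fx φ (cj g A)) (B₃ := ⊤)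
      le_top le_top
    rwa [hinffx g hg, fx_cj, card_im, Subgroup.card_top] at h1
  have hVpos : 0 < Nat.card V := Nat.card_pos
  have hV₀pos : 0 < Nat.card V₀ := Nat.card_pos
  have hRpos : 0 < Nat.card R := Nat.card_pos
  have hV3 : Nat.card V ≤ Nat.card A * Nat.card A * Nat.card V₀ := by
    refine Nat.le_of_mul_le_mul_right (c := Nat.card V) ?_ hVpos
    calc Nat.card V * Nat.card V
        ≤ (Nat.card A * Nat.card (fx φ A)) * (Nat.card A * Nat.card (fx φ A)) :=
          Nat.mul_le_mul hV1 hV1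
      _ = Nat.card A * Nat.card A * (Nat.card (fx φ A) * Nat.card (fx φ A)) := by ring
      _ ≤ Nat.card A * Nat.card A * (Nat.card V₀ * Nat.card V) := Nat.mul_le_mul_left _ hV2
      _ = Nat.card A * Nat.card A * Nat.card V₀ * Nat.card V := by ring
  have hfinal : Nat.card V < Nat.card V := by
    calc Nat.card V ≤ Nat.card A * Nat.card A * Nat.card V₀ := hV3
      _ = (q * q) * (Nat.card A₁ * Nat.card A₁) * Nat.card V₀ := by
        rw [hcardA]
        ring
      _ ≤ (q * q) * Nat.card R * Nat.card V₀ :=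
        Nat.mul_le_mul_right _ (Nat.mul_le_mul_left _ hcardR)
      _ < Nat.card (V ⧸ V₂) * Nat.card R * Nat.card V₀ :=
        Nat.mul_lt_mul_of_pos_right (Nat.mul_lt_mul_of_pos_right hqq hRpos) hV₀pos
      _ ≤ Nat.card V := key
  exact lt_irrefl _ hfinal

end main

section transfer

variable {H : Type u} [Group H] {V : Type v} [CommGroup V]

theorem unoff_map_iff {H' : Type*} [Group H'] {φ : H →* MulAut V} {φ' : H' →* MulAut V}
    (π : H →* H') (hφ : ∀ h, φ' (π h) = φ h) (T : Subgroup H) (U : Subgroup V) :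
    Unoff φ T U ↔ Unoff φ' (T.map π) U := by
  have hcn : cn φ U = (cn φ' U).comap π := by
    ext h
    rw [Subgroup.mem_comap, mem_cn, mem_cn]
    simp only [hφ]
  have hfx : ∀ A : Subgroup H, fx φ A = fx φ' (A.map π) := by
    intro A
    ext v
    constructor
    · rintro h _ ⟨a, ha, rfl⟩
      rw [hφ]
      exact h a ha
    · intro h a ha
      rw [← hφ]
      exact h _ ⟨a, ha, rfl⟩
  have hms : ∀ A : Subgroup H, ms φ U A = ms φ' U (A.map π) := by
    intro A
    unfold ms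
    rw [hcn, Subgroup.relIndex_comap, hfx]
  have hab : ∀ A : Subgroup H, AbOn φ A U ↔ AbOn φ' (A.map π) U := by
    intro A
    constructor
    · rintro h _ ⟨a, ha, rfl⟩ _ ⟨b, hb, rfl⟩ u hu
      rw [hφ, hφ]
      exact h a ha b hb u hu
    · intro h a ha b hb u hu
      rw [← hφ, ← hφ]
      exact h _ ⟨a, ha, rfl⟩ _ ⟨b, hb, rfl⟩ u hu
  constructor
  · intro h
    refine ⟨?_, ?_⟩
    · rintro _ ⟨t, ht, rfl⟩ u hu
      rw [hφ]
      exact h.inv t ht u hu
    · intro A' hA' hab' hle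
      have h1 : (T ⊓ A'.comap π).map π = A' := by
        ext a
        constructor
        · rintro ⟨b, ⟨_, hb⟩, rfl⟩
          exact hb
        · intro ha
          obtain ⟨t, ht, rfl⟩ := hA' ha
          exact ⟨t, ⟨ht, ha⟩, rfl⟩
      have h2 := h.off (T ⊓ A'.comap π) inf_le_left (by rw [hab, h1]; exact hab') (by
        rw [hms, h1]; exact hle)
      rw [hcn, ← Subgroup.map_le_iff_le_comap, h1] at h2
      exact h2
  · intro h
    refine ⟨fun t ht u hu => by rw [← hφ]; exact h.inv _ ⟨t, ht, rfl⟩ u hu,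
      fun A hA hab' hle => ?_⟩
    rw [hcn, ← Subgroup.map_le_iff_le_comap]
    exact h.off _ (Subgroup.map_mono hA) ((hab A).1 hab') (by rw [← hms]; exact hle)

theorem noS3_of_surjective {H' : Type*} [Group H'] {φ : H →* MulAut V} {φ' : H' →* MulAut V}
    (π : H →* H') (hπ : Function.Surjective π) (hφ : ∀ h, φ' (π h) = φ h) (h : NoS3 φ) :
    NoS3 φ' := by
  rintro ⟨D, ψ, hψ, hker⟩
  apply h
  let p : D.comap π →* D := (π.comp (D.comap π).subtype).codRestrict D (fun x => x.2)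
  refine ⟨D.comap π, ψ.comp p, ?_, ?_⟩
  · intro σ
    obtain ⟨d, rfl⟩ := hψ σ
    obtain ⟨x, hx⟩ := hπ d
    exact ⟨⟨x, by rw [Subgroup.mem_comap, hx]; exact d.2⟩,
      congrArg ψ (Subtype.ext hx)⟩
  · intro d hd
    apply hker
    show φ' (π d) = 1
    rw [hφ, hd]

end transfer

theorem ihyp (n : ℕ) : S4FreeClosureUniq.IHyp.{u, v} n := by
  induction n with
  | zero =>
    intro H _ _ V _ _ φ T U h
    exact absurd h (Nat.not_lt_zero _)
  | succ n ih =>
    intro H _ _ V _ _ φ T U hn hexp hS3 hU hgen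
    have : Fact (Nat.Prime 2) := ⟨Nat.prime_two⟩
    by_contra hcon
    let π := QuotientGroup.mk' φ.ker
    have hπ : Function.Surjective π := QuotientGroup.mk'_surjective _
    let φ' : H ⧸ φ.ker →* MulAut V := QuotientGroup.kerLift φ
    have hφ : ∀ h, φ' (π h) = φ h := fun h => rfl
    have hle : Nat.card (H ⧸ φ.ker) ≤ Nat.card H := Nat.card_le_card_of_surjective π hπ
    refine hyp_false (φ := φ') (T := T.mapSurjective hπ) (U := U) ⟨hexp,
      QuotientGroup.kerLift_injective φ, noS3_of_surjective π hπ hφ hS3,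
      (unoff_map_iff π hφ T U).1 hU, ?_, ?_⟩ ?_
    · intro W hUW hW
      exact hgen W hUW fun h w hw => hW (π h) w hw
    · intro h
      exact hcon ((unoff_map_iff π hφ T ⊤).2 h)
    · intro H' _ _ V' _ _ ψ T' U' hlt
      exact ih H' V' ψ T' U' (by omega)

/-- **The closure theorem.** -/
theorem unoff_top {H : Type u} [Group H] [Finite H] {V : Type v} [CommGroup V] [Finite V]
    {φ : H →* MulAut V} (hexp : ∀ v : V, v * v = 1) (hS3 : NoS3 φ) (T : Sylow 2 H)
    {U : Subgroup V} (hU : Unoff φ T U)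
    (hgen : ∀ W : Subgroup V, U ≤ W → (∀ h : H, ∀ w ∈ W, φ h w ∈ W) → W = ⊤) :
    Unoff φ T ⊤ :=
  ihyp (Nat.card H + 1) H V φ T U (Nat.lt_succ_self _) hexp hS3 hU hgen

/-- The closure theorem for the submodule generated by an unoffended subgroup. -/
theorem unoff_iSup {H : Type u} [Group H] [Finite H] {V : Type v} [CommGroup V] [Finite V]
    {φ : H →* MulAut V} (hexp : ∀ v : V, v * v = 1) (hS3 : NoS3 φ) (T : Sylow 2 H)
    {U : Subgroup V} (hU : Unoff φ T U) : Unoff φ T (⨆ x : H, im φ x U) := by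
  set Y : Subgroup V := ⨆ x : H, im φ x U with hY
  have hUY : U ≤ Y := by
    refine le_trans ?_ (le_iSup (fun x : H => im φ x U) 1)
    intro u hu
    rw [mem_im]
    simpa using hu
  have hYinv : ∀ g, ∀ w ∈ Y, φ g w ∈ Y := by
    intro g w hw
    have h1 : Y ≤ Y.comap (φ g).toMonoidHom := by
      refine iSup_le fun x => ?_
      rintro _ ⟨u, hu, rfl⟩
      refine (le_iSup (fun x : H => im φ x U) (g * x)) ⟨u, hu, ?_⟩
      show φ (g * x) u = φ g (φ x u)
      rw [map_mul, MulAut.mul_apply]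
    exact h1 hw
  have hYinv' : ∀ x : (⊤ : Subgroup H), ∀ w ∈ Y, (φ.comp (⊤ : Subgroup H).subtype) x w ∈ Y :=
    fun x w hw => hYinv x w hw
  have hsub : (((T.subtype (N := ⊤) le_top : Sylow 2 (⊤ : Subgroup H))) :
      Subgroup (⊤ : Subgroup H)) = (T : Subgroup H).subgroupOf ⊤ := rfl
  have key := unoff_top (φ := subHom (φ.comp (⊤ : Subgroup H).subtype) Y hYinv')
    (fun y => Subtype.ext (hexp y)) (noS3_sub hS3 ⊤ Y hYinv') (T.subtype (N := ⊤) le_top)
    (U := U.subgroupOf Y) (by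
      rw [hsub, unoff_subHom_iff φ ⊤ Y hYinv' hUY le_top]
      exact hU) (by
      intro W' hWW' hW'
      rw [eq_top_iff]
      rintro ⟨y, hy⟩ -
      have h1 : Y ≤ W'.map Y.subtype := by
        refine iSup_le fun q => ?_
        rintro _ ⟨w, hw, rfl⟩
        have h2 : (⟨w, hUY hw⟩ : Y) ∈ W' := hWW' hw
        exact ⟨_, hW' ⟨q, Subgroup.mem_top q⟩ _ h2, rfl⟩
      obtain ⟨z, hz, hzy⟩ := h1 hy
      have h3 : z = ⟨y, hy⟩ := Subtype.ext hzy
      rw [← h3]
      exact hz)
  rwa [hsub, ← Subgroup.subgroupOf_self, unoff_subHom_iff φ ⊤ Y hYinv' le_rfl le_top] at key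

end Cfsg.Agent.PLocal.S4FreeClosure
end
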