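import Mathlib
import Cfsg.Agent.Lib.CoprimeCommutator
import Cfsg.Agent.PLocal.SFourOffender
set_option linter.all false

set_option autoImplicit false

/-!
# Groups without sections `S₄`: no sections `S₃` on elementary abelian sections

If the finite group `G` has no section isomorphic to `S₄` and acts by conjugation on an elementary
abelian `2`-section `V` then the image of `G` in `Aut V` has no section `S₃`.
-/

namespace Cfsg.Agent.PLocal.S4FreeNoS3

open Cfsg.Agent.PLocal.SFourBasic Cfsg.Agent.PLocal.SFourOffender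
open scoped commutatorElement

universe u v

/-- `G` has no section isomorphic to `S₄` (literal form of `S0665`). -/
def S4Free (G : Type u) [Group G] : Prop :=
  ¬ ∃ (K R : Subgroup G) (hR : (R.subgroupOf K).Normal),
    Nonempty ((K ⧸ R.subgroupOf K) ≃* Equiv.Perm (Fin 4))

theorem not_s4Free_of_surjective {G : Type u} [Group G] (K : Subgroup G)
    (Θ : K →* Equiv.Perm (Fin 4)) (hΘ : Function.Surjective Θ) : ¬ S4Free G := by
  intro h
  apply h
  have hR : (Θ.ker.map K.subtype).subgroupOf K = Θ.ker :=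
    Subgroup.comap_map_eq_self_of_injective K.subtype_injective Θ.ker
  refine ⟨K, Θ.ker.map K.subtype, by rw [hR]; infer_instance, ?_⟩
  have hN : ((Θ.ker.map K.subtype).subgroupOf K).Normal := by rw [hR]; infer_instance
  exact ⟨(QuotientGroup.quotientMulEquivOfEq hR).trans
    (QuotientGroup.quotientKerEquivOfSurjective Θ hΘ)⟩

/-! ### The permutations -/

/-- three-cycle `(1 2 3)` -/
def sy : Equiv.Perm (Fin 4) := Equiv.swap 1 2 * Equiv.swap 2 3
/-- transposition `(2 3)` -/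
def st : Equiv.Perm (Fin 4) := Equiv.swap 2 3
/-- translation by `v` -/
def sv : Equiv.Perm (Fin 4) := Equiv.swap 0 1 * Equiv.swap 2 3
/-- translation by `w` -/
def sw : Equiv.Perm (Fin 4) := Equiv.swap 0 2 * Equiv.swap 1 3

theorem gen : ∀ σ : Equiv.Perm (Fin 4), ∃ i : Fin 2, ∃ j : Fin 2, ∃ k : Fin 3, ∃ l : Fin 2,
    σ = sv ^ (i : ℕ) * sw ^ (j : ℕ) * sy ^ (k : ℕ) * st ^ (l : ℕ) := by
  decide

/-! ### The configuration -/

section main

variable {G : Type u} [Group G] {A : Subgroup G} {V : Type v} [CommGroup V]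

/-- The four points. -/
def e (v w : V) : Fin 4 → V := ![1, v, w, v * w]

theorem e_injective {v w : V} (hv : v * v = 1) (hv1 : v ≠ 1) (hw1 : w ≠ 1)
    (hvw : v ≠ w) : Function.Injective (e v w) := by
  have h1 : v ≠ v * w := fun h => hw1 (by simpa using h)
  have h2 : w ≠ v * w := fun h => hv1 (by simpa using h)
  have h3 : (1 : V) ≠ v * w := fun h => hvw (by
    have : v * w = v * v := by rw [hv, h]
    exact (mul_left_cancel this).symm)
  intro i j hij
  fin_cases i <;> fin_cases j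
  · rfl
  · exact absurd hij.symm hv1
  · exact absurd hij.symm hw1
  · exact absurd hij h3
  · exact absurd hij hv1
  · rfl
  · exact absurd hij hvw
  · exact absurd hij h1
  · exact absurd hij hw1
  · exact absurd hij.symm hvw
  · rfl
  · exact absurd hij h2
  · exact absurd hij.symm h3
  · exact absurd hij.symm h1
  · exact absurd hij.symm h2
  · rfl

/-- The key configuration gives a section `S₄`. -/
theorem not_s4Free_of_config (hA : A.Normal) (hV : ∀ v : V, v * v = 1) (π : A →* V)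
    (hπ : Function.Surjective π) (φ : G →* MulAut V)
    (hφ : ∀ (g : G) (a : A), π ⟨g * a * g⁻¹, hA.conj_mem a a.2 g⟩ = φ g (π a))
    {y t : G} {v w : V} (hv1 : v ≠ 1) (hw1 : w ≠ 1) (hvw : v ≠ w)
    (hyv : φ y v = w) (hyw : φ y w = v * w) (htv : φ t v = v) (htw : φ t w = v * w)
    (hty : t * y * t⁻¹ = y⁻¹) : ¬ S4Free G := by
  classical
  have hinj := e_injective (hV v) hv1 hw1 hvw
  have hφ' : ∀ (g a : G) (ha : a ∈ A) (h : g * a * g⁻¹ ∈ A),
      π ⟨g * a * g⁻¹, h⟩ = φ g (π ⟨a, ha⟩) := fun g a ha h => hφ g ⟨a, ha⟩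
  -- `A` acts trivially
  have hAtriv : ∀ a ∈ A, ∀ x : V, φ a x = x := by
    intro a ha x
    obtain ⟨b, rfl⟩ := hπ x
    have h1 := hφ a b
    have h2 : (⟨a * b * a⁻¹, hA.conj_mem b b.2 a⟩ : A) = ⟨a, ha⟩ * b * ⟨a, ha⟩⁻¹ := rfl
    rw [h2, map_mul, map_mul, map_inv, mul_comm, ← mul_assoc, inv_mul_cancel, one_mul] at h1
    exact h1.symm
  -- multiplication table of the four-group
  have hclos : ∀ i j : Fin 4, ∃ k : Fin 4, e v w i * e v w j = e v w k := by
    intro i j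
    have c1 : v * w * v = w := by rw [mul_comm v w, mul_assoc, hV, mul_one]
    have c2 : w * (v * w) = v := by rw [mul_comm v w, ← mul_assoc, hV, one_mul]
    have c3 : v * (v * w) = w := by rw [← mul_assoc, hV, one_mul]
    have c4 : v * w * w = v := by rw [mul_assoc, hV, mul_one]
    fin_cases i <;> fin_cases j
    · exact ⟨0, one_mul _⟩
    · exact ⟨1, one_mul _⟩
    · exact ⟨2, one_mul _⟩
    · exact ⟨3, one_mul _⟩
    · exact ⟨1, mul_one _⟩
    · exact ⟨0, hV v⟩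
    · exact ⟨3, rfl⟩
    · exact ⟨2, c3⟩
    · exact ⟨2, mul_one _⟩
    · exact ⟨3, mul_comm _ _⟩
    · exact ⟨0, hV w⟩
    · exact ⟨1, c2⟩
    · exact ⟨3, mul_one _⟩
    · exact ⟨2, c1⟩
    · exact ⟨1, c4⟩
    · exact ⟨0, hV _⟩
  -- the big complement
  let Y : Subgroup G :=
    { carrier := {g | ∃ σ : Equiv.Perm (Fin 4), (∀ i, φ g (e v w i) = e v w (σ i)) ∧
        ((Equiv.Perm.sign σ = 1 ∧ g * y * g⁻¹ = y) ∨
          (Equiv.Perm.sign σ = -1 ∧ g * y * g⁻¹ = y⁻¹))}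
      one_mem' := ⟨1, fun i => by rw [map_one, MulAut.one_apply, Equiv.Perm.one_apply],
        Or.inl ⟨map_one _, by rw [one_mul, inv_one, mul_one]⟩⟩
      mul_mem' := by
        rintro g h ⟨σ, hσ, hs⟩ ⟨τ, hτ, ht⟩
        refine ⟨σ * τ, fun i => by
          rw [map_mul, MulAut.mul_apply, hτ, hσ, Equiv.Perm.mul_apply], ?_⟩
        have e1 : g * h * y * (g * h)⁻¹ = g * (h * y * h⁻¹) * g⁻¹ := by group
        have e2 : g * y⁻¹ * g⁻¹ = (g * y * g⁻¹)⁻¹ := by group
        rw [map_mul, e1]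
        rcases hs with ⟨s1, s2⟩ | ⟨s1, s2⟩ <;> rcases ht with ⟨t1, t2⟩ | ⟨t1, t2⟩
        · left; exact ⟨by rw [s1, t1, mul_one], by rw [t2, s2]⟩
        · right; exact ⟨by rw [s1, t1, one_mul], by rw [t2, e2, s2]⟩
        · right; exact ⟨by rw [s1, t1, mul_one], by rw [t2, s2]⟩
        · left; exact ⟨by rw [s1, t1, neg_mul_neg, mul_one], by rw [t2, e2, s2, inv_inv]⟩
      inv_mem' := by
        rintro g ⟨σ, hσ, hs⟩
        refine ⟨σ⁻¹, fun i => ?_, ?_⟩
        · have h1 := hσ (σ⁻¹ i)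
          have h2 : σ (σ⁻¹ i) = i := σ.apply_symm_apply i
          rw [h2] at h1
          rw [← h1, ← MulAut.mul_apply, ← map_mul, inv_mul_cancel, map_one, MulAut.one_apply]
        · rcases hs with ⟨s1, s2⟩ | ⟨s1, s2⟩
          · left
            refine ⟨by rw [map_inv, s1, inv_one], ?_⟩
            conv_lhs => rw [← s2]
            group
          · right
            refine ⟨by rw [map_inv, s1]; rfl, ?_⟩
            have h3 : y = g⁻¹ * y⁻¹ * g := by rw [← s2]; group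
            have h4 : y⁻¹ = g⁻¹ * y * g := by
              have := congrArg (·⁻¹) h3
              simpa [mul_assoc] using this
            rw [inv_inv]
            exact h4.symm }
  have hYmem : ∀ g : G, g ∈ Y ↔ ∃ σ : Equiv.Perm (Fin 4), (∀ i, φ g (e v w i) = e v w (σ i)) ∧
        ((Equiv.Perm.sign σ = 1 ∧ g * y * g⁻¹ = y) ∨
          (Equiv.Perm.sign σ = -1 ∧ g * y * g⁻¹ = y⁻¹)) := fun g => Iff.rfl
  have hvwv : φ y (v * w) = v := by
    rw [map_mul, hyv, hyw, mul_comm v w, ← mul_assoc, hV, one_mul]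
  have htvw : φ t (v * w) = w := by
    rw [map_mul, htv, htw, ← mul_assoc, hV, one_mul]
  have hys : ∀ i, φ y (e v w i) = e v w (sy i) := by
    intro i
    fin_cases i
    · exact map_one (φ y)
    · exact hyv
    · exact hyw
    · exact hvwv
  have hts : ∀ i, φ t (e v w i) = e v w (st i) := by
    intro i
    fin_cases i
    · exact map_one (φ t)
    · exact htv
    · exact htw
    · exact htvw
  have hyY : y ∈ Y := ⟨sy, hys, Or.inl ⟨by decide, by rw [mul_inv_cancel_right]⟩⟩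
  have htY : t ∈ Y := ⟨st, hts, Or.inr ⟨by decide, hty⟩⟩
  -- the intersection
  have hAY : ∀ c ∈ Y, ∀ hc : c ∈ A, ∀ i : Fin 4, π ⟨c, hc⟩ = e v w i → i = 0 := by
    rintro c ⟨σ, hσ, hs⟩ hc i hi
    have hσ1 : σ = 1 := by
      ext1 j
      apply hinj
      rw [← hσ, hAtriv c hc, Equiv.Perm.one_apply]
    rcases hs with ⟨-, s2⟩ | ⟨s1, -⟩
    · have h1 : y * c * y⁻¹ = c := by
        have : c * y = y * c := by
          conv_rhs => rw [← s2]
          group
        rw [← this, mul_inv_cancel_right]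
      have h2 := hφ' y c hc (hA.conj_mem c hc y)
      have h3 : π ⟨y * c * y⁻¹, hA.conj_mem c hc y⟩ = π ⟨c, hc⟩ := by
        congr 1
        exact Subtype.ext h1
      rw [h3, hi, hys] at h2
      have h4 := hinj h2
      revert h4
      fin_cases i <;> decide
    · rw [hσ1, map_one] at s1
      exact absurd s1 (by decide)
  -- the lower subgroup
  let B : Subgroup G := π.ker.map A.subtype
  have hBmem : ∀ g : G, g ∈ B ↔ ∃ h : g ∈ A, π ⟨g, h⟩ = 1 := by
    intro g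
    constructor
    · rintro ⟨a, ha, rfl⟩
      exact ⟨a.2, ha⟩
    · rintro ⟨h, hg⟩
      exact ⟨⟨g, h⟩, hg, rfl⟩
  have hBn : B.Normal := by
    refine ⟨fun b hb g => ?_⟩
    obtain ⟨hbA, hb1⟩ := (hBmem b).1 hb
    refine (hBmem _).2 ⟨hA.conj_mem b hbA g, ?_⟩
    rw [hφ' g b hbA, hb1, map_one]
  let H₀ : Subgroup G := B ⊔ Y
  -- the upper subgroup
  let K : Subgroup G :=
    { carrier := {g | ∃ a : G, ∃ ha : a ∈ A, (∃ i, π ⟨a, ha⟩ = e v w i) ∧ ∃ z ∈ Y, g = a * z}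
      one_mem' := ⟨1, A.one_mem, ⟨0, map_one π⟩, 1, Y.one_mem, (mul_one 1).symm⟩
      mul_mem' := by
        rintro _ _ ⟨a, ha, ⟨i, hi⟩, z, hz, rfl⟩ ⟨a', ha', ⟨i', hi'⟩, z', hz', rfl⟩
        obtain ⟨σ, hσ, hs⟩ := id hz
        have hc : z * a' * z⁻¹ ∈ A := hA.conj_mem a' ha' z
        refine ⟨a * (z * a' * z⁻¹), A.mul_mem ha hc, ?_, z * z', Y.mul_mem hz hz', by group⟩
        obtain ⟨k, hk⟩ := hclos i (σ i')
        refine ⟨k, ?_⟩
        rw [← hk, ← hσ, ← hi', ← hφ' z a' ha' hc, ← hi, ← map_mul]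
        rfl
      inv_mem' := by
        rintro _ ⟨a, ha, ⟨i, hi⟩, z, hz, rfl⟩
        obtain ⟨σ, hσ, hs⟩ := Y.inv_mem hz
        have hc : z⁻¹ * a⁻¹ * z⁻¹⁻¹ ∈ A := hA.conj_mem a⁻¹ (A.inv_mem ha) z⁻¹
        refine ⟨z⁻¹ * a⁻¹ * z⁻¹⁻¹, hc, ⟨σ i, ?_⟩, z⁻¹, Y.inv_mem hz, by group⟩
        rw [hφ' z⁻¹ a⁻¹ (A.inv_mem ha) hc, ← hσ, ← hi]
        congr 1
        have h1 : (⟨a⁻¹, A.inv_mem ha⟩ : A) = (⟨a, ha⟩ : A)⁻¹ := rfl
        rw [h1, map_inv, inv_eq_iff_mul_eq_one]
        exact hV _ }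
  have hYK : Y ≤ K := fun z hz => ⟨1, A.one_mem, ⟨0, map_one π⟩, z, hz, (one_mul z).symm⟩
  have hAK : ∀ a (ha : a ∈ A), (∃ i, π ⟨a, ha⟩ = e v w i) → a ∈ K := fun a ha hi =>
    ⟨a, ha, hi, 1, Y.one_mem, (mul_one a).symm⟩
  -- lifts of the four points
  have hlift : ∀ i : Fin 4, ∃ a : G, ∃ ha : a ∈ A, π ⟨a, ha⟩ = e v w i := by
    intro i
    obtain ⟨a, ha⟩ := hπ (e v w i)
    exact ⟨a, a.2, ha⟩
  choose a ha hπa using hlift
  have haK : ∀ i, a i ∈ K := fun i => hAK _ (ha i) ⟨i, hπa i⟩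
  have hinv2 : ∀ x : V, x⁻¹ = x := fun x => by
    rw [inv_eq_iff_mul_eq_one]
    exact hV x
  -- the coset space
  let f₀ : Fin 4 → K ⧸ (H₀.subgroupOf K) := fun i => QuotientGroup.mk ⟨a i, haK i⟩
  have hf₀ : Function.Bijective f₀ := by
    constructor
    · intro i j hij
      have hij' : (QuotientGroup.mk (⟨a i, haK i⟩ : K) : K ⧸ (H₀.subgroupOf K)) =
          QuotientGroup.mk (⟨a j, haK j⟩ : K) := hij
      have h0 := QuotientGroup.eq.1 hij'
      have h1 : (a i)⁻¹ * a j ∈ H₀ := h0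
      obtain ⟨b, hb, z, hz, hbz⟩ := (Subgroup.mem_sup_of_normal_left (s := B)).1 h1
      obtain ⟨hbA, hb1⟩ := (hBmem b).1 hb
      have hzA : z ∈ A := by
        have : z = b⁻¹ * ((a i)⁻¹ * a j) := by rw [← hbz]; group
        rw [this]
        exact A.mul_mem (A.inv_mem hbA) (A.mul_mem (A.inv_mem (ha i)) (ha j))
      have h2 : π ⟨z, hzA⟩ = e v w i * e v w j := by
        have h3 : (⟨z, hzA⟩ : A) = (⟨b, hbA⟩ : A)⁻¹ * ((⟨a i, ha i⟩ : A)⁻¹ * ⟨a j, ha j⟩) := by
          apply Subtype.ext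
          show z = b⁻¹ * ((a i)⁻¹ * a j)
          rw [← hbz]; group
        rw [h3, map_mul, map_mul, map_inv, map_inv, hb1, hπa, hπa, inv_one, one_mul, hinv2]
      obtain ⟨k, hk⟩ := hclos i j
      rw [hk] at h2
      have h4 := hAY z hz hzA k h2
      rw [h4] at hk
      have h5 : e v w i * e v w j = 1 := hk
      apply hinj
      have h6 : e v w j = (e v w i)⁻¹ := (inv_eq_of_mul_eq_one_right h5).symm
      rw [h6, hinv2]
    · intro q
      induction q using QuotientGroup.induction_on with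
      | H g =>
        obtain ⟨g, hg⟩ := g
        obtain ⟨a', ha', ⟨i, hi⟩, z, hz, rfl⟩ := id hg
        refine ⟨i, ?_⟩
        refine QuotientGroup.eq.2 ?_
        show (a i)⁻¹ * (a' * z) ∈ H₀
        rw [← mul_assoc]
        refine Subgroup.mul_mem_sup ((hBmem _).2 ⟨A.mul_mem (A.inv_mem (ha i)) ha', ?_⟩) hz
        have h3 : (⟨(a i)⁻¹ * a', A.mul_mem (A.inv_mem (ha i)) ha'⟩ : A) =
            (⟨a i, ha i⟩ : A)⁻¹ * ⟨a', ha'⟩ := rfl
        rw [h3, map_mul, map_inv, hπa, hi, inv_mul_cancel]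
  let f : Fin 4 ≃ K ⧸ (H₀.subgroupOf K) := Equiv.ofBijective f₀ hf₀
  let Θ : K →* Equiv.Perm (Fin 4) :=
    f.symm.permCongrHom.toMonoidHom.comp (MulAction.toPermHom K (K ⧸ (H₀.subgroupOf K)))
  have hΘ : ∀ (g : G) (hg : g ∈ K) (σ : Equiv.Perm (Fin 4)),
      (∀ i, (a (σ i))⁻¹ * (g * a i) ∈ H₀) → Θ ⟨g, hg⟩ = σ := by
    intro g hg σ h
    ext1 i
    show f.symm ((⟨g, hg⟩ : K) • f.symm.symm i) = σ i
    rw [Equiv.symm_apply_eq]
    refine (QuotientGroup.eq.2 ?_).symm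
    exact h i
  -- the values
  have hΘlin : ∀ (g : G) (hg : g ∈ Y) (σ : Equiv.Perm (Fin 4)),
      (∀ i, φ g (e v w i) = e v w (σ i)) → Θ ⟨g, hYK hg⟩ = σ := by
    intro g hg σ hσ
    apply hΘ
    intro i
    have h1 : (a (σ i))⁻¹ * (g * a i) = ((a (σ i))⁻¹ * (g * a i * g⁻¹)) * g := by group
    rw [h1]
    have h2 : g * a i * g⁻¹ ∈ A := hA.conj_mem _ (ha i) g
    refine Subgroup.mul_mem_sup ((hBmem _).2 ⟨A.mul_mem (A.inv_mem (ha _)) h2, ?_⟩) hg
    have h3 : (⟨(a (σ i))⁻¹ * (g * a i * g⁻¹), A.mul_mem (A.inv_mem (ha _)) h2⟩ : A) =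
        (⟨a (σ i), ha _⟩ : A)⁻¹ * ⟨g * a i * g⁻¹, h2⟩ := rfl
    rw [h3, map_mul, map_inv, hπa, hφ' g (a i) (ha i) h2, hπa, hσ, inv_mul_cancel]
  have hΘtr : ∀ (j : Fin 4) (σ : Equiv.Perm (Fin 4)),
      (∀ i, e v w j * e v w i = e v w (σ i)) → Θ ⟨a j, haK j⟩ = σ := by
    intro j σ hσ
    apply hΘ
    intro i
    refine Subgroup.mem_sup_left ((hBmem _).2
      ⟨A.mul_mem (A.inv_mem (ha _)) (A.mul_mem (ha j) (ha i)), ?_⟩)
    have h3 : (⟨(a (σ i))⁻¹ * (a j * a i),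
        A.mul_mem (A.inv_mem (ha _)) (A.mul_mem (ha j) (ha i))⟩ : A) =
        (⟨a (σ i), ha _⟩ : A)⁻¹ * (⟨a j, ha j⟩ * ⟨a i, ha i⟩) := rfl
    rw [h3, map_mul, map_mul, map_inv, hπa, hπa, hπa, hσ, inv_mul_cancel]
  have c1 : w * v = v * w := mul_comm _ _
  have c2 : w * (v * w) = v := by rw [mul_comm v w, ← mul_assoc, hV, one_mul]
  have c3 : v * (v * w) = w := by rw [← mul_assoc, hV, one_mul]
  have h1 : Θ ⟨a 1, haK 1⟩ = sv := by
    apply hΘtr
    intro i
    fin_cases i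
    · exact mul_one _
    · exact hV v
    · rfl
    · exact c3
  have h2 : Θ ⟨a 2, haK 2⟩ = sw := by
    apply hΘtr
    intro i
    fin_cases i
    · exact mul_one _
    · exact c1
    · exact hV w
    · exact c2
  have h3 : Θ ⟨y, hYK hyY⟩ = sy := hΘlin y hyY sy hys
  have h4 : Θ ⟨t, hYK htY⟩ = st := hΘlin t htY st hts
  refine not_s4Free_of_surjective K Θ ?_
  intro σ
  obtain ⟨i, j, k, l, hσ⟩ := gen σ
  refine ⟨⟨a 1, haK 1⟩ ^ (i : ℕ) * ⟨a 2, haK 2⟩ ^ (j : ℕ) * ⟨y, hYK hyY⟩ ^ (k : ℕ) *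
    ⟨t, hYK htY⟩ ^ (l : ℕ), ?_⟩
  rw [map_mul, map_mul, map_mul, map_pow, map_pow, map_pow, map_pow, h1, h2, h3, h4, hσ]

end main

/-! ### The elements `y` and `t` -/

section elements

variable {G : Type u} [Group G]

theorem perm3_facts : ∀ c d : Equiv.Perm (Fin 3), Equiv.Perm.sign c = 1 → c ≠ 1 →
    Equiv.Perm.sign d = -1 → c * d * c⁻¹ * d⁻¹ ≠ 1 := by decide

theorem perm3_sq : ∀ d : Equiv.Perm (Fin 3), Equiv.Perm.sign d = -1 → d * d = 1 := by decide

theorem perm3_alt : ∀ c : Equiv.Perm (Fin 3), Equiv.Perm.sign c = 1 → c ^ 3 = 1 := by decide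

theorem perm3_two : ∀ d : Equiv.Perm (Fin 3), d ^ 2 = 1 → Equiv.Perm.sign d = 1 → d = 1 := by
  decide

/-- A group mapping onto `S₃` contains a `3`-element outside of the kernel inverted by a
`2`-element. -/
theorem exists_inverted [Finite G] (ψ : G →* Equiv.Perm (Fin 3)) (hψ : Function.Surjective ψ) :
    ∃ y t : G, ψ y ≠ 1 ∧ (∃ n, y ^ 3 ^ n = 1) ∧ (∃ n, t ^ 2 ^ n = 1) ∧ t * y * t⁻¹ = y⁻¹ := by
  classical
  have : Fact (Nat.Prime 3) := ⟨Nat.prime_three⟩
  have : Fact (Nat.Prime 2) := ⟨Nat.prime_two⟩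
  let N : Subgroup G := (Equiv.Perm.sign.comp ψ).ker
  have hNmem : ∀ g : G, g ∈ N ↔ Equiv.Perm.sign (ψ g) = 1 := fun g => Iff.rfl
  let P : Sylow 3 N := default
  let Q : Subgroup G := (P : Subgroup N).map N.subtype
  have hQ3 : IsPGroup 3 Q := P.isPGroup'.map N.subtype
  have hQN : Q ≤ N := by
    rintro _ ⟨x, -, rfl⟩
    exact x.2
  -- an element of `Q` outside of the kernel
  obtain ⟨x, hxQ, hx⟩ : ∃ x ∈ Q, ψ x ≠ 1 := by
    by_contra hcon
    push Not at hcon
    have hle : (P : Subgroup N) ≤ (ψ.comp N.subtype).ker := by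
      intro n hn
      exact hcon n ⟨n, hn, rfl⟩
    have h1 : (ψ.comp N.subtype).ker.index ∣ (P : Subgroup N).index :=
      Subgroup.index_dvd_of_le hle
    have h2 : ¬ 3 ∣ (P : Subgroup N).index := P.not_dvd_index
    apply h2
    refine Dvd.dvd.trans ?_ h1
    obtain ⟨g, hg⟩ := hψ (Equiv.swap 0 1 * Equiv.swap 1 2)
    have hgN : g ∈ N := by
      rw [hNmem, hg]
      decide
    have h3 : orderOf ((ψ.comp N.subtype) ⟨g, hgN⟩) = 3 := by
      show orderOf (ψ g) = 3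
      rw [hg]
      exact orderOf_eq_prime (by decide) (by decide)
    have h4 : (ψ.comp N.subtype).ker.index = Nat.card (ψ.comp N.subtype).range :=
      Subgroup.index_ker _
    rw [h4]
    have h5 : orderOf (⟨(ψ.comp N.subtype) ⟨g, hgN⟩, ⟨_, rfl⟩⟩ : (ψ.comp N.subtype).range) =
        orderOf ((ψ.comp N.subtype) ⟨g, hgN⟩) := by
      rw [← Subgroup.orderOf_coe]
    have h6 := orderOf_dvd_natCard
      (⟨(ψ.comp N.subtype) ⟨g, hgN⟩, ⟨_, rfl⟩⟩ : (ψ.comp N.subtype).range)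
    rw [h5, h3] at h6
    exact h6
  -- an element normalising `Q` outside of `N`
  obtain ⟨d, hdQ, hdN⟩ : ∃ d ∈ Subgroup.normalizer (Q : Set G), d ∉ N := by
    by_contra hcon
    push Not at hcon
    have h1 : Subgroup.normalizer (Q : Set G) ⊔ N = ⊤ := Sylow.normalizer_sup_eq_top P
    have h2 : N = ⊤ := by
      rw [← h1]
      exact (sup_eq_right.2 hcon).symm
    obtain ⟨g, hg⟩ := hψ (Equiv.swap 0 1)
    have h3 : g ∈ N := by rw [h2]; exact Subgroup.mem_top g
    rw [hNmem, hg] at h3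
    exact absurd h3 (by decide)
  have hdsign : Equiv.Perm.sign (ψ d) = -1 := by
    rcases Int.units_eq_one_or (Equiv.Perm.sign (ψ d)) with h | h
    · exact absurd h hdN
    · exact h
  -- its `2`-part
  obtain ⟨k, m, hm, hkm⟩ := Nat.exists_eq_two_pow_mul_odd (orderOf_pos d).ne'
  let t : G := d ^ m
  have ht2 : t ^ 2 ^ k = 1 := by
    show (d ^ m) ^ 2 ^ k = 1
    rw [← pow_mul, mul_comm, ← hkm, pow_orderOf_eq_one]
  have htQ : t ∈ Subgroup.normalizer (Q : Set G) := Subgroup.pow_mem _ hdQ m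
  have htψ : ψ t = ψ d := by
    obtain ⟨r, hr⟩ := hm
    show ψ (d ^ m) = ψ d
    rw [map_pow, hr, pow_succ, pow_mul, pow_two, perm3_sq _ hdsign, one_pow, one_mul]
  -- an element commuting with `t ^ 2`
  let T2 : Subgroup G := Subgroup.zpowers (t ^ 2)
  have hT2 : IsPGroup 2 T2 := by
    rw [IsPGroup.iff_card]
    have h1 : orderOf (t ^ 2) ∣ 2 ^ k := by
      apply orderOf_dvd_of_pow_eq_one
      rw [← pow_mul, mul_comm, pow_mul, ht2, one_pow]
    obtain ⟨n, -, hn⟩ := (Nat.dvd_prime_pow Nat.prime_two).1 h1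
    exact ⟨n, by rw [Nat.card_zpowers, hn]⟩
  have hT2Q : T2 ≤ Subgroup.normalizer (Q : Set G) :=
    (Subgroup.zpowers_le).2 (Subgroup.pow_mem _ htQ 2)
  have h2Q : ¬ 2 ∣ Nat.card Q := by
    obtain ⟨n, hn⟩ := IsPGroup.iff_card.1 hQ3
    rw [hn]
    intro h
    have := Nat.prime_two.dvd_of_dvd_pow h
    omega
  obtain ⟨z, hz, c, hc, hxzc⟩ :=
    Cfsg.Agent.Lib.CoprimeCommutator.exists_commutator_mul_fixed_of_isPGroup 2 T2 Q hT2 hT2Q h2Q
      x hxQ
  have hψz : ψ z = 1 := by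
    have hle : (⁅Q, T2⁆ : Subgroup G) ≤ ψ.ker := by
      rw [Subgroup.commutator_le]
      intro q _ s hs
      have hs1 : ψ s = 1 := by
        have : T2 ≤ ψ.ker := by
          rw [Subgroup.zpowers_le]
          show ψ (t ^ 2) = 1
          rw [map_pow, htψ, pow_two, perm3_sq _ hdsign]
        exact this hs
      show ψ ⁅q, s⁆ = 1
      rw [map_commutatorElement, hs1]
      exact commutatorElement_one_right _
    exact hle hz
  have hψc : ψ c ≠ 1 := by
    intro h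
    apply hx
    rw [hxzc, map_mul, hψz, h, one_mul]
  have hcN : Equiv.Perm.sign (ψ c) = 1 := hQN hc.1
  have hcomm : t ^ 2 * c = c * t ^ 2 := hc.2 _ (Subgroup.mem_zpowers _)
  refine ⟨c * t * c⁻¹ * t⁻¹, t, ?_, ?_, ⟨k, ht2⟩, ?_⟩
  · rw [map_mul, map_mul, map_mul, map_inv, map_inv, htψ]
    exact perm3_facts _ _ hcN hψc hdsign
  · have hyQ : c * t * c⁻¹ * t⁻¹ ∈ Q := by
      have h1 : c * t * c⁻¹ * t⁻¹ = c * (t * c⁻¹ * t⁻¹) := by group
      rw [h1]
      exact Q.mul_mem hc.1 ((Subgroup.mem_normalizer_iff.1 htQ _).1 (Q.inv_mem hc.1))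
    obtain ⟨n, hn⟩ := hQ3 ⟨_, hyQ⟩
    exact ⟨n, congrArg Subtype.val hn⟩
  · have h1 : t * (c * t * c⁻¹ * t⁻¹) * t⁻¹ = t * c * t⁻¹ * (t ^ 2 * c⁻¹ * (t ^ 2)⁻¹) := by group
    have h2 : t ^ 2 * c⁻¹ * (t ^ 2)⁻¹ = c⁻¹ := by
      have : c⁻¹ * t ^ 2 = t ^ 2 * c⁻¹ := by
        rw [inv_mul_eq_iff_eq_mul, ← mul_assoc, ← hcomm, mul_inv_cancel_right]
      rw [← this, mul_inv_cancel_right]
    rw [h1, h2]
    group

end elements

/-! ### The theorem -/

section final

variable {G : Type u} [Group G] {A : Subgroup G} {V : Type v} [CommGroup V]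

theorem noS3_of_section [Finite G]
    (h4 : ¬ ∃ (K R : Subgroup G) (hR : (R.subgroupOf K).Normal),
      Nonempty ((K ⧸ R.subgroupOf K) ≃* Equiv.Perm (Fin 4)))
    (hA : A.Normal) [Finite V] (hV : ∀ v : V, v * v = 1) (π : A →* V)
    (hπ : Function.Surjective π) (φ : G →* MulAut V)
    (hφ : ∀ (g : G) (a : A), π ⟨g * a * g⁻¹, hA.conj_mem a a.2 g⟩ = φ g (π a)) : NoS3 φ := by
  classical
  rintro ⟨D, ψ, hψ, hker⟩
  obtain ⟨y₀, t₀, hy₀, ⟨n, hn⟩, ⟨k, hk⟩, hty₀⟩ := exists_inverted ψ hψ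
  set y' : G := (y₀ : G) with hy'
  set t : G := (t₀ : G) with ht
  have hφy : φ y' ≠ 1 := fun h => hy₀ (hker y₀ h)
  have hn' : y' ^ 3 ^ n = 1 := by
    have := congrArg Subtype.val hn
    simpa using this
  have hk' : t ^ 2 ^ k = 1 := by
    have := congrArg Subtype.val hk
    simpa using this
  have hty' : t * y' * t⁻¹ = y'⁻¹ := by
    have := congrArg Subtype.val hty₀
    simpa using this
  -- a power of order three
  obtain ⟨m, hm1, hm2⟩ : ∃ m : ℕ, (φ y') ^ 3 ^ m ≠ 1 ∧ (φ y') ^ 3 ^ (m + 1) = 1 := by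
    have hex : ∃ m, (φ y') ^ 3 ^ m = 1 := ⟨n, by rw [← map_pow, hn', map_one]⟩
    have h0 : Nat.find hex ≠ 0 := by
      intro h
      have := Nat.find_spec hex
      rw [h, pow_zero, pow_one] at this
      exact hφy this
    obtain ⟨m, hm⟩ := Nat.exists_eq_succ_of_ne_zero h0
    refine ⟨m, Nat.find_min hex (by omega), ?_⟩
    have := Nat.find_spec hex
    rwa [hm] at this
  set y : G := y' ^ 3 ^ m with hy
  have hy1 : φ y ≠ 1 := by rw [hy, map_pow]; exact hm1
  have hy3 : (φ y) ^ 3 = 1 := by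
    rw [hy, map_pow, ← pow_mul, ← pow_succ]
    exact hm2
  have hty : t * y * t⁻¹ = y⁻¹ := by
    have h1 : t * y * t⁻¹ = (t * y' * t⁻¹) ^ 3 ^ m := by
      rw [hy, conj_pow]
    rw [h1, hty', inv_pow]
  have hyyy : ∀ x : V, φ y (φ y (φ y x)) = x := by
    intro x
    have := DFunLike.congr_fun hy3 x
    simpa [pow_succ] using this
  -- the subgroup `[V, y]`
  let W : Subgroup V :=
    { carrier := {x | x * φ y x * φ y (φ y x) = 1}
      one_mem' := by simp
      mul_mem' := by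
        intro a b ha hb
        show a * b * φ y (a * b) * φ y (φ y (a * b)) = 1
        have ha' : a * φ y a * φ y (φ y a) = 1 := ha
        have hb' : b * φ y b * φ y (φ y b) = 1 := hb
        rw [map_mul, map_mul]
        calc a * b * (φ y a * φ y b) * (φ y (φ y a) * φ y (φ y b))
            = (a * φ y a * φ y (φ y a)) * (b * φ y b * φ y (φ y b)) := by
              simp only [mul_assoc, mul_left_comm]
          _ = 1 := by rw [ha', hb', one_mul]
      inv_mem' := by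
        intro a ha
        show a⁻¹ * φ y a⁻¹ * φ y (φ y a⁻¹) = 1
        have ha' : a * φ y a * φ y (φ y a) = 1 := ha
        rw [map_inv, map_inv, ← mul_inv, ← mul_inv, ha', inv_one] }
  have hWmem : ∀ x : V, x ∈ W ↔ x * φ y x * φ y (φ y x) = 1 := fun x => Iff.rfl
  have hinvtwo : ∀ x : V, φ y⁻¹ x = φ y (φ y x) := by
    intro x
    rw [map_inv, MulAut.inv_apply, MulEquiv.symm_apply_eq, hyyy]
  have htyx : ∀ x : V, φ t (φ y x) = φ y (φ y (φ t x)) := by
    intro x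
    have h1 : t * y = y⁻¹ * t := by rw [← hty]; group
    rw [← MulAut.mul_apply, ← map_mul, h1, map_mul, MulAut.mul_apply, hinvtwo]
  have htW : ∀ x ∈ W, φ t x ∈ W := by
    intro x hx
    rw [hWmem] at hx ⊢
    have h1 : φ y (φ t x) = φ t (φ y (φ y x)) := by
      rw [htyx, htyx, hyyy]
    have h2 : φ y (φ y (φ t x)) = φ t (φ y x) := (htyx x).symm
    rw [h2, h1, ← map_mul, ← map_mul, mul_right_comm, hx, map_one]
  have hWne : ∃ u : W, u ≠ 1 := by
    obtain ⟨x, hx⟩ : ∃ x : V, φ y x ≠ x := by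
      by_contra hcon
      push Not at hcon
      exact hy1 (by ext x; exact hcon x)
    refine ⟨⟨φ y x * x⁻¹, ?_⟩, ?_⟩
    · rw [hWmem, map_mul, map_mul, map_inv, map_inv, hyyy]
      calc φ y x * x⁻¹ * (φ y (φ y x) * (φ y x)⁻¹) * (x * (φ y (φ y x))⁻¹)
          = (φ y x * (φ y x)⁻¹) * (x⁻¹ * x) * (φ y (φ y x) * (φ y (φ y x))⁻¹) := by
            simp only [mul_assoc, mul_left_comm, mul_comm]
        _ = 1 := by simp
    · intro h
      apply hx
      have : φ y x * x⁻¹ = 1 := congrArg Subtype.val h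
      rwa [mul_inv_eq_one] at this
  -- a fixed point of `t`
  obtain ⟨v, hvW, hv1, htv⟩ : ∃ v ∈ W, v ≠ 1 ∧ φ t v = v := by
    let Z : Subgroup G := Subgroup.zpowers t
    have hZW : ∀ z : Z, ∀ x ∈ W, (φ.comp Z.subtype) z x ∈ W := by
      have hinv : ∀ x ∈ W, φ t⁻¹ x ∈ W := by
        have hpow : t⁻¹ = t ^ (2 ^ k - 1) := by
          rw [inv_eq_iff_mul_eq_one, ← pow_succ', Nat.sub_add_cancel Nat.one_le_two_pow, hk']
        have hpows : ∀ j : ℕ, ∀ x ∈ W, φ (t ^ j) x ∈ W := by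
          intro j
          induction j with
          | zero => intro x hx; simpa using hx
          | succ j ih =>
            intro x hx
            rw [pow_succ, map_mul, MulAut.mul_apply]
            exact ih _ (htW x hx)
        intro x hx
        rw [hpow]
        exact hpows _ x hx
      rintro ⟨z, hz⟩ x hx
      show φ z x ∈ W
      obtain ⟨j, rfl⟩ := hz
      have hnat : ∀ j : ℕ, ∀ x ∈ W, φ (t ^ j) x ∈ W := by
        intro j
        induction j with
        | zero => intro x hx; simpa using hx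
        | succ j ih =>
          intro x hx
          rw [pow_succ, map_mul, MulAut.mul_apply]
          exact ih _ (htW x hx)
      have hneg : ∀ j : ℕ, ∀ x ∈ W, φ (t⁻¹ ^ j) x ∈ W := by
        intro j
        induction j with
        | zero => intro x hx; simpa using hx
        | succ j ih =>
          intro x hx
          rw [pow_succ, map_mul, MulAut.mul_apply]
          exact ih _ (hinv x hx)
      rcases Int.eq_nat_or_neg j with ⟨i, rfl | rfl⟩
      · show φ (t ^ (i : ℤ)) x ∈ W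
        rw [zpow_natCast]
        exact hnat i x hx
      · show φ (t ^ (-(i : ℤ))) x ∈ W
        rw [zpow_neg, zpow_natCast, ← inv_pow]
        exact hneg i x hx
    have : Nontrivial W := by
      obtain ⟨u, hu⟩ := hWne
      exact ⟨u, 1, hu⟩
    have hW2 : IsPGroup 2 W := fun x => ⟨1, by
      rw [pow_one, pow_two]
      exact Subtype.ext (hV x)⟩
    have hZ2 : IsPGroup 2 (⊤ : Subgroup Z) := by
      have h1 : IsPGroup 2 Z := by
        rw [IsPGroup.iff_card]
        obtain ⟨j, -, hj⟩ := (Nat.dvd_prime_pow Nat.prime_two).1 (orderOf_dvd_of_pow_eq_one hk')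
        exact ⟨j, by rw [Nat.card_zpowers, hj]⟩
      exact h1.to_subgroup ⊤
    obtain ⟨v, hv1, hv2⟩ := exists_fixed hW2 (subHom (φ.comp Z.subtype) W hZW) ⊤ hZ2
    refine ⟨v, v.2, fun h => hv1 (Subtype.ext h), ?_⟩
    have := hv2 ⟨t, Subgroup.mem_zpowers t⟩ (Subgroup.mem_top _)
    exact congrArg Subtype.val this
  rw [hWmem] at hvW
  -- the second vector
  have hyw : φ y (φ y v) = v * φ y v := by
    have h1 : φ y (φ y v) = (v * φ y v)⁻¹ := by
      rw [eq_comm, inv_eq_iff_mul_eq_one]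
      exact hvW
    rw [h1, inv_eq_iff_mul_eq_one]
    exact hV _
  have hw1 : φ y v ≠ 1 := fun h => hv1 ((map_eq_one_iff _ (φ y).injective).1 h)
  have hvw : v ≠ φ y v := by
    intro h
    rw [← h, ← h, hV, one_mul] at hvW
    exact hv1 hvW
  have htw : φ t (φ y v) = v * φ y v := by
    rw [htyx, htv, hyw]
  exact not_s4Free_of_config hA hV π hπ φ hφ hv1 hw1 hvw rfl hyw htv htw hty h4

/-- The case of a normal elementary abelian subgroup, up to an isomorphism. -/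
theorem noS3_of_normal [Finite G]
    (h4 : ¬ ∃ (K R : Subgroup G) (hR : (R.subgroupOf K).Normal),
      Nonempty ((K ⧸ R.subgroupOf K) ≃* Equiv.Perm (Fin 4)))
    [hA : A.Normal] [Finite V] (hV : ∀ v : V, v * v = 1) (ε : A ≃* V) (φ : G →* MulAut V)
    (hφ : ∀ (g : G) (a : A), ε (MulAut.conjNormal g a) = φ g (ε a)) : NoS3 φ :=
  noS3_of_section h4 hA hV ε.toMonoidHom ε.surjective φ fun g a => hφ g a

end final

end Cfsg.Agent.PLocal.S4FreeNoS3
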