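import Mathlib
import Cfsg.Agent.Lib.VonDyck
import Cfsg.Agent.PLocal.SFourOffender
set_option linter.all false

set_option autoImplicit false

/-!
# `S₄`-free groups act `S₃`-freely on elementary abelian sections

If no section of the finite group `G` is isomorphic to `S₄`, then no section of the group induced by `G` on
an elementary abelian 2-section of `G` is isomorphic to `S₃`.
-/

namespace Cfsg.Agent.PLocal.S4FreeSection

open Cfsg.Agent.PLocal.SFourBasic Cfsg.Agent.PLocal.SFourOffender Cfsg.Agent.Lib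

universe u v

/-- No section is isomorphic to the symmetric group of degree four. -/
def S4Free (G : Type u) [Group G] : Prop :=
  ¬ ∃ (K R : Subgroup G) (_ : (R.subgroupOf K).Normal),
    Nonempty ((K ⧸ R.subgroupOf K) ≃* Equiv.Perm (Fin 4))

section basic

variable {G : Type u} [Group G]

theorem s4Free_iff : S4Free G ↔
    ∀ (D : Subgroup G) (ψ : D →* Equiv.Perm (Fin 4)), ¬ Function.Surjective ψ := by
  constructor
  · intro h D ψ hψ
    apply h
    have hsub : (ψ.ker.map D.subtype).subgroupOf D = ψ.ker :=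
      Subgroup.comap_map_eq_self_of_injective D.subtype_injective _
    have hn : ((ψ.ker.map D.subtype).subgroupOf D).Normal := by
      rw [hsub]
      infer_instance
    refine ⟨D, ψ.ker.map D.subtype, hn, ?_⟩
    exact ⟨(QuotientGroup.quotientMulEquivOfEq hsub).trans
      (QuotientGroup.quotientKerEquivOfSurjective ψ hψ)⟩
  · rintro h ⟨K, R, hR, ⟨e⟩⟩
    exact h K (e.toMonoidHom.comp (QuotientGroup.mk' (R.subgroupOf K)))
      (e.surjective.comp (QuotientGroup.mk'_surjective _))

theorem S4Free.subgroup (h : S4Free G) (P : Subgroup G) : S4Free P := by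
  rw [s4Free_iff] at h ⊢
  intro D ψ hψ
  let e := D.equivMapOfInjective P.subtype P.subtype_injective
  exact h (D.map P.subtype) (ψ.comp e.symm.toMonoidHom) (hψ.comp e.symm.surjective)

theorem S4Free.of_surjective {G' : Type v} [Group G'] (h : S4Free G) (π : G →* G')
    (hπ : Function.Surjective π) : S4Free G' := by
  rw [s4Free_iff] at h ⊢
  intro D ψ hψ
  let p : D.comap π →* D := (π.comp (D.comap π).subtype).codRestrict D (fun x => x.2)
  refine h (D.comap π) (ψ.comp p) ?_
  intro σ
  obtain ⟨d, rfl⟩ := hψ σ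
  obtain ⟨x, hx⟩ := hπ d
  exact ⟨⟨x, by rw [Subgroup.mem_comap, hx]; exact d.2⟩, congrArg ψ (Subtype.ext hx)⟩

theorem S4Free.of_injective {G' : Type v} [Group G'] (h : S4Free G) (f : G' →* G)
    (hf : Function.Injective f) : S4Free G' :=
  (h.subgroup f.range).of_surjective (MonoidHom.ofInjective hf).symm.toMonoidHom
    (MonoidHom.ofInjective hf).symm.surjective

theorem S4Free.quotient (h : S4Free G) (N : Subgroup G) [N.Normal] : S4Free (G ⧸ N) :=
  h.of_surjective (QuotientGroup.mk' N) (QuotientGroup.mk'_surjective N)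

theorem S4Free.equiv {G' : Type v} [Group G'] (h : S4Free G) (e : G ≃* G') : S4Free G' :=
  h.of_surjective e.toMonoidHom e.surjective

end basic

section elements

variable {G : Type u} [Group G]

/-- Elements generating a section `S₄`. -/
theorem not_s4Free {w t v : G} {m : ℕ} (hm : Odd m) (hw : w ^ (3 * m) = 1)
    (htw : t * w * t⁻¹ = w⁻¹) (htv : t * v = v * t) (hv2 : v * v = 1)
    (hcomm : v * (w * v * w⁻¹) = (w * v * w⁻¹) * v) (hv1 : v ≠ 1)
    (h3 : v * (w * v * w⁻¹) * (w * w * v * w⁻¹ * w⁻¹) = 1) : ¬ S4Free G := by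
  intro hG
  -- the second basis vector
  obtain ⟨b, hb⟩ : ∃ b, b = w * v * w⁻¹ := ⟨_, rfl⟩
  have h4 : w * w * v * w⁻¹ * w⁻¹ = w * b * w⁻¹ := by rw [hb]; group
  rw [h4, ← hb] at h3
  rw [← hb] at hcomm
  have hb2 : b * b = 1 := by
    rw [hb]
    calc w * v * w⁻¹ * (w * v * w⁻¹) = w * (v * v) * w⁻¹ := by group
      _ = 1 := by rw [hv2, mul_one, mul_inv_cancel]
  have hvb : (v * b) * (v * b) = 1 := by
    calc (v * b) * (v * b) = v * (b * v) * b := by simp only [mul_assoc]
      _ = v * (v * b) * b := by rw [hcomm]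
      _ = (v * v) * (b * b) := by simp only [mul_assoc]
      _ = 1 := by rw [hv2, hb2, mul_one]
  have hwb : w * b * w⁻¹ = v * b := mul_left_cancel (h3.trans hvb.symm)
  have hwvb : w * (v * b) * w⁻¹ = v := by
    calc w * (v * b) * w⁻¹ = (w * v * w⁻¹) * (w * b * w⁻¹) := by group
      _ = b * (v * b) := by rw [← hb, hwb]
      _ = (b * v) * b := by rw [mul_assoc]
      _ = v := by rw [← hcomm, mul_assoc, hb2, mul_one]
  have hwv' : w⁻¹ * v * w = v * b := by
    conv_lhs => rw [← hwvb]
    group
  have htb : t * b * t⁻¹ = v * b := by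
    calc t * b * t⁻¹ = (t * w * t⁻¹) * (t * v * t⁻¹) * (t * w * t⁻¹)⁻¹ := by rw [hb]; group
      _ = w⁻¹ * v * w := by rw [htw, htv, mul_inv_cancel_right, inv_inv]
      _ = v * b := hwv'
  have htt : Commute (t * t) w := by
    show t * t * w = w * (t * t)
    have h5 : t * (t * w * t⁻¹) * t⁻¹ = w := by
      rw [htw]
      have : t * w⁻¹ * t⁻¹ = (t * w * t⁻¹)⁻¹ := by group
      rw [this, htw, inv_inv]
    calc t * t * w = (t * (t * w * t⁻¹) * t⁻¹) * (t * t) := by group
      _ = w * (t * t) := by rw [h5]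
  have httv : Commute (t * t) v := by
    have h5 : Commute t v := htv
    exact h5.mul_left h5
  have httb : Commute (t * t) b := by
    rw [hb]
    exact (htt.mul_right httv).mul_right htt.inv_right
  have hc : Commute (w * w * w) v := by
    show w * w * w * v = v * (w * w * w)
    calc w * w * w * v = w * (w * (w * v * w⁻¹) * w⁻¹) * w⁻¹ * (w * w * w) := by group
      _ = v * (w * w * w) := by rw [← hb, hwb, hwvb]
  -- the subgroup acting trivially
  have hct : Commute (t * t) (w * w * w) := (htt.mul_right htt).mul_right htt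
  let R : Subgroup G :=
    { carrier := {x | ∃ i j : ℤ, x = (t * t) ^ i * (w * w * w) ^ j}
      one_mem' := ⟨0, 0, by simp⟩
      mul_mem' := by
        rintro _ _ ⟨i, j, rfl⟩ ⟨i', j', rfl⟩
        refine ⟨i + i', j + j', ?_⟩
        rw [zpow_add, zpow_add]
        have h5 : (w * w * w) ^ j * (t * t) ^ i' = (t * t) ^ i' * (w * w * w) ^ j :=
          (hct.symm.zpow_zpow j i').eq
        calc (t * t) ^ i * (w * w * w) ^ j * ((t * t) ^ i' * (w * w * w) ^ j') =
            (t * t) ^ i * ((w * w * w) ^ j * (t * t) ^ i') * (w * w * w) ^ j' := by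
              simp only [mul_assoc]
          _ = _ := by rw [h5]; simp only [mul_assoc]
      inv_mem' := by
        rintro _ ⟨i, j, rfl⟩
        refine ⟨-i, -j, ?_⟩
        rw [mul_inv_rev, ← zpow_neg, ← zpow_neg]
        exact (hct.symm.zpow_zpow (-j) (-i)).eq }
  have hRm : ∀ x, x ∈ R ↔ ∃ i j : ℤ, x = (t * t) ^ i * (w * w * w) ^ j := fun x => Iff.rfl
  let K : Subgroup G := Subgroup.closure {t * v, w}
  have hbR : b ∉ R := by
    intro h
    obtain ⟨i, j, h5⟩ := (hRm b).1 h
    have hm1 : ((w * w * w) ^ j) ^ m = 1 := by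
      have : w * w * w = w ^ 3 := by rw [pow_succ, pow_two]
      rw [this, ← zpow_natCast, ← zpow_mul, mul_comm j, zpow_mul, zpow_natCast, ← pow_mul, hw,
        one_zpow]
    have h6 : b ^ m = ((t * t) ^ i) ^ m := by
      rw [h5, ((hct.zpow_zpow i j)).mul_pow, hm1, mul_one]
    have h7 : b ^ m = b := by
      obtain ⟨k, rfl⟩ := hm
      rw [pow_succ, pow_mul, pow_two, hb2, one_pow, one_mul]
    have h8 : Commute t b := by
      rw [← h7, h6]
      exact (((Commute.refl t).mul_right (Commute.refl t)).zpow_right i).pow_right m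
    rw [h8.eq, mul_inv_cancel_right] at htb
    exact hv1 (mul_eq_right.1 htb.symm)
  have hnorm : ∀ g : G, (∀ x ∈ R, g * x * g⁻¹ ∈ R) → (∀ x ∈ R, g⁻¹ * x * g ∈ R) →
      g ∈ Subgroup.normalizer (R : Set G) := by
    intro g h5 h6
    rw [Subgroup.mem_normalizer_iff]
    intro x
    refine ⟨h5 x, fun h => ?_⟩
    have := h6 _ h
    have h7 : g⁻¹ * (g * x * g⁻¹) * g = x := by group
    rwa [h7] at this
  have hconj : ∀ (g x y : G) (i j : ℤ), g * (x ^ i * y ^ j) * g⁻¹ =
      (g * x * g⁻¹) ^ i * (g * y * g⁻¹) ^ j := by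
    intro g x y i j
    rw [conj_zpow, conj_zpow]
    group
  have htw3 : t * (w * w * w) * t⁻¹ = (w * w * w)⁻¹ := by
    calc t * (w * w * w) * t⁻¹ = (t * w * t⁻¹) * (t * w * t⁻¹) * (t * w * t⁻¹) := by group
      _ = (w * w * w)⁻¹ := by rw [htw]; group
  have htw3' : t⁻¹ * (w * w * w) * t = (w * w * w)⁻¹ := by
    have h5 : w * w * w = t * (w * w * w)⁻¹ * t⁻¹ := by
      have : t * (w * w * w)⁻¹ * t⁻¹ = (t * (w * w * w) * t⁻¹)⁻¹ := by group
      rw [this, htw3, inv_inv]
    conv_lhs => rw [h5]
    group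
  have hKN : K ≤ Subgroup.normalizer (R : Set G) := by
    rw [Subgroup.closure_le]
    rintro g (rfl | rfl)
    · apply hnorm
      · rintro x ⟨i, j, rfl⟩
        refine ⟨i, -j, ?_⟩
        rw [hconj, zpow_neg, ← inv_zpow]
        congr 2
        · calc t * v * (t * t) * (t * v)⁻¹ = t * (v * (t * t)) * v⁻¹ * t⁻¹ := by group
            _ = t * t := by rw [← httv.eq]; group
        · calc t * v * (w * w * w) * (t * v)⁻¹ = t * (v * (w * w * w)) * v⁻¹ * t⁻¹ := by group
            _ = t * (w * w * w) * t⁻¹ := by rw [← hc.eq]; group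
            _ = _ := htw3
      · rintro x ⟨i, j, rfl⟩
        refine ⟨i, -j, ?_⟩
        have h5 := hconj (t * v)⁻¹ (t * t) (w * w * w) i j
        rw [inv_inv] at h5
        rw [h5, zpow_neg, ← inv_zpow]
        congr 2
        · calc (t * v)⁻¹ * (t * t) * (t * v) = v⁻¹ * (t * t * v) := by group
            _ = t * t := by rw [httv.eq]; group
        · calc (t * v)⁻¹ * (w * w * w) * (t * v) = v⁻¹ * (t⁻¹ * (w * w * w) * t) * v := by group
            _ = (v⁻¹ * (w * w * w) * v)⁻¹ := by rw [htw3']; group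
            _ = (v⁻¹ * (w * w * w * v))⁻¹ := by rw [mul_assoc]
            _ = _ := by rw [hc.eq]; group
    · apply hnorm
      · rintro x ⟨i, j, rfl⟩
        refine ⟨i, j, ?_⟩
        rw [hconj]
        congr 2
        · rw [← htt.eq, mul_inv_cancel_right]
        · group
      · rintro x ⟨i, j, rfl⟩
        refine ⟨i, j, ?_⟩
        have h5 := hconj g⁻¹ (t * t) (g * g * g) i j
        rw [inv_inv] at h5
        rw [h5]
        congr 2
        · rw [mul_assoc, htt.eq, inv_mul_cancel_left]
        · group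
  have hRK : (R.subgroupOf K).Normal := Subgroup.normal_subgroupOf_of_le_normalizer hKN
  have htvK : t * v ∈ K := Subgroup.subset_closure (Or.inl rfl)
  have hwK : w ∈ K := Subgroup.subset_closure (Or.inr rfl)
  let π : K →* K ⧸ R.subgroupOf K := QuotientGroup.mk' _
  have hπ : ∀ x : K, π x = 1 ↔ (x : G) ∈ R := by
    intro x
    rw [← MonoidHom.mem_ker, QuotientGroup.ker_mk', Subgroup.mem_subgroupOf]
  have htR : t * t ∈ R := ⟨1, 0, by simp⟩
  have hwR : w * w * w ∈ R := ⟨0, 1, by simp⟩
  have htwi : w * t = t * w⁻¹ := by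
    have h5 : t * w⁻¹ * t⁻¹ = w := by
      have : t * w⁻¹ * t⁻¹ = (t * w * t⁻¹)⁻¹ := by group
      rw [this, htw, inv_inv]
    conv_lhs => rw [← h5]
    group
  have hsq : (t * v * w) * (t * v * w) = t * t * b := by
    calc (t * v * w) * (t * v * w) = t * v * (w * t) * v * w := by simp only [mul_assoc]
      _ = t * (v * t) * (w⁻¹ * v * w) := by rw [htwi]; simp only [mul_assoc]
      _ = t * t * (v * v) * b := by rw [hwv', ← htv]; simp only [mul_assoc]
      _ = t * t * b := by rw [hv2, mul_one]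
  obtain ⟨e⟩ := VonDyck.closure_equiv_permFour (G := K ⧸ R.subgroupOf K)
    (a := π ⟨t * v, htvK⟩) (b := π ⟨w, hwK⟩)
    (by
      rw [pow_two, ← map_mul, hπ]
      show t * v * (t * v) ∈ R
      have : t * v * (t * v) = t * t := by
        calc t * v * (t * v) = t * (v * t) * v := by simp only [mul_assoc]
          _ = t * t * (v * v) := by rw [← htv]; simp only [mul_assoc]
          _ = t * t := by rw [hv2, mul_one]
      rw [this]
      exact htR)
    (by
      rw [pow_succ, pow_two, ← map_mul, ← map_mul, hπ]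
      exact hwR)
    (by
      rw [← map_mul, ← map_pow, hπ]
      show (t * v * w) ^ 4 ∈ R
      have : (t * v * w) ^ 4 = (t * v * w) * (t * v * w) * ((t * v * w) * (t * v * w)) := by
        rw [← pow_two, ← pow_two, ← pow_mul]
      rw [this, hsq]
      have h5 : t * t * b * (t * t * b) = t * t * (t * t) := by
        rw [mul_assoc, ← mul_assoc b, ← httb.eq, mul_assoc (t * t) b, hb2, mul_one]
      rw [h5]
      exact mul_mem htR htR)
    (by
      rw [← map_mul, ← map_pow, Ne, hπ]
      show (t * v * w) ^ 2 ∉ R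
      rw [pow_two, hsq]
      intro h
      exact hbR ((R.mul_mem_cancel_left htR).1 h))
  apply hG
  refine ⟨K, R, hRK, ⟨?_⟩⟩
  have htop : Subgroup.closure {π ⟨t * v, htvK⟩, π ⟨w, hwK⟩} = ⊤ := by
    have h5 : Subgroup.closure {(⟨t * v, htvK⟩ : K), ⟨w, hwK⟩} = ⊤ := by
      apply Subgroup.map_injective K.subtype_injective
      rw [MonoidHom.map_closure, Set.image_pair, ← MonoidHom.range_eq_map, Subgroup.range_subtype]
      rfl
    rw [← Set.image_pair, ← MonoidHom.map_closure, h5, ← MonoidHom.range_eq_map,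
      MonoidHom.range_eq_top]
    exact QuotientGroup.mk'_surjective _
  exact (Subgroup.topEquiv.symm.trans (MulEquiv.subgroupCongr htop.symm)).trans e

end elements

end Cfsg.Agent.PLocal.S4FreeSection
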