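import Mathlib
set_option linter.all false

/-!
Hall-Higman Theorem B, lemma L3: a `q`-group `Q` with an automorphism `σ` of `p`-power order `p ^ n` (`p ≠ q`)
such that `y = σ ^ (p ^ (n - 1))` centralizes every proper `σ`-invariant subgroup, and `σ` centralizes `Z(Q)`.
Then `Q` is of class exactly two and `σ` acts freely on `Q / Z(Q)` minus the identity.
-/

set_option autoImplicit false

namespace Cfsg.Agent.PLocal.HHBMinimal

section

variable {Q : Type*} [Group Q]

/-- iterates of an automorphism `f` on `g` when `c = g⁻¹ f(g)` is fixed by `f` -/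
theorem pow_apply_of_fixed (f : MulAut Q) (g : Q) (hc : f (g⁻¹ * f g) = g⁻¹ * f g) (k : ℕ) :
    (f ^ k) g = g * (g⁻¹ * f g) ^ k := by
  induction k with
  | zero => simp
  | succ k ih =>
    rw [pow_succ', MulAut.mul_apply, ih, map_mul, map_pow, hc, pow_succ', ← mul_assoc g,
      mul_inv_cancel_left]

/-- an automorphism of order dividing `m` that acts trivially "twice" is trivial, in coprime situations -/
theorem apply_eq_of_fixed (f : MulAut Q) (g : Q) (hc : f (g⁻¹ * f g) = g⁻¹ * f g) (m : ℕ)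
    (hf : f ^ m = 1) (hm : (orderOf (g⁻¹ * f g)).Coprime m) : f g = g := by
  have h1 := pow_apply_of_fixed f g hc m
  rw [hf, MulAut.one_apply] at h1
  have h2 : (g⁻¹ * f g) ^ m = 1 := by
    have : g * (g⁻¹ * f g) ^ m = g * 1 := by rw [← h1, mul_one]
    exact mul_left_cancel this
  have h3 : orderOf (g⁻¹ * f g) ∣ m := orderOf_dvd_of_pow_eq_one h2
  have h4 : orderOf (g⁻¹ * f g) = 1 := Nat.Coprime.eq_one_of_dvd hm h3
  have h5 : g⁻¹ * f g = 1 := orderOf_eq_one_iff.mp h4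
  exact (inv_mul_eq_one.mp h5).symm

end

section

variable {Q : Type*} [Group Q] [Finite Q] {p q : ℕ} [Fact p.Prime] [Fact q.Prime]

omit [Finite Q] in
theorem coprime_orderOf (hpq : q ≠ p) (hQ : IsPGroup q Q) (g : Q) (k : ℕ) :
    (orderOf g).Coprime (p ^ k) := by
  obtain ⟨m, hm⟩ := IsPGroup.iff_orderOf.mp hQ g
  rw [hm]
  exact Nat.Coprime.pow m k ((Nat.coprime_primes Fact.out Fact.out).mpr hpq)

/-- A proper normal `σ`-invariant subgroup is central. -/
theorem le_center_of_normal (hpq : q ≠ p) (hQ : IsPGroup q Q) (σ : MulAut Q) (n : ℕ) (hn : 1 ≤ n)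
    (hσ : σ ^ (p ^ n) = 1) (hy : σ ^ (p ^ (n - 1)) ≠ 1)
    (hmin : ∀ L : Subgroup Q, L ≠ ⊤ → (∀ g ∈ L, σ g ∈ L) → ∀ g ∈ L, (σ ^ (p ^ (n - 1))) g = g)
    (N : Subgroup Q) [N.Normal] (hN : N ≠ ⊤) (hNσ : ∀ g ∈ N, σ g ∈ N) : N ≤ Subgroup.center Q := by
  set y := σ ^ (p ^ (n - 1)) with hydef
  have hyp : y ^ p = 1 := by
    rw [hydef, ← pow_mul, ← pow_succ, Nat.sub_add_cancel hn, hσ]
  have hfix : ∀ h ∈ N, y h = h := hmin N hN hNσ
  -- the preimage under `σ` of `N` is `N` as well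
  have hNσ' : ∀ g, σ g ∈ N → g ∈ N := by
    have hle : N.map σ.toMonoidHom ≤ N := by
      rintro _ ⟨g, hg, rfl⟩
      exact hNσ g hg
    have hcard : Nat.card (N.map σ.toMonoidHom) = Nat.card N :=
      Subgroup.card_map_of_injective σ.injective
    have heq : N.map σ.toMonoidHom = N := Subgroup.eq_of_le_of_card_ge hle hcard.ge
    intro g hg
    rw [← heq] at hg
    obtain ⟨g', hg', he⟩ := hg
    have : g' = g := σ.injective he
    rwa [← this]
  -- the centralizer of `N`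
  set D := Subgroup.centralizer (N : Set Q) with hD
  have hDσ : ∀ g ∈ D, σ g ∈ D := by
    intro g hg
    rw [hD, Subgroup.mem_centralizer_iff] at hg ⊢
    intro h hh
    obtain ⟨h', rfl⟩ := σ.surjective h
    rw [← map_mul, ← map_mul, hg h' (hNσ' h' hh)]
  have hmem : ∀ g : Q, g⁻¹ * y g ∈ D := by
    intro g
    rw [hD, Subgroup.mem_centralizer_iff]
    intro h hh
    have h1 : y (g * h * g⁻¹) = g * h * g⁻¹ := hfix _ ((inferInstance : N.Normal).conj_mem h hh g)
    rw [map_mul, map_mul, map_inv, hfix h hh] at h1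
    have h2 : y g * h = g * h * g⁻¹ * y g := by rw [← h1]; group
    calc h * (g⁻¹ * y g) = g⁻¹ * (g * h * g⁻¹ * y g) := by group
      _ = g⁻¹ * (y g * h) := by rw [h2]
      _ = g⁻¹ * y g * h := by group
  by_cases hDt : D = ⊤
  · intro h hh
    rw [Subgroup.mem_center_iff]
    intro g
    have : g ∈ D := by rw [hDt]; exact Subgroup.mem_top g
    exact ((Subgroup.mem_centralizer_iff.mp this) h hh).symm
  · exfalso
    apply hy
    ext g
    rw [MulAut.one_apply]
    exact apply_eq_of_fixed y g (hmin D hDt hDσ _ (hmem g)) p hyp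
      (by simpa using coprime_orderOf (p := p) hpq hQ (g⁻¹ * y g) 1)

omit [Finite Q] in
/-- iterates of an invariance -/
theorem pow_mem_of_mem (σ : MulAut Q) (N : Subgroup Q) (h : ∀ g ∈ N, σ g ∈ N) (k : ℕ) :
    ∀ g ∈ N, (σ ^ k) g ∈ N := by
  induction k with
  | zero => intro g hg; simpa using hg
  | succ k ih =>
    intro g hg
    rw [pow_succ', MulAut.mul_apply]
    exact h _ (ih g hg)

omit [Finite Q] in
/-- if `f ^ p = 1`-type coprime action is trivial on `Q/Z` and on `Z` then it is trivial -/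
theorem eq_one_of_trivial (hpq : q ≠ p) (hQ : IsPGroup q Q) (f : MulAut Q) (n : ℕ)
    (hf : f ^ (p ^ n) = 1) (hZ : ∀ z ∈ Subgroup.center Q, f z = z)
    (h : ∀ g : Q, g⁻¹ * f g ∈ Subgroup.center Q) : f = 1 := by
  ext g
  rw [MulAut.one_apply]
  exact apply_eq_of_fixed f g (hZ _ (h g)) (p ^ n) hf (coprime_orderOf hpq hQ _ n)

omit [Finite Q] in
/-- if `σ ^ (p ^ n) = 1` and `σ ^ i = 1` with `0 < i < p ^ n` then `σ ^ (p ^ (n - 1)) = 1`. -/
theorem pow_eq_one_of_lt (σ : MulAut Q) (n : ℕ) (hσ : σ ^ (p ^ n) = 1) (i : ℕ) (hi : 0 < i)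
    (hi' : i < p ^ n) (h : σ ^ i = 1) : σ ^ (p ^ (n - 1)) = 1 := by
  have h1 : orderOf σ ∣ p ^ n := orderOf_dvd_of_pow_eq_one hσ
  obtain ⟨k, hk, hk'⟩ := (Nat.dvd_prime_pow (Fact.out : p.Prime)).mp h1
  have h2 : orderOf σ ∣ i := orderOf_dvd_of_pow_eq_one h
  have h3 : p ^ k < p ^ n := by
    rw [← hk']
    exact lt_of_le_of_lt (Nat.le_of_dvd hi h2) hi'
  have h4 : k < n := (Nat.pow_lt_pow_iff_right (Fact.out : p.Prime).one_lt).mp h3
  apply orderOf_dvd_iff_pow_eq_one.mp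
  rw [hk']
  exact pow_dvd_pow p (by omega)

/-- Lemma L3. -/
theorem L3 (hpq : q ≠ p)
    (hQ : IsPGroup q Q) (σ : MulAut Q) (n : ℕ) (hn : 1 ≤ n) (hσ : σ ^ (p ^ n) = 1)
    (hy : σ ^ (p ^ (n - 1)) ≠ 1)
    (hmin : ∀ L : Subgroup Q, L ≠ ⊤ → (∀ g ∈ L, σ g ∈ L) → ∀ g ∈ L, (σ ^ (p ^ (n - 1))) g = g)
    (hZ : ∀ z ∈ Subgroup.center Q, σ z = z) :
    (∃ a b : Q, a * b ≠ b * a) ∧
    (∀ a b : Q, a * b * a⁻¹ * b⁻¹ ∈ Subgroup.center Q) ∧
    (∀ g : Q, ∀ i : ℕ, 0 < i → i < p ^ n → g⁻¹ * (σ ^ i) g ∈ Subgroup.center Q → g ∈ Subgroup.center Q) ∧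
    (p ^ n ∣ Nat.card (Q ⧸ Subgroup.center Q) - 1) := by
  have hpp : p.Prime := Fact.out
  have hZt : Subgroup.center Q ≠ ⊤ := by
    intro h
    apply hy
    have h1 : σ = 1 := by
      ext g
      exact hZ g (by rw [h]; exact Subgroup.mem_top g)
    rw [h1, one_pow]
  have hZk : ∀ k : ℕ, ∀ z ∈ Subgroup.center Q, (σ ^ k) z = z := by
    intro k z hz
    induction k with
    | zero => simp
    | succ k ih => rw [pow_succ', MulAut.mul_apply, ih, hZ z hz]
  -- class two
  have hnil : Group.IsNilpotent Q := hQ.isNilpotent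
  have hQ1 : Nontrivial Q := by
    by_contra hcon
    rw [not_nontrivial_iff_subsingleton] at hcon
    exact hy (MulEquiv.ext fun x => Subsingleton.elim _ _)
  have hcomm_ne : commutator Q ≠ ⊤ := by
    intro h
    have := (Group.IsSolvable.commutator_lt_top_of_nontrivial Q).ne
    exact this h
  have hcomm : commutator Q ≤ Subgroup.center Q := by
    refine le_center_of_normal hpq hQ σ n hn hσ hy hmin (commutator Q) hcomm_ne ?_
    intro g hg
    have h1 := (Subgroup.characteristic_iff_map_le.mp (inferInstance : (commutator Q).Characteristic)) σ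
    exact h1 ⟨g, hg, rfl⟩
  have hcl : ∀ a b : Q, a * b * a⁻¹ * b⁻¹ ∈ Subgroup.center Q := fun a b =>
    hcomm (Subgroup.commutator_mem_commutator (Subgroup.mem_top a) (Subgroup.mem_top b))
  -- free action
  have hfree : ∀ g : Q, ∀ i : ℕ, 0 < i → i < p ^ n → g⁻¹ * (σ ^ i) g ∈ Subgroup.center Q →
      g ∈ Subgroup.center Q := by
    intro g i hi hi' hg
    let L : Subgroup Q :=
      { carrier := {x | x⁻¹ * (σ ^ i) x ∈ Subgroup.center Q}
        one_mem' := by simp
        mul_mem' := by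
          intro a b ha hb
          change (a * b)⁻¹ * (σ ^ i) (a * b) ∈ Subgroup.center Q
          have h1 : (a * b)⁻¹ * (σ ^ i) (a * b) =
              (b⁻¹ * (a⁻¹ * (σ ^ i) a) * b) * (b⁻¹ * (σ ^ i) b) := by
            rw [map_mul]; group
          rw [h1]
          refine Subgroup.mul_mem _ ?_ hb
          have := (inferInstance : (Subgroup.center Q).Normal).conj_mem _ ha b⁻¹
          simpa using this
        inv_mem' := by
          intro a ha
          change (a⁻¹)⁻¹ * (σ ^ i) (a⁻¹) ∈ Subgroup.center Q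
          have h1 : (a⁻¹)⁻¹ * (σ ^ i) (a⁻¹) = a * (a⁻¹ * (σ ^ i) a)⁻¹ * a⁻¹ := by
            rw [map_inv]; group
          rw [h1]
          exact (inferInstance : (Subgroup.center Q).Normal).conj_mem _
            (Subgroup.inv_mem _ ha) a }
    have hLmem : ∀ x, x ∈ L ↔ x⁻¹ * (σ ^ i) x ∈ Subgroup.center Q := fun x => Iff.rfl
    have hZL : Subgroup.center Q ≤ L := by
      intro z hz
      rw [hLmem, hZk i z hz, inv_mul_cancel]
      exact Subgroup.one_mem _
    have hLn : L.Normal := by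
      refine ⟨fun x hx g => ?_⟩
      have h1 : g * x * g⁻¹ = (g * x * g⁻¹ * x⁻¹) * x := by group
      rw [h1]
      exact Subgroup.mul_mem _ (hZL (hcl g x)) hx
    have hLσ : ∀ x ∈ L, σ x ∈ L := by
      intro x hx
      rw [hLmem] at hx ⊢
      have h1 : (σ x)⁻¹ * (σ ^ i) (σ x) = σ (x⁻¹ * (σ ^ i) x) := by
        rw [map_mul, map_inv, ← MulAut.mul_apply, ← MulAut.mul_apply, ← pow_succ, ← pow_succ']
      rw [h1]
      have h2 := (Subgroup.characteristic_iff_map_le.mp
        (inferInstance : (Subgroup.center Q).Characteristic)) σ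
      exact h2 ⟨_, hx, rfl⟩
    by_cases hLt : L = ⊤
    · exfalso
      have h1 : σ ^ i = 1 := by
        refine eq_one_of_trivial hpq hQ (σ ^ i) n ?_ (hZk i) ?_
        · rw [← pow_mul, mul_comm, pow_mul, hσ, one_pow]
        · intro x
          have : x ∈ L := by rw [hLt]; exact Subgroup.mem_top x
          exact this
      exact hy (pow_eq_one_of_lt σ n hσ i hi hi' h1)
    · have := hLn
      exact le_center_of_normal hpq hQ σ n hn hσ hy hmin L hLt hLσ hg
  refine ⟨?_, hcl, hfree, ?_⟩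
  · by_contra hcon
    push Not at hcon
    apply hZt
    rw [eq_top_iff]
    intro g _
    exact Subgroup.mem_center_iff.mpr fun h => hcon h g
  · -- the free action of `⟨σ⟩` on the complement of the centre
    have hord : orderOf σ = p ^ n := by
      obtain ⟨m, rfl⟩ : ∃ m, n = m + 1 := ⟨n - 1, by omega⟩
      exact orderOf_eq_prime_pow (by simpa using hy) hσ
    let A : SubMulAction (Subgroup.zpowers σ) Q :=
      { carrier := {x | x ∉ Subgroup.center Q}
        smul_mem' := by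
          rintro ⟨f, hf⟩ x hx hfx
          apply hx
          have h2 := (Subgroup.characteristic_iff_map_le.mp
            (inferInstance : (Subgroup.center Q).Characteristic)) f⁻¹
          have h3 : f⁻¹ (f x) ∈ Subgroup.center Q := h2 ⟨_, hfx, rfl⟩
          simpa using h3 }
    have hstab : ∀ b : A, MulAction.stabilizer (Subgroup.zpowers σ) b = ⊥ := by
      rintro ⟨b, hb⟩
      rw [eq_bot_iff]
      rintro ⟨f, hf⟩ hfb
      rw [Subgroup.mem_bot]
      have hfb' : f b = b := congrArg Subtype.val (MulAction.mem_stabilizer_iff.mp hfb)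
      obtain ⟨k, hk⟩ := (mem_powers_iff_mem_zpowers.mpr hf : f ∈ Submonoid.powers σ)
      replace hk : σ ^ k = f := hk
      have hk' : σ ^ (k % p ^ n) = f := by rw [← hord, pow_mod_orderOf, hk]
      have hlt : k % p ^ n < p ^ n := Nat.mod_lt _ (pow_pos hpp.pos n)
      rcases Nat.eq_zero_or_pos (k % p ^ n) with h0 | h0
      · rw [h0, pow_zero] at hk'
        exact Subtype.ext hk'.symm
      · exfalso
        apply hb
        refine hfree b (k % p ^ n) h0 hlt ?_
        rw [hk', hfb', inv_mul_cancel]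
        exact Subgroup.one_mem _
    have h1 : Nat.card A = Nat.card (Quotient (MulAction.orbitRel (Subgroup.zpowers σ) A)) *
        Nat.card (Subgroup.zpowers σ) := by
      rw [← Nat.card_prod]
      exact Nat.card_congr (MulAction.selfEquivOrbitsQuotientProd hstab)
    have h2 : Nat.card A = Nat.card Q - Nat.card (Subgroup.center Q) := by
      classical
      have h3 : Nat.card Q = Nat.card (Subgroup.center Q) + Nat.card A := by
        rw [← Nat.card_sum]
        exact Nat.card_congr (Equiv.sumCompl (fun x : Q => x ∈ Subgroup.center Q)).symm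
      omega
    have h3 : p ^ n ∣ Nat.card A := by
      rw [h1, Nat.card_zpowers, hord]
      exact dvd_mul_left _ _
    have h4 : Nat.card Q - Nat.card (Subgroup.center Q) =
        Nat.card (Subgroup.center Q) * (Nat.card (Q ⧸ Subgroup.center Q) - 1) := by
      rw [Nat.mul_sub, mul_one, mul_comm, ← Subgroup.card_eq_card_quotient_mul_card_subgroup]
    rw [h2, h4] at h3
    refine Nat.Coprime.dvd_of_dvd_mul_left ?_ h3
    obtain ⟨m, hm⟩ := IsPGroup.iff_card.mp (hQ.to_subgroup (Subgroup.center Q))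
    rw [hm]
    exact Nat.Coprime.pow n m ((Nat.coprime_primes Fact.out Fact.out).mpr hpq.symm)

/-- Existence of a minimal situation: a `σ`-invariant subgroup `L` of class at most two with `L = [L, τ]`,
`τ = σ ^ (p ^ (n - 1))`. -/
theorem exists_minimal (hpq : q ≠ p) (hQ : IsPGroup q Q) (σ : MulAut Q) (n : ℕ) (hn : 1 ≤ n)
    (hσ : σ ^ (p ^ n) = 1) (hy : ∃ g, (σ ^ (p ^ (n - 1))) g ≠ g) :
    ∃ L : Subgroup Q, L ≠ ⊥ ∧ L.map σ.toMonoidHom = L ∧
      (∀ a ∈ L, ∀ b ∈ L, ∀ c ∈ L, (a * b * a⁻¹ * b⁻¹) * c = c * (a * b * a⁻¹ * b⁻¹)) ∧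
      Subgroup.closure {z : Q | ∃ u ∈ L, z = (σ ^ (p ^ (n - 1))) u * u⁻¹} = L := by
  have hpp : p.Prime := Fact.out
  set τ := σ ^ (p ^ (n - 1)) with hτ
  have hτp : τ ^ p = 1 := by
    rw [hτ, ← pow_mul, ← pow_succ, Nat.sub_add_cancel hn, hσ]
  obtain ⟨L, -, hL⟩ := (Set.toFinite {L : Subgroup Q | L.map σ.toMonoidHom = L ∧
    ∃ g ∈ L, τ g ≠ g}).exists_le_minimal (a := (⊤ : Subgroup Q)) (by
      refine ⟨Subgroup.map_top_of_surjective _ σ.surjective, ?_⟩
      obtain ⟨g, hg⟩ := hy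
      exact ⟨g, Subgroup.mem_top g, hg⟩)
  obtain ⟨hLσ, g₀, hg₀L, hg₀⟩ := hL.1
  -- smaller invariant subgroups are fixed
  have hfix : ∀ M : Subgroup Q, M.map σ.toMonoidHom = M → M ≤ L → M ≠ L → ∀ g ∈ M, τ g = g := by
    intro M hM hML hne g hg
    by_contra hcon
    exact hne (le_antisymm hML (hL.2 ⟨hM, g, hg, hcon⟩ hML))
  have hσL : ∀ g ∈ L, σ g ∈ L := by
    intro g hg
    rw [← hLσ]
    exact ⟨g, hg, rfl⟩
  have hτL : ∀ g ∈ L, τ g ∈ L := pow_mem_of_mem σ L hσL _
  have hστ : ∀ g, σ (τ g) = τ (σ g) := by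
    intro g
    rw [← MulAut.mul_apply, ← MulAut.mul_apply, hτ, ← pow_succ, ← pow_succ']
  set A : Set Q := {z : Q | ∃ u ∈ L, z = τ u * u⁻¹} with hA
  have hRL : Subgroup.closure A ≤ L := by
    rw [Subgroup.closure_le]
    rintro _ ⟨u, hu, rfl⟩
    exact L.mul_mem (hτL u hu) (L.inv_mem hu)
  have hAσ : σ.toMonoidHom '' A = A := by
    ext z
    constructor
    · rintro ⟨_, ⟨u, hu, rfl⟩, rfl⟩
      refine ⟨σ u, hσL u hu, ?_⟩
      change σ (τ u * u⁻¹) = _
      rw [map_mul, map_inv, hστ]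
    · rintro ⟨u, hu, rfl⟩
      rw [← hLσ] at hu
      obtain ⟨v, hv, rfl⟩ := hu
      refine ⟨τ v * v⁻¹, ⟨v, hv, rfl⟩, ?_⟩
      change σ (τ v * v⁻¹) = τ (σ v) * (σ v)⁻¹
      rw [map_mul, map_inv, hστ]
  have hRσ : (Subgroup.closure A).map σ.toMonoidHom = Subgroup.closure A := by
    rw [MonoidHom.map_closure, hAσ]
  have hRe : Subgroup.closure A = L := by
    by_contra hne
    apply hg₀
    have h1 := hfix _ hRσ hRL hne
    have h2 : τ g₀⁻¹ = g₀⁻¹ := by
      refine apply_eq_of_fixed τ g₀⁻¹ ?_ p hτp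
        (by simpa using coprime_orderOf (p := p) hpq hQ ((g₀⁻¹)⁻¹ * τ g₀⁻¹) 1)
      have h3 : (g₀⁻¹)⁻¹ * τ g₀⁻¹ = (τ g₀ * g₀⁻¹)⁻¹ := by
        rw [map_inv]; group
      rw [h3]
      exact h1 _ (Subgroup.inv_mem _ (Subgroup.subset_closure ⟨g₀, hg₀L, rfl⟩))
    rw [map_inv] at h2
    exact inv_injective h2
  have hL1 : L ≠ ⊥ := by
    rintro rfl
    rw [Subgroup.mem_bot] at hg₀L
    rw [hg₀L, map_one] at hg₀
    exact hg₀ rfl
  refine ⟨L, hL1, hLσ, ?_, hRe⟩
  have hnil : Group.IsNilpotent Q := hQ.isNilpotent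
  have hDL : ⁅L, L⁆ < L := Group.IsSolvable.commutator_lt_of_ne_bot hL1
  have hDσ : (⁅L, L⁆ : Subgroup Q).map σ.toMonoidHom = ⁅L, L⁆ := by
    rw [Subgroup.map_commutator, hLσ]
  have hD := hfix _ hDσ hDL.le hDL.ne
  have hcomm : L ≤ Subgroup.centralizer (⁅L, L⁆ : Subgroup Q) := by
    rw [← hRe, Subgroup.closure_le, hRe]
    rintro _ ⟨u, hu, rfl⟩
    rw [SetLike.mem_coe, Subgroup.mem_centralizer_iff]
    intro c hc
    have h1 : u⁻¹ * c * u ∈ ⁅L, L⁆ := by
      have hn : L ≤ Subgroup.normalizer ((⁅L, L⁆ : Subgroup Q) : Set Q) :=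
        Subgroup.normalizer_commutator_ge_left L L
      have h4 := (Subgroup.mem_normalizer_iff.mp (hn (L.inv_mem hu)) c).mp hc
      simpa using h4
    have h2 : τ (u⁻¹ * c * u) = u⁻¹ * c * u := hD _ h1
    rw [map_mul, map_mul, map_inv, hD c hc] at h2
    have h3 : c * τ u = τ u * (u⁻¹ * c * u) := by rw [← h2]; group
    calc c * (τ u * u⁻¹) = (c * τ u) * u⁻¹ := by group
      _ = τ u * (u⁻¹ * c * u) * u⁻¹ := by rw [h3]
      _ = τ u * u⁻¹ * c := by group
  intro a ha b hb c hc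
  exact (Subgroup.mem_centralizer_iff.mp (hcomm hc)) _ (Subgroup.commutator_mem_commutator ha hb)

end

end Cfsg.Agent.PLocal.HHBMinimal
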