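import Mathlib
import Cfsg.Agent.PLocal.HHBUnip
import Cfsg.Agent.PLocal.HHBLinear
import Cfsg.Agent.PLocal.HHBJordan
import Cfsg.Agent.PLocal.HHBMinimal
import Cfsg.Agent.PLocal.HHBClifford
set_option linter.all false

-- part: PLocal/HHBCoreAux
section
/-!
# Hall–Higman Theorem B: the core, given the minimal subgroup and the Clifford-type subspace
-/

set_option autoImplicit false

open Module

namespace Cfsg.Agent.PLocal.HHBCoreAux

open Cfsg.Agent.PLocal.HHBLinear Cfsg.Agent.PLocal.HHBJordan Cfsg.Agent.PLocal.HHBUnip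
open scoped commutatorElement

universe u v w

/-- iterates of an endomorphism restricted to an invariant subspace -/
theorem restrict_pow_apply {K V : Type*} [Field K] [AddCommGroup V] [Module K V] (U : Submodule K V)
    (A : Module.End K V) (B : Module.End K U) (h : ∀ u : U, ((B u : U) : V) = A u) (k : ℕ) :
    ∀ u : U, (((B ^ k) u : U) : V) = (A ^ k) u := by
  induction k with
  | zero => intro u; rfl
  | succ k ih =>
    intro u
    rw [pow_succ, pow_succ]
    change (((B ^ k) (B u) : U) : V) = (A ^ k) (A u)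
    rw [ih, h]

/-- The exponent of the `p`-part: if `(Y - 1)^j ≠ 0` on `U`, where `Y` is the restriction of `X^(p^s)` to `U` and the
translates of `U` are independent, then `p^s * (j + 1) ≤ r`. -/
theorem le_of_pow_ne_zero {K : Type w} [Field K] {p : ℕ} [Fact p.Prime] [CharP K p]
    {V : Type v} [AddCommGroup V] [Module K V] (X : Module.End K V) (s : ℕ) (U : Submodule K V)
    (Y : Module.End K U) (hY : ∀ u : U, ((Y u : U) : V) = (X ^ (p ^ s)) u)
    (hind : ∀ u ∈ U, ∑ i ∈ Finset.range (p ^ s), (X ^ i) u = 0 → u = 0)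
    (r : ℕ) (hr : (X - 1) ^ r = 0) (j : ℕ) (hj : (Y - 1) ^ j ≠ 0) : p ^ s * (j + 1) ≤ r := by
  by_contra hlt
  push Not at hlt
  apply hj
  have hpos : 0 < p ^ s := pow_pos (Fact.out : p.Prime).pos s
  ext u
  change (((Y - 1) ^ j) u : V) = 0
  apply hind _ (((Y - 1) ^ j) u).2
  have h1 : ∀ x : V, ∑ i ∈ Finset.range (p ^ s), (X ^ i) x = ((X - 1) ^ (p ^ s - 1)) x := by
    intro x
    rw [← geom_eq K p X s, LinearMap.sum_apply]
  have h2 : (X - 1) ^ (p ^ s) = X ^ (p ^ s) - 1 := by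
    have h3 := congrArg (Polynomial.aeval X)
      (sub_pow_char_pow (R := Polynomial K) (p := p) (n := s) (Polynomial.X) 1)
    simpa using h3
  have h4 : ∀ u : U, (((Y - 1 : Module.End K U) u : U) : V) = ((X - 1) ^ (p ^ s)) u := by
    intro u
    rw [h2]
    change ((Y u : U) : V) - (u : V) = (X ^ (p ^ s)) u - u
    rw [hY]
  rw [h1, restrict_pow_apply U ((X - 1) ^ (p ^ s)) (Y - 1) h4 j u, ← pow_mul, ← Module.End.mul_apply,
    ← pow_add]
  have h5 : p ^ s - 1 + p ^ s * j = r + (p ^ s - 1 + p ^ s * j - r) := by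
    have : p ^ s * (j + 1) = p ^ s * j + p ^ s := by ring
    omega
  rw [h5, pow_add, hr, zero_mul, LinearMap.zero_apply]

/-- The core for a group `Q` of class at most two generated by the `τ(h) h⁻¹`. -/
theorem core_aux {K : Type w} [Field K] [IsAlgClosed K] {p q : ℕ} [Fact p.Prime] [CharP K p]
    [Fact q.Prime] (hpq : q ≠ p) {V : Type v} [AddCommGroup V] [Module K V] [FiniteDimensional K V]
    {Q : Type u} [Group Q] [Fintype Q] (hQ : IsPGroup q Q)
    (finrank_sq : ∀ (U : Type v) [AddCommGroup U] [Module K U] [FiniteDimensional K U]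
      [Nontrivial U] (ρ : Q →* Module.End K U) (κ : Q → Q → K)
      (hκ : CommScalar ρ κ), IsIrr ρ → Module.finrank K U ^ 2 = hκ.rad.index)
    (ρ : Q →* Module.End K V) (σ : MulAut Q) (X : Module.End K V)
    (hXρ : ∀ g, X * ρ g = ρ (σ g) * X) (n : ℕ) (hXn : X ^ (p ^ n) = 1)
    (hσn : σ ^ (p ^ n) = 1)
    (hcl : ∀ a b c : Q, ⁅a, b⁆ * c = c * ⁅a, b⁆)
    (hgen : Subgroup.closure {z : Q | ∃ h : Q, z = (σ ^ (p ^ (n - 1))) h * h⁻¹} = ⊤)
    (s : ℕ) (hs : s ≤ n) (U : Submodule K V) (hU : U ≠ ⊥) (hUρ : ∀ h, ∀ u ∈ U, ρ h u ∈ U)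
    (hirr : ∀ S ≤ U, (∀ h, ∀ u ∈ S, ρ h u ∈ S) → S = ⊥ ∨ S = U)
    (hne : ∃ h, ∃ u ∈ U, ρ h u ≠ u)
    (hUX : ∀ u ∈ U, (X ^ (p ^ s)) u ∈ U)
    (hind : ∀ u ∈ U, ∑ i ∈ Finset.range (p ^ s), (X ^ i) u = 0 → u = 0)
    (r : ℕ) (hr : (X - 1) ^ r = 0) :
    p ^ n ≤ r ∨ ∃ n₀ m : ℕ, 1 ≤ n₀ ∧ n₀ ≤ n ∧ 1 ≤ m ∧ p ^ n₀ - 1 = q ^ m ∧
      (∃ a b : Q, a * b ≠ b * a) ∧ p ^ (n - n₀) * (p ^ n₀ - 1) ≤ r := by
  classical
  have hUn : Nontrivial U := Submodule.nontrivial_iff_ne_bot.2 hU
  -- the restricted representation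
  let ρU : Q →* Module.End K U :=
    { toFun := fun g => (ρ g).restrict (hUρ g)
      map_one' := by
        ext x
        simp
      map_mul' := by
        intro g h
        ext x
        simp }
  have hρU : ∀ (g : Q) (u : U), ((ρU g u : U) : V) = ρ g u := fun g u => rfl
  let Y₀ : Module.End K U := (X ^ (p ^ s)).restrict hUX
  have hY₀ : ∀ u : U, ((Y₀ u : U) : V) = (X ^ (p ^ s)) u := fun u => rfl
  have key : ∀ j, (Y₀ - 1) ^ j ≠ 0 → p ^ s * (j + 1) ≤ r :=
    le_of_pow_ne_zero X s U Y₀ hY₀ hind r hr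
  rcases hs.eq_or_lt with rfl | hsn
  · left
    have := key 0 (by rw [pow_zero]; exact one_ne_zero)
    simpa using this
  -- now `s < n`
  set k := n - s with hk
  have hk1 : 1 ≤ k := by omega
  have hY₀pow : Y₀ ^ (p ^ k) = 1 := by
    ext u
    rw [restrict_pow_apply U (X ^ (p ^ s)) Y₀ hY₀, ← pow_mul, ← pow_add, hk,
      Nat.add_sub_cancel' hs, hXn]
    rfl
  have hpk : p ^ k ≠ 0 := (pow_pos (Fact.out : p.Prime).pos k).ne'
  obtain ⟨Y, hYval⟩ : ∃ Y : (Module.End K U)ˣ, (Y : Module.End K U) = Y₀ :=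
    IsUnit.of_pow_eq_one hY₀pow hpk
  have hXρpow : ∀ (i : ℕ) (g : Q), X ^ i * ρ g = ρ ((σ ^ i) g) * X ^ i := by
    intro i
    induction i with
    | zero => intro g; simp
    | succ i ih =>
      intro g
      rw [pow_succ', mul_assoc, ih, ← mul_assoc, hXρ, mul_assoc, pow_succ', MulAut.mul_apply]
  have hYρ : ∀ h, (Y : Module.End K U) * ρU h = ρU ((σ ^ (p ^ s)) h) * Y := by
    intro h
    rw [hYval]
    ext u
    exact LinearMap.congr_fun (hXρpow (p ^ s) h) (u : V)
  have hσ' : (σ ^ (p ^ s)) ^ (p ^ k) = 1 := by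
    rw [← pow_mul, ← pow_add, hk, Nat.add_sub_cancel' hs, hσn]
  have hgen' : Subgroup.closure {z : Q | ∃ h : Q, z = ((σ ^ (p ^ s)) ^ (p ^ (k - 1))) h * h⁻¹} = ⊤ := by
    have : (σ ^ (p ^ s)) ^ (p ^ (k - 1)) = σ ^ (p ^ (n - 1)) := by
      rw [← pow_mul, ← pow_add]
      congr 2
      omega
    rw [this]
    exact hgen
  have hirrU : IsIrr ρU := by
    intro S hS
    have hinj := Submodule.map_injective_of_injective (f := U.subtype) U.injective_subtype
    rcases hirr (S.map U.subtype) (Submodule.map_subtype_le _ _) (by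
      rintro h _ ⟨u, hu, rfl⟩
      exact ⟨ρU h u, hS h u hu, rfl⟩) with h | h
    · left
      exact hinj (h.trans (Submodule.map_bot _).symm)
    · right
      exact hinj (h.trans (by rw [Submodule.map_top, Submodule.range_subtype]))
  -- the representation is not centralized by `Y`
  have hA : ¬ ∀ h, (Y : Module.End K U) * ρU h = ρU h * Y := by
    intro hcom
    have h1 : ∀ h, ρU ((σ ^ (p ^ s)) h) = ρU h := by
      intro h
      have := hcom h
      rw [hYρ] at this
      exact (Units.mul_left_inj Y).1 this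
    have h2 : ∀ (i : ℕ) (h : Q), ρU (((σ ^ (p ^ s)) ^ i) h) = ρU h := by
      intro i
      induction i with
      | zero => intro h; simp
      | succ i ih =>
        intro h
        rw [pow_succ', MulAut.mul_apply, h1, ih]
    have h3 : ρU.ker = ⊤ := by
      rw [eq_top_iff, ← hgen', Subgroup.closure_le]
      rintro _ ⟨h, rfl⟩
      change ρU _ = 1
      rw [map_mul, h2, ← map_mul, mul_inv_cancel, map_one]
    obtain ⟨h, u, hu, hne⟩ := hne
    apply hne
    have h4 : h ∈ ρU.ker := by rw [h3]; trivial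
    rw [MonoidHom.mem_ker] at h4
    have h5 := congrArg Subtype.val (LinearMap.congr_fun h4 ⟨u, hu⟩)
    exact h5
  obtain ⟨κ, hκ⟩ := exists_commScalar hirrU hcl
  obtain ⟨a, ha⟩ := IsPGroup.iff_card.1 hQ
  have hcard : (Fintype.card Q : K) ≠ 0 := by
    rw [← Nat.card_eq_fintype_card, ha]
    intro h0
    rw [CharP.cast_eq_zero_iff K p] at h0
    exact hpq ((Nat.prime_dvd_prime_iff_eq (Fact.out : p.Prime) (Fact.out : q.Prime)).1
      ((Fact.out : p.Prime).dvd_of_dvd_pow h0)).symm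
  have hD : Decomp Y (p ^ k) := by
    intro T hT
    exact hκ.exists_trace hirrU hcard hYρ hk1 hσ' hgen' hT
  have hY1 : (Y : Module.End K U) - 1 ≠ 0 := by
    intro h0
    apply hA
    intro h
    rw [sub_eq_zero.1 h0, one_mul, mul_one]
  have hne2 := pow_ne_zero_of_decomp p k hk1 hD hY1
  have hp2 : 2 ≤ p ^ k := by
    calc 2 ≤ p := (Fact.out : p.Prime).two_le
      _ = p ^ 1 := (pow_one p).symm
      _ ≤ p ^ k := Nat.pow_le_pow_right (Fact.out : p.Prime).pos hk1
  have hpn : p ^ s * p ^ k = p ^ n := by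
    rw [← pow_add, hk, Nat.add_sub_cancel' hs]
  by_cases h0 : ((Y : Module.End K U) - 1) ^ (p ^ k - 1) = 0
  swap
  · left
    rw [hYval] at h0
    have := key _ h0
    rw [Nat.sub_add_cancel (by omega), hpn] at this
    exact this
  right
  have hfr := finrank_eq_of_decomp p k hk1 hD hY1 h0
  have hsq := finrank_sq U ρU κ hκ hirrU
  obtain ⟨m, hm⟩ : ∃ m, finrank K U = q ^ m := by
    have h1 : finrank K U ∣ q ^ a := by
      rw [← ha]
      refine (Dvd.intro_left _ (pow_two _).symm).trans ?_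
      rw [hsq]
      exact hκ.rad.index_dvd_card
    obtain ⟨m, -, hm⟩ := (Nat.dvd_prime_pow (Fact.out : q.Prime)).1 h1
    exact ⟨m, hm⟩
  have hne1 : finrank K U ≠ 1 := by
    intro h1
    apply hA
    intro h
    obtain ⟨c, hc, -⟩ := LinearMap.existsUnique_eq_smul_id_of_finrank_eq_one h1 (ρU h)
    have hc : ρU h = c • 1 := hc
    rw [hc, mul_smul_comm, mul_one, smul_mul_assoc, one_mul]
  refine ⟨k, m, hk1, by omega, ?_, ?_, ?_, ?_⟩
  · rcases Nat.eq_zero_or_pos m with rfl | h1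
    · rw [pow_zero] at hm
      exact absurd hm hne1
    · exact h1
  · rw [← hfr, hm]
  · by_contra hcomm
    push Not at hcomm
    apply hA
    intro h
    obtain ⟨c, hc⟩ := schur hirrU (ρU h) (fun g => by rw [← map_mul, ← map_mul, hcomm])
    rw [hc, mul_smul_comm, mul_one, smul_mul_assoc, one_mul]
  · rw [hYval] at hne2
    have h1 := key _ hne2
    have h2 : n - k = s := by omega
    have h3 : p ^ k - 2 + 1 = p ^ k - 1 := by omega
    rw [h2]
    rwa [h3] at h1

end Cfsg.Agent.PLocal.HHBCoreAux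
end

-- part: PLocal/HHBCent
section
/-!
The centralizer of an endomorphism, as a submodule of the endomorphism algebra (used for Hall-Higman Theorem B).
-/

set_option autoImplicit false
open Module

namespace Cfsg.Agent.PLocal.HHBCent

/-- The centralizer of `X` in `End K V` as a submodule. -/
def cent {K V : Type*} [Field K] [AddCommGroup V] [Module K V] (X : Module.End K V) :
    Submodule K (Module.End K V) where
  carrier := {T | T * X = X * T}
  add_mem' := by
    intro a b ha hb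
    simp only [Set.mem_ofPred_eq] at *
    rw [add_mul, mul_add, ha, hb]
  zero_mem' := by simp
  smul_mem' := by
    intro c x hx
    simp only [Set.mem_ofPred_eq] at *
    rw [smul_mul_assoc, mul_smul_comm, hx]

theorem mem_cent {K V : Type*} [Field K] [AddCommGroup V] [Module K V] {X T : Module.End K V} :
    T ∈ cent X ↔ T * X = X * T := Iff.rfl

end Cfsg.Agent.PLocal.HHBCent
end

-- part: PLocal/HHBTwisted
section
/-!
A faithful representation `ρ` of a finite group `Q` of class at most two over a field in which `|Q|` is nonzero,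
with scalar commutant: the images of coset representatives of the centre form a basis of the endomorphism algebra.
-/

set_option autoImplicit false
open Module Cfsg.Agent.PLocal.HHBCent

namespace Cfsg.Agent.PLocal.HHBTwisted

variable {K V : Type*} [Field K] [AddCommGroup V] [Module K V]
variable {Q : Type*} [Group Q]

/-- The centre acts by scalars. -/
theorem exists_scalar (ρ : Q →* Module.End K V)
    (hcomm : ∀ T : Module.End K V, (∀ g, T * ρ g = ρ g * T) → ∃ a : K, T = a • 1)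
    {z : Q} (hz : z ∈ Subgroup.center Q) : ∃ a : K, ρ z = a • 1 := by
  refine hcomm _ fun g => ?_
  rw [← map_mul, ← map_mul, Subgroup.mem_center_iff.1 hz g]

/-- The sum of the conjugates of a noncentral element vanishes. -/
theorem sum_conj_eq_zero [Fintype Q] (ρ : Q →* Module.End K V) (hρ : Function.Injective ρ)
    (hcl : ∀ a b : Q, a * b * a⁻¹ * b⁻¹ ∈ Subgroup.center Q)
    (hcomm : ∀ T : Module.End K V, (∀ g, T * ρ g = ρ g * T) → ∃ a : K, T = a • 1)
    {x : Q} (hx : x ∉ Subgroup.center Q) : ∑ h : Q, ρ (h * x * h⁻¹) = 0 := by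
  rw [Subgroup.mem_center_iff] at hx
  push Not at hx
  obtain ⟨h₀, hh₀⟩ := hx
  have hz := hcl h₀ x
  set z := h₀ * x * h₀⁻¹ * x⁻¹ with hzdef
  obtain ⟨a, ha⟩ := exists_scalar ρ hcomm hz
  have hz1 : z ≠ 1 := by
    intro h1
    apply hh₀
    rw [hzdef, mul_inv_eq_one, mul_inv_eq_iff_eq_mul] at h1
    exact h1
  have ha1 : a ≠ 1 := by
    rintro rfl
    rw [one_smul] at ha
    exact hz1 (hρ (by rw [ha, map_one]))
  have key : ∑ h : Q, ρ (h * x * h⁻¹) = a • ∑ h : Q, ρ (h * x * h⁻¹) := by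
    conv_lhs => rw [← Equiv.sum_comp (Equiv.mulRight h₀)]
    rw [Finset.smul_sum]
    refine Finset.sum_congr rfl fun h _ => ?_
    have h1 : (Equiv.mulRight h₀) h * x * ((Equiv.mulRight h₀) h)⁻¹ = z * (h * x * h⁻¹) := by
      have hzx : h₀ * x * h₀⁻¹ = z * x := by rw [hzdef]; group
      have hzc : h * z = z * h := Subgroup.mem_center_iff.1 hz h
      calc (Equiv.mulRight h₀) h * x * ((Equiv.mulRight h₀) h)⁻¹
          = h * (h₀ * x * h₀⁻¹) * h⁻¹ := by simp [mul_assoc]
        _ = (h * z) * x * h⁻¹ := by rw [hzx]; simp [mul_assoc]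
        _ = z * (h * x * h⁻¹) := by rw [hzc]; simp [mul_assoc]
    rw [h1, map_mul, ha, smul_mul_assoc, one_mul]
  have h2 : (1 - a) • ∑ h : Q, ρ (h * x * h⁻¹) = 0 := by
    rw [sub_smul, one_smul, sub_eq_zero]
    exact key
  rcases smul_eq_zero.1 h2 with h3 | h3
  · exact absurd (sub_eq_zero.1 h3).symm ha1
  · exact h3

/-- Averaging an endomorphism over the group gives a scalar. -/
theorem exists_avg [Fintype Q] (ρ : Q →* Module.End K V)
    (hcomm : ∀ T : Module.End K V, (∀ g, T * ρ g = ρ g * T) → ∃ a : K, T = a • 1)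
    (T : Module.End K V) : ∃ a : K, ∑ h : Q, ρ h * T * ρ h⁻¹ = a • 1 := by
  refine hcomm _ fun g => ?_
  rw [Finset.sum_mul, Finset.mul_sum]
  conv_lhs => rw [← Equiv.sum_comp (Equiv.mulLeft g)]
  refine Finset.sum_congr rfl fun h _ => ?_
  have h1 : ρ ((Equiv.mulLeft g) h)⁻¹ = ρ h⁻¹ * ρ g⁻¹ := by
    rw [← map_mul]; simp
  have h2 : ρ ((Equiv.mulLeft g) h) = ρ g * ρ h := by
    rw [← map_mul]; simp
  have h3 : ρ g⁻¹ * ρ g = 1 := by rw [← map_mul, inv_mul_cancel, map_one]
  rw [h1, h2]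
  simp only [mul_assoc]
  rw [h3, mul_one]

/-- The group spans the endomorphism algebra. -/
theorem span_range_eq_top [Finite Q] (hK : (Nat.card Q : K) ≠ 0)
    (ρ : Q →* Module.End K V) (hρ : Function.Injective ρ)
    (hcl : ∀ a b : Q, a * b * a⁻¹ * b⁻¹ ∈ Subgroup.center Q)
    (hcomm : ∀ T : Module.End K V, (∀ g, T * ρ g = ρ g * T) → ∃ a : K, T = a • 1) :
    Submodule.span K (Set.range ρ) = ⊤ := by
  classical
  have : Fintype Q := Fintype.ofFinite Q
  rw [eq_top_iff]
  intro T _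
  -- the double sum
  have hsum : ∑ g : Q, (∑ h : Q, ρ h * (T * ρ g⁻¹) * ρ h⁻¹) * ρ g
      = ((Nat.card Q : K) * (Nat.card (Subgroup.center Q) : K)) • T := by
    have h1 : ∀ h : Q, (∑ g : Q, ρ h * (T * ρ g⁻¹) * ρ h⁻¹ * ρ g) =
        if h ∈ Subgroup.center Q then (Nat.card Q : K) • T else 0 := by
      intro h
      have h2 : (∑ g : Q, ρ h * (T * ρ g⁻¹) * ρ h⁻¹ * ρ g) =
          ρ h * T * ∑ g : Q, ρ (g * h⁻¹ * g⁻¹) := by
        rw [Finset.mul_sum, ← Equiv.sum_comp (Equiv.inv Q)]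
        refine Finset.sum_congr rfl fun g _ => ?_
        simp only [map_mul, mul_assoc, Equiv.inv_apply, inv_inv]
      rw [h2]
      split_ifs with hh
      · have h3 : ∀ g : Q, ρ (g * h⁻¹ * g⁻¹) = ρ h⁻¹ := by
          intro g
          have := Subgroup.mem_center_iff.1 (inv_mem hh) g
          rw [this, mul_inv_cancel_right]
        simp only [h3, Finset.sum_const, Finset.card_univ]
        obtain ⟨a, ha⟩ := exists_scalar ρ hcomm hh
        rw [mul_smul_comm, ha, Nat.card_eq_fintype_card, Nat.cast_smul_eq_nsmul]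
        congr 1
        have h4 : ρ h * ρ h⁻¹ = 1 := by rw [← map_mul, mul_inv_cancel, map_one]
        rw [ha] at h4
        rw [smul_mul_assoc, one_mul, smul_mul_assoc, ← mul_smul_comm,
          show (a • ρ h⁻¹) = 1 from by rw [← h4, smul_mul_assoc, one_mul], mul_one]
      · rw [sum_conj_eq_zero ρ hρ hcl hcomm (fun hc => hh (inv_mem_iff.1 hc)), mul_zero]
    simp only [Finset.sum_mul]
    rw [Finset.sum_comm]
    simp only [h1]
    rw [← Finset.sum_filter, Finset.sum_const, mul_comm, mul_smul]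
    have h5 : (Finset.univ.filter (fun h : Q => h ∈ Subgroup.center Q)).card =
        Nat.card (Subgroup.center Q) := by
      rw [Nat.card_eq_fintype_card, Fintype.card_subtype]
    rw [h5]
    simp only [Nat.cast_smul_eq_nsmul]
  have hZ : (Nat.card (Subgroup.center Q) : K) ≠ 0 := by
    intro h0
    apply hK
    have := Subgroup.card_subgroup_dvd_card (Subgroup.center Q)
    obtain ⟨m, hm⟩ := this
    rw [hm, Nat.cast_mul, h0, zero_mul]
  have hmem : ((Nat.card Q : K) * (Nat.card (Subgroup.center Q) : K)) • T ∈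
      Submodule.span K (Set.range ρ) := by
    rw [← hsum]
    refine Submodule.sum_mem _ fun g _ => ?_
    obtain ⟨a, ha⟩ := exists_avg ρ hcomm (T * ρ g⁻¹)
    rw [ha, smul_mul_assoc, one_mul]
    exact Submodule.smul_mem _ _ (Submodule.subset_span ⟨g, rfl⟩)
  have h6 := Submodule.smul_mem _ ((Nat.card Q : K) * (Nat.card (Subgroup.center Q) : K))⁻¹ hmem
  rwa [smul_smul, inv_mul_cancel₀ (mul_ne_zero hK hZ), one_smul] at h6

/-- Coset representatives of the centre span the endomorphism algebra. -/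
theorem span_reps_eq_top [Finite Q] (hK : (Nat.card Q : K) ≠ 0)
    (ρ : Q →* Module.End K V) (hρ : Function.Injective ρ)
    (hcl : ∀ a b : Q, a * b * a⁻¹ * b⁻¹ ∈ Subgroup.center Q)
    (hcomm : ∀ T : Module.End K V, (∀ g, T * ρ g = ρ g * T) → ∃ a : K, T = a • 1)
    (r : Q ⧸ Subgroup.center Q → Q) (hr : ∀ c, (r c : Q ⧸ Subgroup.center Q) = c) :
    Submodule.span K (Set.range fun c => ρ (r c)) = ⊤ := by
  rw [eq_top_iff, ← span_range_eq_top hK ρ hρ hcl hcomm, Submodule.span_le]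
  rintro _ ⟨g, rfl⟩
  have h1 : (r (g : Q ⧸ Subgroup.center Q))⁻¹ * g ∈ Subgroup.center Q := by
    rw [← QuotientGroup.eq]; exact hr _
  obtain ⟨a, ha⟩ := exists_scalar ρ hcomm h1
  have h2 : ρ g = a • ρ (r (g : Q ⧸ Subgroup.center Q)) := by
    have : g = r (g : Q ⧸ Subgroup.center Q) * ((r (g : Q ⧸ Subgroup.center Q))⁻¹ * g) := by group
    conv_lhs => rw [this]
    rw [map_mul, ha, mul_smul_comm, mul_one]
  rw [SetLike.mem_coe, h2]
  exact Submodule.smul_mem _ _ (Submodule.subset_span ⟨_, rfl⟩)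

/-- Coset representatives of the centre are linearly independent. -/
theorem linearIndependent_reps [Finite Q] [Nontrivial V] (hK : (Nat.card Q : K) ≠ 0)
    (ρ : Q →* Module.End K V) (hρ : Function.Injective ρ)
    (hcl : ∀ a b : Q, a * b * a⁻¹ * b⁻¹ ∈ Subgroup.center Q)
    (hcomm : ∀ T : Module.End K V, (∀ g, T * ρ g = ρ g * T) → ∃ a : K, T = a • 1)
    (r : Q ⧸ Subgroup.center Q → Q) (hr : ∀ c, (r c : Q ⧸ Subgroup.center Q) = c) :
    LinearIndependent K (fun c => ρ (r c)) := by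
  classical
  have : Fintype Q := Fintype.ofFinite Q
  have : Fintype (Q ⧸ Subgroup.center Q) := Fintype.ofFinite _
  rw [Fintype.linearIndependent_iff]
  intro f hf c₀
  -- multiply by `ρ (r c₀)⁻¹` and average over conjugation
  have h1 : ∑ h : Q, ρ h * ((∑ c, f c • ρ (r c)) * ρ (r c₀)⁻¹) * ρ h⁻¹ =
      ((Nat.card Q : K) * f c₀) • 1 := by
    have h2 : ∀ h : Q, ρ h * ((∑ c, f c • ρ (r c)) * ρ (r c₀)⁻¹) * ρ h⁻¹ =
        ∑ c, f c • ρ (h * (r c * (r c₀)⁻¹) * h⁻¹) := by
      intro h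
      rw [Finset.sum_mul, Finset.mul_sum, Finset.sum_mul]
      refine Finset.sum_congr rfl fun c _ => ?_
      simp only [map_mul, smul_mul_assoc, mul_smul_comm]
    simp only [h2]
    rw [Finset.sum_comm]
    simp only [← Finset.smul_sum]
    rw [Finset.sum_eq_single c₀]
    · simp only [mul_inv_cancel, mul_one, map_one, Finset.sum_const, Finset.card_univ]
      rw [Nat.card_eq_fintype_card, mul_comm, mul_smul, Nat.cast_smul_eq_nsmul]
    · intro c _ hc
      rw [sum_conj_eq_zero ρ hρ hcl hcomm, smul_zero]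
      intro hmem
      apply hc
      rw [← hr c, ← hr c₀, QuotientGroup.eq]
      have h3 : (r c)⁻¹ * r c₀ = (r c)⁻¹ * (r c * (r c₀)⁻¹)⁻¹ * r c := by group
      rw [h3]
      have h4 := Subgroup.mem_center_iff.1 (inv_mem hmem) (r c)⁻¹
      rw [h4, inv_mul_cancel_right]
      exact inv_mem hmem
    · intro h; exact absurd (Finset.mem_univ _) h
  rw [hf] at h1
  simp only [zero_mul, mul_zero, Finset.sum_const_zero] at h1
  have h5 : (Nat.card Q : K) * f c₀ = 0 := by
    rcases smul_eq_zero.1 h1.symm with h | h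
    · exact h
    · exact absurd h one_ne_zero
  exact (mul_eq_zero.1 h5).resolve_left hK

/-- Coset representatives of the centre give a basis of the endomorphism algebra. -/
noncomputable def repsBasis [Finite Q] [Nontrivial V] (hK : (Nat.card Q : K) ≠ 0)
    (ρ : Q →* Module.End K V) (hρ : Function.Injective ρ)
    (hcl : ∀ a b : Q, a * b * a⁻¹ * b⁻¹ ∈ Subgroup.center Q)
    (hcomm : ∀ T : Module.End K V, (∀ g, T * ρ g = ρ g * T) → ∃ a : K, T = a • 1)
    (r : Q ⧸ Subgroup.center Q → Q) (hr : ∀ c, (r c : Q ⧸ Subgroup.center Q) = c) :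
    Basis (Q ⧸ Subgroup.center Q) K (Module.End K V) :=
  Basis.mk (linearIndependent_reps hK ρ hρ hcl hcomm r hr)
    (span_reps_eq_top hK ρ hρ hcl hcomm r hr).ge

theorem repsBasis_apply [Finite Q] [Nontrivial V] (hK : (Nat.card Q : K) ≠ 0)
    (ρ : Q →* Module.End K V) (hρ : Function.Injective ρ)
    (hcl : ∀ a b : Q, a * b * a⁻¹ * b⁻¹ ∈ Subgroup.center Q)
    (hcomm : ∀ T : Module.End K V, (∀ g, T * ρ g = ρ g * T) → ∃ a : K, T = a • 1)
    (r : Q ⧸ Subgroup.center Q → Q) (hr : ∀ c, (r c : Q ⧸ Subgroup.center Q) = c)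
    (c : Q ⧸ Subgroup.center Q) :
    repsBasis hK ρ hρ hcl hcomm r hr c = ρ (r c) :=
  Basis.mk_apply _ _ c

/-- L4a: if `Z(Q)` acts by scalars (faithful `ρ`) and the commutant of `ρ(Q)` is `K`, `Q` of class ≤ 2, then
`(dim V)^2 = |Q/Z|`. -/
theorem L4a {K V : Type*} [Field K] [AddCommGroup V] [Module K V] [FiniteDimensional K V] [Nontrivial V]
    {Q : Type*} [Group Q] [Finite Q] (hK : (Nat.card Q : K) ≠ 0)
    (ρ : Q →* Module.End K V) (hρ : Function.Injective ρ)
    (hcl : ∀ a b : Q, a * b * a⁻¹ * b⁻¹ ∈ Subgroup.center Q)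
    (hcomm : ∀ T : Module.End K V, (∀ g, T * ρ g = ρ g * T) → ∃ a : K, T = a • 1) :
    finrank K V ^ 2 = Nat.card (Q ⧸ Subgroup.center Q) := by
  have hr : ∀ c : Q ⧸ Subgroup.center Q, ((Quotient.out c : Q) : Q ⧸ Subgroup.center Q) = c :=
    fun c => QuotientGroup.out_eq' c
  have h1 := Module.finrank_eq_nat_card_basis (repsBasis hK ρ hρ hcl hcomm Quotient.out hr)
  rw [← h1, sq]
  exact (Module.finrank_linearMap K K V V).symm

end Cfsg.Agent.PLocal.HHBTwisted
end

-- part: PLocal/HHBFinrankSq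
section
/-!
`(dim U)² = |Q : rad κ|` for an irreducible representation of a group of class at most two (modulo the kernel).
-/

set_option autoImplicit false

namespace Cfsg.Agent.PLocal.HHBFinrankSq

open Cfsg.Agent.PLocal.HHBLinear

theorem finrank_sq {K : Type*} [Field K] [IsAlgClosed K] {U : Type*} [AddCommGroup U] [Module K U]
    [FiniteDimensional K U] [Nontrivial U] {Q : Type*} [Group Q] [Fintype Q]
    (hcard : (Fintype.card Q : K) ≠ 0) {ρ : Q →* Module.End K U} {κ : Q → Q → K}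
    (hκ : CommScalar ρ κ) (hirr : IsIrr ρ) : Module.finrank K U ^ 2 = hκ.rad.index := by
  classical
  set N := ρ.ker with hN
  let ρ' : (Q ⧸ N) →* Module.End K U := QuotientGroup.lift N ρ (fun x hx => hx)
  have hρ' : ∀ g : Q, ρ' (QuotientGroup.mk' N g) = ρ g := fun g => rfl
  have hinj : Function.Injective ρ' := by
    rw [← MonoidHom.ker_eq_bot_iff, eq_bot_iff]
    intro x hx
    obtain ⟨g, rfl⟩ := QuotientGroup.mk'_surjective N x
    rw [MonoidHom.mem_ker, hρ'] at hx
    rw [Subgroup.mem_bot]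
    exact (QuotientGroup.eq_one_iff g).2 hx
  have hcomm : ∀ a b : Q, ρ (a * b * a⁻¹ * b⁻¹) = κ a b • 1 := by
    intro a b
    have h1 : a * b = (a * b * a⁻¹ * b⁻¹) * (b * a) := by group
    have h2 : ρ (a * b * a⁻¹ * b⁻¹) * ρ (b * a) = κ a b • (1 : Module.End K U) * ρ (b * a) := by
      rw [← map_mul, ← h1, map_mul, hκ.comm, smul_mul_assoc, one_mul, map_mul]
    have h3 : IsUnit (ρ (b * a)) := ((Group.isUnit (b * a)).map ρ)
    exact h3.mul_right_cancel h2
  have h := HHBTwisted.L4a (Q := Q ⧸ N) (K := K) (V := U) (by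
      intro h0
      apply hcard
      rw [← Nat.card_eq_fintype_card, Subgroup.card_eq_card_quotient_mul_card_subgroup N,
        Nat.cast_mul, h0, zero_mul]) ρ' hinj (by
      intro a b
      obtain ⟨a, rfl⟩ := QuotientGroup.mk'_surjective N a
      obtain ⟨b, rfl⟩ := QuotientGroup.mk'_surjective N b
      rw [Subgroup.mem_center_iff]
      intro c
      obtain ⟨c, rfl⟩ := QuotientGroup.mk'_surjective N c
      apply hinj
      rw [← map_mul, ← map_inv, ← map_inv, ← map_mul, ← map_mul, ← map_mul, ← map_mul, hρ', hρ',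
        map_mul ρ c, map_mul ρ _ c, hcomm]
      simp) (by
      intro T hT
      exact schur hirr T fun g => hT (QuotientGroup.mk' N g))
  rw [h]
  have hZ : (Subgroup.center (Q ⧸ N)).comap (QuotientGroup.mk' N) = hκ.rad := by
    ext u
    rw [Subgroup.mem_comap, Subgroup.mem_center_iff, hκ.mem_rad]
    constructor
    · intro h g
      have h1 := congrArg ρ' (h (QuotientGroup.mk' N g))
      rw [map_mul, map_mul, hρ', hρ', hκ.comm g u] at h1
      have h3 : IsUnit (ρ u * ρ g) := by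
        rw [← map_mul]; exact (Group.isUnit _).map ρ
      have h4 : κ g u • (ρ u * ρ g) = (1 : K) • (ρ u * ρ g) := by rw [h1, one_smul]
      exact smul_left_injective K (h3.ne_zero) h4
    · intro h g
      obtain ⟨g, rfl⟩ := QuotientGroup.mk'_surjective N g
      apply hinj
      rw [map_mul, map_mul, hρ', hρ', hκ.comm g u, h g, one_smul]
  rw [← hZ, Subgroup.index_comap_of_surjective _ (QuotientGroup.mk'_surjective N)]
  rfl

end Cfsg.Agent.PLocal.HHBFinrankSq
end

-- part: PLocal/HHBReduceCore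
section
/-!
# Hall–Higman Theorem B: reduction of the core statement to the faithful, minimal, irreducible case
-/

set_option autoImplicit false

open Module

namespace Cfsg.Agent.PLocal.HHBReduceCore

universe u v w

/-- The conclusion of the core statement. -/
def Concl (p q : ℕ) (Q : Type*) [Group Q] (n r : ℕ) : Prop :=
  p ^ n ≤ r ∨ ∃ n₀ m : ℕ, 1 ≤ n₀ ∧ n₀ ≤ n ∧ 1 ≤ m ∧ p ^ n₀ - 1 = q ^ m ∧
      (∃ a b : Q, a * b ≠ b * a) ∧ p ^ (n - n₀) * (p ^ n₀ - 1) ≤ r

theorem Concl_def (p q : ℕ) (Q : Type*) [Group Q] (n r : ℕ) : Concl p q Q n r ↔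
  (p ^ n ≤ r ∨ ∃ n₀ m : ℕ, 1 ≤ n₀ ∧ n₀ ≤ n ∧ 1 ≤ m ∧ p ^ n₀ - 1 = q ^ m ∧
      (∃ a b : Q, a * b ≠ b * a) ∧ p ^ (n - n₀) * (p ^ n₀ - 1) ≤ r) := Iff.rfl

theorem Concl.of_injective {p q : ℕ} {Q Q' : Type*} [Group Q] [Group Q'] (f : Q' →* Q)
    (hf : Function.Injective f) {n r : ℕ} (h : Concl p q Q' n r) : Concl p q Q n r := by
  rcases h with h | ⟨n₀, m, h1, h2, h3, h4, ⟨a, b, hab⟩, h5⟩
  · exact Or.inl h
  · refine Or.inr ⟨n₀, m, h1, h2, h3, h4, ⟨f a, f b, fun h => hab (hf ?_)⟩, h5⟩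
    rw [map_mul, map_mul, h]

theorem Concl.of_surjective {p q : ℕ} {Q Q' : Type*} [Group Q] [Group Q'] (f : Q →* Q')
    (hf : Function.Surjective f) {n r : ℕ} (h : Concl p q Q' n r) : Concl p q Q n r := by
  rcases h with h | ⟨n₀, m, h1, h2, h3, h4, ⟨a, b, hab⟩, h5⟩
  · exact Or.inl h
  · obtain ⟨a, rfl⟩ := hf a
    obtain ⟨b, rfl⟩ := hf b
    refine Or.inr ⟨n₀, m, h1, h2, h3, h4, ⟨a, b, fun h => hab ?_⟩, h5⟩
    rw [← map_mul, ← map_mul, h]

/-- The core statement for vector spaces of dimension `d` and groups of order `m`. -/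
def CoreFor (K : Type w) [Field K] (p q d m : ℕ) : Prop :=
  ∀ (V : Type v) [AddCommGroup V] [Module K V] [FiniteDimensional K V] (_ : finrank K V = d)
    (Q : Type u) [Group Q] [Finite Q] (_ : IsPGroup q Q) (_ : Nat.card Q = m)
    (ρ : Q →* Module.End K V) (σ : MulAut Q) (X : Module.End K V)
    (_ : ∀ g, X * ρ g = ρ (σ g) * X) (n : ℕ) (_ : 1 ≤ n) (_ : X ^ (p ^ n) = 1)
    (_ : σ ^ (p ^ n) = 1) (_ : ∃ g, ρ ((σ ^ (p ^ (n - 1))) g) ≠ ρ g)
    (r : ℕ) (_ : (X - 1) ^ r = 0), Concl p q Q n r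

/-- powers of the automorphism induced on an invariant subgroup -/
theorem exists_restrict {Q : Type*} [Group Q] [Finite Q] (σ : MulAut Q) (L : Subgroup Q)
    (hL : ∀ g ∈ L, σ g ∈ L) : ∃ τ : MulAut L, ∀ (k : ℕ) (g : L), (((τ ^ k) g : L) : Q) = (σ ^ k) g := by
  have hmap : L.map (σ : Q ≃* Q).toMonoidHom = L := by
    apply SetLike.coe_injective
    apply Set.eq_of_subset_of_ncard_le ?_ ?_ (Set.toFinite _)
    · rintro _ ⟨g, hg, rfl⟩
      exact hL g hg
    · rw [Subgroup.coe_map]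
      exact (Set.ncard_image_of_injective _ σ.injective).ge
  let τ : MulAut L := (MulEquiv.subgroupMap (σ : Q ≃* Q) L).trans (MulEquiv.subgroupCongr hmap)
  have hτ : ∀ g : L, ((τ g : L) : Q) = σ g := fun g => rfl
  refine ⟨τ, fun k => ?_⟩
  induction k with
  | zero => intro g; rfl
  | succ k ih =>
    intro g
    rw [pow_succ, pow_succ]
    change (((τ ^ k) (τ g) : L) : Q) = (σ ^ k) (σ g)
    rw [ih, hτ]

/-- powers of the automorphism induced on the quotient by an invariant normal subgroup -/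
theorem exists_quotient {Q : Type*} [Group Q] [Finite Q] (σ : MulAut Q) (N : Subgroup Q) [N.Normal]
    (hN : ∀ g ∈ N, σ g ∈ N) : ∃ τ : MulAut (Q ⧸ N), ∀ (k : ℕ) (g : Q),
      (τ ^ k) (QuotientGroup.mk' N g) = QuotientGroup.mk' N ((σ ^ k) g) := by
  have hmap : N.map (σ : Q ≃* Q).toMonoidHom = N := by
    apply SetLike.coe_injective
    apply Set.eq_of_subset_of_ncard_le ?_ ?_ (Set.toFinite _)
    · rintro _ ⟨g, hg, rfl⟩
      exact hN g hg
    · rw [Subgroup.coe_map]
      exact (Set.ncard_image_of_injective _ σ.injective).ge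
  let τ : MulAut (Q ⧸ N) := QuotientGroup.congr N N (σ : Q ≃* Q) hmap
  have hτ : ∀ g : Q, τ (QuotientGroup.mk' N g) = QuotientGroup.mk' N (σ g) := fun g => rfl
  refine ⟨τ, fun k => ?_⟩
  induction k with
  | zero => intro g; rfl
  | succ k ih =>
    intro g
    rw [pow_succ, pow_succ]
    change (τ ^ k) (τ (QuotientGroup.mk' N g)) = QuotientGroup.mk' N ((σ ^ k) (σ g))
    rw [hτ, ih]

/-- An element of a `q`-group acting as a unipotent endomorphism in characteristic `p ≠ q` acts trivially. -/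
theorem eq_one_of_unipotent {K V Q : Type*} [Field K] {p q : ℕ} [hp : Fact p.Prime] [CharP K p]
    [hq : Fact q.Prime] (hpq : q ≠ p) [AddCommGroup V] [Module K V] [Group Q] (hQ : IsPGroup q Q)
    (ρ : Q →* Module.End K V) (c : Q) (h : (ρ c - 1) ^ 2 = 0) : ρ c = 1 := by
  have h1 : (ρ c - 1) ^ p = 0 := by
    have : 2 ≤ p := hp.out.two_le
    obtain ⟨k, rfl⟩ := Nat.exists_eq_add_of_le this
    rw [pow_add, h, zero_mul]
  have h2 : (ρ c) ^ p = 1 := by
    have : CharP (Module.End K V) p ∨ Subsingleton (Module.End K V) := by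
      rcases subsingleton_or_nontrivial V with hV | hV
      · right
        exact ⟨fun f g => LinearMap.ext fun x => Subsingleton.elim _ _⟩
      · left
        exact charP_of_injective_algebraMap (algebraMap K (Module.End K V)).injective p
    rcases this with h3 | h3
    · have h4 : (ρ c - 1) ^ p = ρ c ^ p - 1 ^ p := sub_pow_char_of_commute _ (Commute.one_right _)
      rw [h1, one_pow] at h4
      exact (sub_eq_zero.1 h4.symm)
    · exact Subsingleton.elim _ _
  obtain ⟨k, hk⟩ := hQ c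
  have h3 : (ρ c) ^ (q ^ k) = 1 := by rw [← map_pow, hk, map_one]
  have h4 : Nat.Coprime (q ^ k) p :=
    Nat.Coprime.pow_left k ((Nat.coprime_primes hq.out hp.out).2 hpq)
  have h5 : orderOf (ρ c) ∣ 1 := by
    have := Nat.dvd_gcd (orderOf_dvd_of_pow_eq_one h3) (orderOf_dvd_of_pow_eq_one h2)
    rwa [Nat.Coprime.gcd_eq_one h4] at this
  exact orderOf_eq_one_iff.1 (Nat.dvd_one.1 h5)

theorem restrict_pow_apply {K V : Type*} [Field K] [AddCommGroup V] [Module K V] (U : Submodule K V)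
    (A : Module.End K V) (B : Module.End K U) (h : ∀ u : U, ((B u : U) : V) = A u) (k : ℕ) :
    ∀ u : U, (((B ^ k) u : U) : V) = (A ^ k) u := by
  induction k with
  | zero => intro u; rfl
  | succ k ih =>
    intro u
    rw [pow_succ, pow_succ]
    change (((B ^ k) (B u) : U) : V) = (A ^ k) (A u)
    rw [ih, h]

theorem quot_pow_apply {K V : Type*} [Field K] [AddCommGroup V] [Module K V] (U : Submodule K V)
    (A : Module.End K V) (B : Module.End K (V ⧸ U)) (h : ∀ v : V, B (U.mkQ v) = U.mkQ (A v)) (k : ℕ) :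
    ∀ v : V, (B ^ k) (U.mkQ v) = U.mkQ ((A ^ k) v) := by
  induction k with
  | zero => intro v; rfl
  | succ k ih =>
    intro v
    rw [pow_succ, pow_succ]
    change (B ^ k) (B (U.mkQ v)) = U.mkQ ((A ^ k) (A v))
    rw [h, ih]

/-- Reduction of the core statement. -/
theorem reduce_core {K : Type w} [Field K] {p q : ℕ} [Fact p.Prime] [CharP K p]
    [Fact q.Prime] (hpq : q ≠ p)
    (main : ∀ d : ℕ, (∀ d' < d, ∀ m', CoreFor.{u, v, w} K p q d' m') →
      ∀ (V : Type v) [AddCommGroup V] [Module K V] [FiniteDimensional K V] (_ : finrank K V = d)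
        (Q : Type u) [Group Q] [Finite Q] (_ : IsPGroup q Q)
        (ρ : Q →* Module.End K V) (σ : MulAut Q) (X : Module.End K V)
        (_ : ∀ g, X * ρ g = ρ (σ g) * X) (n : ℕ) (_ : 1 ≤ n) (_ : X ^ (p ^ n) = 1)
        (_ : σ ^ (p ^ n) = 1) (_ : ∃ g, ρ ((σ ^ (p ^ (n - 1))) g) ≠ ρ g)
        (r : ℕ) (_ : (X - 1) ^ r = 0)
        (_ : Function.Injective ρ)
        (_ : ∀ L : Subgroup Q, L ≠ ⊤ → (∀ g ∈ L, σ g ∈ L) →
          ∀ g ∈ L, (σ ^ (p ^ (n - 1))) g = g)
        (_ : ∀ U : Submodule K V, U ≠ ⊥ → U ≠ ⊤ → (∀ g, U ≤ U.comap (ρ g)) → ¬ U ≤ U.comap X),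
        Concl p q Q n r) :
    ∀ d m : ℕ, CoreFor.{u, v, w} K p q d m := by
  intro d
  induction d using Nat.strong_induction_on with
  | _ d ihd =>
  intro m
  induction m using Nat.strong_induction_on with
  | _ m ihm =>
  intro V _ _ _ hd Q _ _ hQ hm ρ σ X hXρ n hn hXn hσn hy r hr
  have hpos : 0 < p ^ n := pow_pos (Fact.out : p.Prime).pos n
  have hXu : IsUnit X := IsUnit.of_pow_eq_one hXn hpos.ne'
  -- (a) `ρ` is injective
  by_cases hinj : Function.Injective ρ
  swap
  · have hker : ∀ g ∈ ρ.ker, σ g ∈ ρ.ker := by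
      intro g hg
      rw [MonoidHom.mem_ker] at hg ⊢
      have h1 := hXρ g
      rw [hg, mul_one] at h1
      exact hXu.mul_right_cancel (by rw [one_mul]; exact h1.symm)
    obtain ⟨τ, hτ⟩ := exists_quotient σ ρ.ker hker
    have hcard : Nat.card (Q ⧸ ρ.ker) < m := by
      rw [← hm]
      have hne : ρ.ker ≠ ⊥ := fun h => hinj ((MonoidHom.ker_eq_bot_iff ρ).1 h)
      have h1 : 1 < Nat.card ρ.ker := (Subgroup.one_lt_card_iff_ne_bot _).2 hne
      have h2 := Subgroup.card_eq_card_quotient_mul_card_subgroup ρ.ker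
      have h3 : 0 < Nat.card (Q ⧸ ρ.ker) := Nat.card_pos
      rw [h2]
      exact lt_mul_of_one_lt_right h3 h1
    have hlift : ∀ g : Q, QuotientGroup.lift ρ.ker ρ (fun x hx => hx) (QuotientGroup.mk' ρ.ker g)
        = ρ g := fun g => rfl
    refine Concl.of_surjective (QuotientGroup.mk' ρ.ker) (QuotientGroup.mk'_surjective _)
      (ihm _ hcard V hd (Q ⧸ ρ.ker) (hQ.to_quotient _) rfl
        (QuotientGroup.lift ρ.ker ρ (fun x hx => hx)) τ X ?_ n hn hXn ?_ ?_ r hr)
    · intro g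
      obtain ⟨g, rfl⟩ := QuotientGroup.mk'_surjective _ g
      have h1 := hτ 1 g
      rw [pow_one, pow_one] at h1
      rw [h1, hlift, hlift]
      exact hXρ g
    · ext g
      obtain ⟨g, rfl⟩ := QuotientGroup.mk'_surjective _ g
      rw [hτ, hσn]
      rfl
    · obtain ⟨g, hg⟩ := hy
      refine ⟨QuotientGroup.mk' ρ.ker g, ?_⟩
      rw [hτ, hlift, hlift]
      exact hg
  -- (b) proper invariant subgroups
  by_cases hmin : ∀ L : Subgroup Q, L ≠ ⊤ → (∀ g ∈ L, σ g ∈ L) →
          ∀ g ∈ L, (σ ^ (p ^ (n - 1))) g = g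
  swap
  · push Not at hmin
    obtain ⟨L, hLtop, hLσ, g, hg, hgne⟩ := hmin
    obtain ⟨τ, hτ⟩ := exists_restrict σ L hLσ
    have hcard : Nat.card L < m := by
      rw [← hm]
      exact lt_of_le_of_ne (Subgroup.card_le_card_group L) fun h => hLtop (Subgroup.eq_top_of_card_eq L h)
    refine Concl.of_injective L.subtype L.subtype_injective
      (ihm _ hcard V hd L (hQ.to_subgroup _) rfl (ρ.comp L.subtype) τ X ?_ n hn hXn ?_ ?_ r hr)
    · intro g
      have h1 := hτ 1 g
      rw [pow_one, pow_one] at h1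
      change X * ρ (g : Q) = ρ ((τ g : L) : Q) * X
      rw [h1]
      exact hXρ g
    · ext g
      rw [hτ, hσn]
      rfl
    · refine ⟨⟨g, hg⟩, fun h => hgne (hinj ?_)⟩
      change ρ (((τ ^ (p ^ (n - 1))) ⟨g, hg⟩ : L) : Q) = ρ g at h
      rwa [hτ] at h
  -- (c) invariant submodules
  by_cases hirr : ∀ U : Submodule K V, U ≠ ⊥ → U ≠ ⊤ → (∀ g, U ≤ U.comap (ρ g)) → ¬ U ≤ U.comap X
  · exact main d (fun d' hd' m' => ihd d' hd' m') V hd Q hQ ρ σ X hXρ n hn hXn hσn hy r hr
      hinj hmin hirr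
  push Not at hirr
  obtain ⟨U, hUbot, hUtop, hUρ, hUX⟩ := hirr
  have hltU : finrank K U < d := by
    rw [← hd]
    exact Submodule.finrank_lt hUtop
  have hltQ : finrank K (V ⧸ U) < d := by
    rw [← hd]
    have h1 := U.finrank_quotient_add_finrank
    have h2 : 0 < finrank K U := by
      rw [Module.finrank_pos_iff]
      exact Submodule.nontrivial_iff_ne_bot.2 hUbot
    omega
  -- restriction to `U`
  let ρU : Q →* Module.End K U :=
    { toFun := fun g => (ρ g).restrict (hUρ g)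
      map_one' := by
        ext x
        simp
      map_mul' := by
        intro g h
        ext x
        simp }
  have hρU : ∀ (g : Q) (u : U), ((ρU g u : U) : V) = ρ g u := fun g u => rfl
  let XU : Module.End K U := X.restrict hUX
  have hXU : ∀ u : U, ((XU u : U) : V) = X u := fun u => rfl
  -- the quotient
  let ρW : Q →* Module.End K (V ⧸ U) :=
    { toFun := fun g => U.mapQ U (ρ g) (hUρ g)
      map_one' := by
        ext x
        simp
      map_mul' := by
        intro g h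
        ext x
        simp }
  have hρW : ∀ (g : Q) (v : V), ρW g (U.mkQ v) = U.mkQ (ρ g v) := fun g v => rfl
  let XW : Module.End K (V ⧸ U) := U.mapQ U X hUX
  have hXW : ∀ v : V, XW (U.mkQ v) = U.mkQ (X v) := fun v => rfl
  obtain ⟨g, hg⟩ := hy
  by_cases h1 : ρU ((σ ^ (p ^ (n - 1))) g) = ρU g
  swap
  · refine ihd _ hltU (Nat.card Q) U rfl Q hQ rfl ρU σ XU ?_ n hn ?_ hσn ⟨g, h1⟩ r ?_
    · intro g
      ext u
      have := LinearMap.congr_fun (hXρ g) (u : V)
      exact this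
    · ext u
      rw [restrict_pow_apply U X XU hXU, hXn]
      rfl
    · ext u
      rw [restrict_pow_apply U (X - 1) (XU - 1) (fun u => rfl), hr]
      rfl
  by_cases h2 : ρW ((σ ^ (p ^ (n - 1))) g) = ρW g
  swap
  · refine ihd _ hltQ (Nat.card Q) (V ⧸ U) rfl Q hQ rfl ρW σ XW ?_ n hn ?_ hσn ⟨g, h2⟩ r ?_
    · intro g
      refine LinearMap.ext fun v => ?_
      obtain ⟨v, rfl⟩ := U.mkQ_surjective v
      have := congrArg U.mkQ (LinearMap.congr_fun (hXρ g) v)
      exact this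
    · refine LinearMap.ext fun v => ?_
      obtain ⟨v, rfl⟩ := U.mkQ_surjective v
      rw [quot_pow_apply U X XW hXW, hXn]
      rfl
    · refine LinearMap.ext fun v => ?_
      obtain ⟨v, rfl⟩ := U.mkQ_surjective v
      rw [quot_pow_apply U (X - 1) (XW - 1) (fun v => rfl), hr]
      rfl
  exfalso
  set c : Q := g⁻¹ * (σ ^ (p ^ (n - 1))) g with hc
  have hcU : ρU c = 1 := by
    rw [hc, map_mul, h1, ← map_mul, inv_mul_cancel, map_one]
  have hcW : ρW c = 1 := by
    rw [hc, map_mul, h2, ← map_mul, inv_mul_cancel, map_one]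
  have hsq : (ρ c - 1) ^ 2 = 0 := by
    ext v
    have h3 : (ρ c - 1) v ∈ U := by
      rw [← Submodule.ker_mkQ U, LinearMap.mem_ker]
      change U.mkQ (ρ c v - v) = 0
      rw [map_sub, ← hρW, hcW]
      exact sub_self _
    have h4 := LinearMap.congr_fun hcU ⟨_, h3⟩
    have h5 := congrArg Subtype.val h4
    change ρ c ((ρ c - 1) v) = (ρ c - 1) v at h5
    rw [pow_two]
    change ρ c ((ρ c - 1) v) - (ρ c - 1) v = 0
    rw [h5, sub_self]
  have h6 := eq_one_of_unipotent hpq hQ ρ c hsq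
  apply hg
  have h7 : (σ ^ (p ^ (n - 1))) g = g * c := by rw [hc, mul_inv_cancel_left]
  rw [h7, map_mul, h6, mul_one]

end Cfsg.Agent.PLocal.HHBReduceCore
end

-- part: PLocal/HHBCore
section
/-!
# Hall–Higman Theorem B: the core statement over an algebraically closed field
-/

set_option autoImplicit false

open Module

namespace Cfsg.Agent.PLocal.HHBCore

open scoped commutatorElement

theorem core {K : Type*} [Field K] [IsAlgClosed K] {p q : ℕ} [Fact p.Prime] [CharP K p] [Fact q.Prime]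
    (hpq : q ≠ p) {V : Type*} [AddCommGroup V] [Module K V] [FiniteDimensional K V]
    {Q : Type*} [Group Q] [Finite Q] (hQ : IsPGroup q Q)
    (ρ : Q →* Module.End K V) (hρ : Function.Injective ρ) (σ : MulAut Q) (X : Module.End K V)
    (hXρ : ∀ g, X * ρ g = ρ (σ g) * X) (n : ℕ) (hn : 1 ≤ n) (hXn : X ^ (p ^ n) = 1)
    (hσn : σ ^ (p ^ n) = 1) (hy : ∃ g, (σ ^ (p ^ (n - 1))) g ≠ g)
    (r : ℕ) (hr : (X - 1) ^ r = 0) :
    p ^ n ≤ r ∨ ∃ n₀ m : ℕ, 1 ≤ n₀ ∧ n₀ ≤ n ∧ 1 ≤ m ∧ p ^ n₀ - 1 = q ^ m ∧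
      (∃ a b : Q, a * b ≠ b * a) ∧ p ^ (n - n₀) * (p ^ n₀ - 1) ≤ r := by
  classical
  obtain ⟨L, hLbot, hLσ, hcl, hgen⟩ := HHBMinimal.exists_minimal hpq hQ σ n hn hσn hy
  have hLmem : ∀ g ∈ L, σ g ∈ L := by
    intro g hg
    have : σ g ∈ L.map σ.toMonoidHom := ⟨g, hg, rfl⟩
    rwa [hLσ] at this
  obtain ⟨τ, hτ⟩ := HHBReduceCore.exists_restrict σ L hLmem
  have hLQ : IsPGroup q L := hQ.to_subgroup L
  have hpp : p ^ n ≠ 0 := (pow_pos (Fact.out : p.Prime).pos n).ne'
  obtain ⟨Xu, hXu⟩ : ∃ Xu : (Module.End K V)ˣ, (Xu : Module.End K V) = X :=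
    IsUnit.of_pow_eq_one hXn hpp
  have hXL : ∀ h : L, X * (ρ.comp L.subtype) h = (ρ.comp L.subtype) (τ h) * X := by
    intro h
    have h1 := hτ 1 h
    rw [pow_one, pow_one] at h1
    change X * ρ (h : Q) = ρ ((τ h : L) : Q) * X
    rw [h1]
    exact hXρ h
  have hτn : τ ^ (p ^ n) = 1 := by
    ext g
    rw [hτ, hσn]
    rfl
  obtain ⟨a, ha⟩ := IsPGroup.iff_card.1 hLQ
  have hcard : (Nat.card L : K) ≠ 0 := by
    rw [ha]
    intro h0
    rw [CharP.cast_eq_zero_iff K p] at h0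
    exact hpq ((Nat.prime_dvd_prime_iff_eq (Fact.out : p.Prime) (Fact.out : q.Prime)).1
      ((Fact.out : p.Prime).dvd_of_dvd_pow h0)).symm
  obtain ⟨s, hs, U, hU, hUρ, hirr, hne, hUX, hind⟩ := HHBClifford.clifford (p := p) hcard
    (ρ.comp L.subtype) Xu τ (by rw [hXu]; exact hXL) n (by
      apply Units.ext
      rw [Units.val_pow_eq_pow_val, hXu, hXn, Units.val_one]) (by
      obtain ⟨g, hg⟩ := Subgroup.ne_bot_iff_exists_ne_one.1 hLbot
      exact ⟨g, fun h => hg (Subtype.ext (hρ (by rw [OneMemClass.coe_one, map_one]; exact h)))⟩)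
  rw [hXu] at hUX hind
  let _ : Fintype L := Fintype.ofFinite L
  have key := HHBCoreAux.core_aux hpq hLQ (fun U _ _ _ _ ρ κ hκ hirr =>
      HHBFinrankSq.finrank_sq (by rwa [← Nat.card_eq_fintype_card]) hκ hirr)
    (ρ.comp L.subtype) τ X hXL n hXn hτn (by
      intro a b c
      apply Subtype.ext
      exact hcl a a.2 b b.2 c c.2) (by
      apply Subgroup.map_injective L.subtype_injective
      rw [MonoidHom.map_closure, ← MonoidHom.range_eq_map, Subgroup.range_subtype]
      refine Eq.trans ?_ hgen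
      congr 1
      ext z
      constructor
      · rintro ⟨_, ⟨h, rfl⟩, rfl⟩
        refine ⟨h, h.2, ?_⟩
        rw [← hτ]
        rfl
      · rintro ⟨u, hu, rfl⟩
        refine ⟨_, ⟨⟨u, hu⟩, rfl⟩, ?_⟩
        change (((τ ^ (p ^ (n - 1))) ⟨u, hu⟩ : L) : Q) * u⁻¹ = _
        rw [hτ]) s hs U hU hUρ hirr hne hUX hind r hr
  rcases key with h | ⟨n₀, m, h1, h2, h3, h4, ⟨a, b, hab⟩, h5⟩
  · exact Or.inl h
  · exact Or.inr ⟨n₀, m, h1, h2, h3, h4, ⟨a, b, fun h => hab (Subtype.ext h)⟩, h5⟩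

end Cfsg.Agent.PLocal.HHBCore
end
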