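import Mathlib
import Cfsg.Agent.PLocal.Uniserial
set_option linter.all false

/-!
A nilpotent group whose abelianization is cyclic is abelian (relative to a normal subgroup `N`).
-/

set_option autoImplicit false

namespace Cfsg.Agent.PLocal.CyclicAbelianization

open Subgroup
open scoped commutatorElement

/-- If `G` is nilpotent and `G / N G'` is cyclic then `G / N` is abelian. -/
theorem commutator_le_of_isCyclic_quotient {G : Type*} [Group G] (hG : Group.IsNilpotent G)
    (N E : Subgroup G) [N.Normal] [E.Normal] (hE : E = N ⊔ _root_.commutator G)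
    (hcyc : IsCyclic (G ⧸ E)) :
    _root_.commutator G ≤ N := by
  subst hE
  set D := _root_.commutator G with hD
  set M : Subgroup G := ⁅D, (⊤ : Subgroup G)⁆ ⊔ N with hM
  have hMle : M ≤ N ⊔ D := sup_le ((commutator_le_left D ⊤).trans le_sup_right) le_sup_left
  -- the abelianity of G / M
  let f : G ⧸ M →* G ⧸ (N ⊔ D) := QuotientGroup.map M (N ⊔ D) (MonoidHom.id G) (by
    rw [Subgroup.comap_id]; exact hMle)
  have hker : f.ker ≤ Subgroup.center (G ⧸ M) := by
    intro q hq
    obtain ⟨x, rfl⟩ := QuotientGroup.mk'_surjective M q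
    rw [MonoidHom.mem_ker] at hq
    have hx : x ∈ N ⊔ D := by
      have : (QuotientGroup.mk x : G ⧸ (N ⊔ D)) = 1 := hq
      rwa [QuotientGroup.eq_one_iff] at this
    rw [Subgroup.mem_center_iff]
    intro r
    obtain ⟨y, rfl⟩ := QuotientGroup.mk'_surjective M r
    rw [← SetLike.mem_coe, Subgroup.mul_normal] at hx
    obtain ⟨a, ha, b, hb, rfl⟩ := Set.mem_mul.mp hx
    have ha' : a ∈ N := ha
    have hb' : b ∈ D := hb
    have h1 : ⁅a * b, y⁆ ∈ M := by
      have h2 : ⁅a * b, y⁆ = a * ⁅b, y⁆ * a⁻¹ * ⁅a, y⁆ := by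
        simp only [commutatorElement_def]; group
      rw [h2]
      have h3 : ⁅b, y⁆ ∈ ⁅D, (⊤ : Subgroup G)⁆ := commutator_mem_commutator hb' (mem_top y)
      have hn : (⁅D, (⊤ : Subgroup G)⁆).Normal := inferInstance
      have h4 : ⁅a, y⁆ ∈ N := by
        have : ⁅a, y⁆ ∈ ⁅N, (⊤ : Subgroup G)⁆ := commutator_mem_commutator ha' (mem_top y)
        exact commutator_le_left N ⊤ this
      exact mul_mem (mem_sup_left (hn.conj_mem _ h3 a)) (mem_sup_right h4)
    have h5 : (QuotientGroup.mk' M) ⁅a * b, y⁆ = 1 := by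
      rw [← MonoidHom.mem_ker, QuotientGroup.ker_mk']; exact h1
    rw [map_commutatorElement] at h5
    exact (commutatorElement_eq_one_iff_mul_comm.mp h5).symm
  have hcomm := MonoidHom.isMulCommutative_of_isCyclic_of_ker_le_center f hker
  have hDM : D ≤ M := by
    have := (Subgroup.Normal.quotient_commutative_iff_commutator_le (N := M)).mp hcomm
    exact this
  refine Uniserial.le_of_le_commutator_sup ⊤ ⊤ D N ?_ le_rfl le_top le_top ?_ hDM
  · exact Group.isNilpotent_top.mpr hG
  · rw [normalizer_eq_top_iff.mpr inferInstance]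

/-- A nilpotent group with cyclic abelianization is abelian. -/
theorem commutator_eq_bot_of_isCyclic_quotient {G : Type*} [Group G] (hG : Group.IsNilpotent G)
    (hcyc : IsCyclic (G ⧸ (_root_.commutator G))) :
    _root_.commutator G = ⊥ := by
  rw [eq_bot_iff]
  exact commutator_le_of_isCyclic_quotient hG ⊥ (_root_.commutator G) (bot_sup_eq _).symm hcyc

end Cfsg.Agent.PLocal.CyclicAbelianization
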