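import Mathlib
import Cfsg.Prelude.Def_Local
import Cfsg.Agent.Lib.Cores
set_option linter.all false

set_option autoImplicit false

/-!
Passing `p`-stability of Cfsg.IsPStable to and from a quotient by a normal `p'`-subgroup.
-/

namespace Cfsg.Agent.PLocal.PStableQuot

open Cfsg Cfsg.Agent.Lib.Cores Subgroup

/-- membership in `O_p` of a quotient through a surjection with the same kernel -/
theorem mk_mem_pCore_iff {X Y : Type*} [Group X] [Group Y] (p : ℕ) (φ : X →* Y)
    (hφ : Function.Surjective φ) (Z : Subgroup X) [Z.Normal] (hZ : φ.ker = Z) (x : X) :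
    QuotientGroup.mk' Z x ∈ pCore p (X ⧸ Z) ↔ φ x ∈ pCore p Y := by
  subst hZ
  let e : X ⧸ φ.ker ≃* Y := QuotientGroup.quotientKerEquivOfSurjective φ hφ
  have he : ∀ x : X, e (QuotientGroup.mk' φ.ker x) = φ x := fun x => rfl
  rw [← map_equiv_pCore e p, ← he x]
  constructor
  · intro h
    exact ⟨_, h, rfl⟩
  · rintro ⟨y, hy, hyx⟩
    have : y = QuotientGroup.mk' φ.ker x := e.injective hyx
    rwa [← this]

/-- a `p`-subgroup of the image of `X` is the image of a `p`-subgroup of `X` -/
theorem exists_pSubgroup_map_eq {G H : Type*} [Group G] [Group H] [Finite G] {p : ℕ}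
    [Fact p.Prime] (f : G →* H) (X : Subgroup G) (S : Subgroup H) (hXS : X.map f = S)
    (hS : IsPGroup p S) : ∃ P : Subgroup G, P ≤ X ∧ IsPGroup p P ∧ P.map f = S := by
  subst hXS
  let g : X →* X.map f := f.subgroupMap X
  have hg : Function.Surjective g := f.subgroupMap_surjective X
  obtain ⟨P⟩ : Nonempty (Sylow p X) := inferInstance
  have : Finite (X.map f) := Finite.of_surjective g hg
  have hP2 : (P : Subgroup X).map g = ⊤ := by
    have h1 := (P.mapSurjective hg)
    have h2 : ((P.mapSurjective hg : Sylow p (X.map f)) : Subgroup (X.map f)) =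
        (P : Subgroup X).map g := rfl
    rw [← h2]
    have h3 : IsPGroup p (⊤ : Subgroup (X.map f)) := hS.to_subgroup ⊤
    exact ((P.mapSurjective hg).is_maximal' h3 le_top).symm
  refine ⟨(P : Subgroup X).map X.subtype, map_subtype_le _, P.isPGroup'.map _, ?_⟩
  apply le_antisymm
  · exact map_mono (map_subtype_le _)
  · rintro _ ⟨x, hx, rfl⟩
    have : g ⟨x, hx⟩ ∈ (P : Subgroup X).map g := by rw [hP2]; trivial
    obtain ⟨y, hy, hyx⟩ := this
    refine ⟨y, ⟨y, hy, rfl⟩, ?_⟩
    exact congrArg Subtype.val hyx

/-- Frattini: the normalizer of a `p`-subgroup maps onto the normalizer of the image modulo a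
normal `p'`-subgroup. -/
theorem map_normalizer {G H : Type*} [Group G] [Group H] [Finite G] {p : ℕ}
    [hp : Fact p.Prime] (f : G →* H) (hf : Function.Surjective f)
    (hk : (Nat.card f.ker).Coprime p) (P : Subgroup G) (hP : IsPGroup p P) :
    (normalizer (P : Set G)).map f = normalizer ((P.map f : Subgroup H) : Set H) := by
  apply le_antisymm
  · exact le_normalizer_map f
  · intro h hh
    obtain ⟨g, rfl⟩ := hf h
    -- X = preimage of the image
    set X : Subgroup G := P ⊔ f.ker with hX
    have hXc : X = (P.map f).comap f := (comap_map_eq f P).symm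
    have hPX : P ≤ X := le_sup_left
    have hgP : P.map (MulAut.conj g).toMonoidHom ≤ X := by
      rw [hXc, ← map_le_iff_le_comap]
      rintro _ ⟨_, ⟨x, hx, rfl⟩, rfl⟩
      have : f x ∈ P.map f := ⟨x, hx, rfl⟩
      have h2 := (mem_normalizer_iff.1 hh (f x)).1 this
      simpa [MulAut.conj_apply] using h2
    have hidx : ¬ p ∣ (P.subgroupOf X).index := by
      intro hd
      have h1 : (P.subgroupOf X).index = P.relIndex X := rfl
      have h2 : P.relIndex X ∣ Nat.card f.ker := by
        have h3 : (P ⊔ f.ker : Subgroup G) = f.ker ⊔ P := sup_comm _ _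
        have hcard : Nat.card X ∣ Nat.card f.ker * Nat.card P := by
          rw [hX, h3]; exact card_sup_dvd _ _ inferInstance
        have h4 : Nat.card P * P.relIndex X = Nat.card X := by
          rw [← relIndex_bot_left, relIndex_mul_relIndex ⊥ P X bot_le hPX, relIndex_bot_left]
        rw [← h4, mul_comm] at hcard
        exact Nat.dvd_of_mul_dvd_mul_right Nat.card_pos hcard
      rw [h1] at hd
      exact (Nat.Prime.coprime_iff_not_dvd hp.out).1 hk.symm (hd.trans h2)
    have hP1 : IsPGroup p (P.subgroupOf X) := hP.comap_subtype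
    let S1 : Sylow p X := hP1.toSylow hidx
    have hS1 : (S1 : Subgroup X) = P.subgroupOf X := rfl
    obtain ⟨u, hu⟩ := IsPGroup.exists_le_sylow
      (P := (P.map (MulAut.conj g).toMonoidHom).subgroupOf X) ((hP.map _).comap_subtype)
    obtain ⟨v, hv⟩ := MulAction.exists_smul_eq X u S1
    have hle : ((P.map (MulAut.conj g).toMonoidHom).subgroupOf X).map
        (MulAut.conj v).toMonoidHom ≤ P.subgroupOf X := by
      rw [← hS1, ← hv]
      rw [Sylow.coe_subgroup_smul]
      exact map_mono hu
    have hmem : (v : G) * g ∈ normalizer (P : Set G) := by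
      have hsub : ∀ x ∈ P, (v : G) * g * x * ((v : G) * g)⁻¹ ∈ P := by
        intro x hx
        have h5 : g * x * g⁻¹ ∈ X := hgP ⟨x, hx, by simp⟩
        have h6 : (⟨g * x * g⁻¹, h5⟩ : X) ∈ (P.map (MulAut.conj g).toMonoidHom).subgroupOf X := by
          rw [mem_subgroupOf]; exact ⟨x, hx, by simp⟩
        have h7 := hle ⟨_, h6, rfl⟩
        rw [mem_subgroupOf] at h7
        simpa [MulAut.conj_apply, mul_assoc] using h7
      have hfin : Finite P := inferInstance
      rw [mem_normalizer_iff]
      intro x
      refine ⟨hsub x, fun hx => ?_⟩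
      -- conjugation is an injective self map of a finite set
      let c : P → P := fun y => ⟨_, hsub y y.2⟩
      have hc : Function.Injective c := by
        intro a b hab
        have := congrArg Subtype.val hab
        simp only [c] at this
        exact Subtype.ext (by simpa using this)
      obtain ⟨y, hy⟩ := (Finite.injective_iff_surjective.1 hc) ⟨_, hx⟩
      have h8 := congrArg Subtype.val hy
      simp only [c] at h8
      have : (y : G) = x := by simpa using h8
      rw [← this]; exact y.2
    have hfv : f (v : G) ∈ P.map f := by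
      exact hXc.le v.2
    have h9 : f (v : G) ∈ (normalizer (P : Set G)).map f :=
      map_mono le_normalizer hfv
    have h10 : f ((v : G) * g) ∈ (normalizer (P : Set G)).map f := ⟨_, hmem, rfl⟩
    have : f g = (f (v : G))⁻¹ * f ((v : G) * g) := by simp
    rw [this]
    exact mul_mem (inv_mem h9) h10

/-- the hypothesis on the acting element in p-stability is compatible with quotients by
normal `p'`-subgroups -/
theorem mk_mem_pCore_normalizer_iff {G H : Type*} [Group G] [Group H] [Finite G] {p : ℕ}
    [hp : Fact p.Prime] (f : G →* H) (hf : Function.Surjective f)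
    (hk : (Nat.card f.ker).Coprime p) (P : Subgroup G) (hP : IsPGroup p P)
    (a : G) (ha : a ∈ normalizer (P : Set G))
    (hfa : f a ∈ normalizer ((P.map f : Subgroup H) : Set H)) :
    QuotientGroup.mk' ((centralizer (P : Set G)).subgroupOf (normalizer (P : Set G))) ⟨a, ha⟩
        ∈ pCore p _ ↔
      QuotientGroup.mk' ((centralizer ((P.map f : Subgroup H) : Set H)).subgroupOf
        (normalizer ((P.map f : Subgroup H) : Set H))) ⟨f a, hfa⟩ ∈ pCore p _ := by
  have hmap := map_normalizer f hf hk P hP
  have hle : ∀ x : normalizer (P : Set G), f x ∈ normalizer ((P.map f : Subgroup H) : Set H) := by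
    intro x
    rw [← hmap]
    exact ⟨x, x.2, rfl⟩
  let g : normalizer (P : Set G) →* normalizer ((P.map f : Subgroup H) : Set H) :=
    (f.comp (normalizer (P : Set G)).subtype).codRestrict _ hle
  have hg : Function.Surjective g := by
    rintro ⟨y, hy⟩
    have hy' := hy
    rw [← hmap] at hy'
    obtain ⟨x, hx, rfl⟩ := hy'
    exact ⟨⟨x, hx⟩, rfl⟩
  let φ := (QuotientGroup.mk' ((centralizer ((P.map f : Subgroup H) : Set H)).subgroupOf
        (normalizer ((P.map f : Subgroup H) : Set H)))).comp g
  have hφ : Function.Surjective φ :=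
    (QuotientGroup.mk'_surjective _).comp hg
  have hker : φ.ker = (centralizer (P : Set G)).subgroupOf (normalizer (P : Set G)) := by
    ext ⟨x, hx⟩
    have hdisj : P ⊓ f.ker = ⊥ := by
      refine (disjoint_of_coprime_natCard ?_).eq_bot
      obtain ⟨n, hn⟩ := IsPGroup.iff_card.mp hP
      rw [hn]
      exact (Nat.Coprime.pow_right n hk).symm
    rw [MonoidHom.mem_ker]
    have h1 : φ ⟨x, hx⟩ = 1 ↔ f x ∈ centralizer ((P.map f : Subgroup H) : Set H) := by
      show QuotientGroup.mk' _ (g ⟨x, hx⟩) = 1 ↔ _
      rw [← MonoidHom.mem_ker, QuotientGroup.ker_mk', mem_subgroupOf]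
      rfl
    rw [h1, mem_subgroupOf, mem_centralizer_iff, mem_centralizer_iff]
    constructor
    · intro h y hy
      have h2 := h (f y) ⟨y, hy, rfl⟩
      have h3 : y * x * y⁻¹ * x⁻¹ ∈ P ⊓ f.ker := by
        refine ⟨?_, ?_⟩
        · have h4 : x * y⁻¹ * x⁻¹ ∈ P := (mem_normalizer_iff.1 hx _).1 (inv_mem hy)
          have : y * x * y⁻¹ * x⁻¹ = y * (x * y⁻¹ * x⁻¹) := by group
          rw [this]
          exact mul_mem hy h4
        · show f (y * x * y⁻¹ * x⁻¹) = 1
          simp only [map_mul, map_inv]
          rw [h2]; group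
      rw [hdisj, mem_bot] at h3
      have : y * x * y⁻¹ = x := by
        rw [mul_inv_eq_one] at h3
        exact h3
      show y * x = x * y
      rw [mul_inv_eq_iff_eq_mul] at this
      exact this
    · rintro h _ ⟨y, hy, rfl⟩
      have h2 := h y hy
      show f y * f x = f x * f y
      rw [← map_mul, ← map_mul]
      exact congrArg f h2
  exact mk_mem_pCore_iff p φ hφ _ hker ⟨a, ha⟩

end Cfsg.Agent.PLocal.PStableQuot
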